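import Mathlib.GroupTheory.SpecificGroups.Alternating
import Mathlib.GroupTheory.SpecificGroups.Alternating.Simple
import Mathlib.GroupTheory.GroupAction.Jordan
import Mathlib.GroupTheory.Perm.Fin
import Mathlib.Tactic

/-!
# The product action of `S_m ≀ S_k` on `Fin k → Fin m`

Definitions and elementary facts used in the elementary proof that this group is maximal among the
groups not containing the alternating group: product permutations, their signs, primitivity of the
groups containing the even ones, and the fact that a non-trivial subgroup normalised by such a group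
contains the alternating group on one coordinate.
-/

set_option autoImplicit false

namespace CfsgLib.ProductMax

open Equiv Equiv.Perm MulAction

variable {m k : ℕ}

/-- Tuples. -/
abbrev Pt (m k : ℕ) := Fin k → Fin m

@[simp] theorem one_symm_apply {α : Type*} (x : α) : (1 : Perm α).symm x = x := rfl

@[simp] theorem one_mul_symm_apply {α : Type*} (p : Perm α) (x : α) :
    ((1 : Perm α) * p).symm x = p.symm x := rfl

/-- The product permutation attached to a permutation of the coordinates and one permutation for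
each coordinate. -/
def prodPerm (π : Perm (Fin k)) (τ : Fin k → Perm (Fin m)) : Perm (Pt m k) where
  toFun f i := τ i (f (π.symm i))
  invFun f i := (τ (π i)).symm (f (π i))
  left_inv f := by funext i; simp
  right_inv f := by funext i; simp

@[simp] theorem prodPerm_apply (π : Perm (Fin k)) (τ : Fin k → Perm (Fin m)) (f : Pt m k) (i : Fin k) :
    prodPerm π τ f i = τ i (f (π.symm i)) := rfl

theorem prodPerm_mul (π π' : Perm (Fin k)) (τ τ' : Fin k → Perm (Fin m)) :
    prodPerm π τ * prodPerm π' τ' = prodPerm (π * π') (fun i => τ i * τ' (π.symm i)) := by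
  ext f i
  simp [Perm.mul_apply, Equiv.Perm.mul_def]

theorem prodPerm_one : prodPerm (1 : Perm (Fin k)) (1 : Fin k → Perm (Fin m)) = 1 := by
  ext f i; simp

theorem prodPerm_inv (π : Perm (Fin k)) (τ : Fin k → Perm (Fin m)) :
    (prodPerm π τ)⁻¹ = prodPerm π⁻¹ (fun i => (τ (π i))⁻¹) := by
  rw [inv_eq_iff_mul_eq_one, prodPerm_mul]
  ext f i
  simp

/-- The group of all product permutations. -/
def W (m k : ℕ) : Subgroup (Perm (Pt m k)) where
  carrier := {σ | ∃ π τ, σ = prodPerm π τ}
  one_mem' := ⟨1, 1, prodPerm_one.symm⟩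
  mul_mem' := by
    rintro _ _ ⟨π, τ, rfl⟩ ⟨π', τ', rfl⟩
    exact ⟨_, _, prodPerm_mul _ _ _ _⟩
  inv_mem' := by
    rintro _ ⟨π, τ, rfl⟩
    exact ⟨_, _, prodPerm_inv _ _⟩

theorem mem_W {σ : Perm (Pt m k)} : σ ∈ W m k ↔ ∃ π τ, σ = prodPerm π τ := Iff.rfl

theorem prodPerm_mem (π : Perm (Fin k)) (τ : Fin k → Perm (Fin m)) : prodPerm π τ ∈ W m k :=
  ⟨π, τ, rfl⟩

theorem mem_W_iff {σ : Perm (Pt m k)} :
    σ ∈ W m k ↔ ∃ (π : Perm (Fin k)) (τ : Fin k → Perm (Fin m)), ∀ f i, σ f i = τ i (f (π.symm i)) := by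
  constructor
  · rintro ⟨π, τ, rfl⟩; exact ⟨π, τ, fun _ _ => rfl⟩
  · rintro ⟨π, τ, h⟩; exact ⟨π, τ, by ext f i; rw [h]; rfl⟩

/-- The product permutation changing one coordinate only. -/
def coord (i : Fin k) : Perm (Fin m) →* Perm (Pt m k) where
  toFun α := prodPerm 1 (Function.update 1 i α)
  map_one' := by
    rw [show Function.update (1 : Fin k → Perm (Fin m)) i 1 = 1 by simp, prodPerm_one]
  map_mul' α β := by
    rw [prodPerm_mul]
    ext f j
    by_cases h : j = i <;> simp [h]

theorem coord_mem (i : Fin k) (α : Perm (Fin m)) : coord i α ∈ W m k := prodPerm_mem _ _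

theorem coord_apply (i : Fin k) (α : Perm (Fin m)) (f : Pt m k) :
    coord i α f = Function.update f i (α (f i)) := by
  funext j
  by_cases h : j = i
  · subst h; simp [coord]
  · simp [coord, h]

theorem sign_coord (i : Fin k) (α : Perm (Fin m)) :
    Perm.sign (coord i α) = Perm.sign α ^ (m ^ (k - 1)) := by
  classical
  have h : coord i α = (Equiv.funSplitAt i (Fin m)).symm.permCongr
      (Equiv.prodCongrLeft fun _ : ({j // j ≠ i} → Fin m) => α) := by
    ext f j
    by_cases hj : j = i
    · subst hj; simp [coord_apply, Equiv.funSplitAt, Equiv.piSplitAt]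
    · simp [coord_apply, Equiv.funSplitAt, Equiv.piSplitAt, hj]
  rw [h, sign_permCongr, sign_prodCongrLeft, Finset.prod_const, Finset.card_univ, Fintype.card_fun]
  simp

theorem sign_coord_even (i : Fin k) {α : Perm (Fin m)} (hα : Perm.sign α = 1) :
    Perm.sign (coord i α) = 1 := by
  rw [sign_coord, hα, one_pow]

theorem prodPerm_conj_coord (π : Perm (Fin k)) (τ : Fin k → Perm (Fin m)) (i : Fin k)
    (α : Perm (Fin m)) :
    prodPerm π τ * coord i α * (prodPerm π τ)⁻¹ = coord (π i) (τ (π i) * α * (τ (π i))⁻¹) := by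
  rw [mul_inv_eq_iff_eq_mul]
  ext f j
  rw [Perm.mul_apply, Perm.mul_apply, prodPerm_apply, coord_apply, coord_apply]
  by_cases h : j = π i
  · subst h; simp [Perm.mul_apply]
  · have h' : π.symm j ≠ i := fun e => h (by rw [← e]; simp)
    rw [Function.update_of_ne h, Function.update_of_ne h']; simp

/-- The base permutation attached to a tuple. -/
theorem base_eq_mul (τ : Fin k → Perm (Fin m)) (i : Fin k) :
    prodPerm 1 τ = coord i (τ i) * prodPerm 1 (Function.update τ i 1) := by
  show _ = prodPerm 1 _ * _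
  rw [prodPerm_mul]
  ext f j
  by_cases h : j = i
  · subst h; simp
  · simp [h]

theorem base_mem {G : Subgroup (Perm (Pt m k))} (τ : Fin k → Perm (Fin m))
    (h : ∀ i, coord i (τ i) ∈ G) : prodPerm 1 τ ∈ G := by
  classical
  suffices ∀ s : Finset (Fin k), ∀ τ : Fin k → Perm (Fin m),
      (∀ i, coord i (τ i) ∈ G) → (∀ i ∉ s, τ i = 1) → prodPerm 1 τ ∈ G from
    this Finset.univ τ h (fun i hi => absurd (Finset.mem_univ i) hi)
  intro s
  induction s using Finset.induction with
  | empty =>
    intro τ _ h1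
    rw [show τ = 1 from funext fun i => h1 i (Finset.notMem_empty i), prodPerm_one]
    exact G.one_mem
  | @insert a s has ih =>
    intro τ h h1
    rw [base_eq_mul τ a]
    refine G.mul_mem (h a) (ih _ (fun i => ?_) (fun i hi => ?_))
    · by_cases hia : i = a
      · subst hia; simp
      · simpa [hia] using h i
    · by_cases hia : i = a
      · simp [hia]
      · simpa [hia] using h1 i (by simp [hia, hi])

/-! ### Even permutations of `Fin m` -/

/-- Any prescription of at most three values by an injection extends to an even permutation. -/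
theorem exists_even {n : ℕ} (hm : n + 2 ≤ m) (p q : Fin n ↪ Fin m) :
    ∃ α : Perm (Fin m), Perm.sign α = 1 ∧ ∀ i, α (p i) = q i := by
  classical
  obtain ⟨σ, hσ⟩ := Equiv.Perm.exists_extending_pair p q p.injective q.injective
  rcases Int.units_eq_one_or (Perm.sign σ) with h | h
  · exact ⟨σ, h, hσ⟩
  · obtain ⟨x, hx, y, hy, hxy⟩ : ∃ x ∈ (Finset.univ.map q)ᶜ, ∃ y ∈ (Finset.univ.map q)ᶜ, x ≠ y :=
      Finset.one_lt_card.1 (by simp [Finset.card_compl]; omega)
    refine ⟨swap x y * σ, by simp [h, sign_swap hxy], fun i => ?_⟩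
    simp only [Finset.mem_compl, Finset.mem_map, Finset.mem_univ, true_and, not_exists] at hx hy
    rw [Perm.mul_apply, hσ i, swap_apply_of_ne_of_ne (hx i) (hy i)]

theorem exists_even_one (hm : 5 ≤ m) (a b : Fin m) :
    ∃ α : Perm (Fin m), Perm.sign α = 1 ∧ α a = b := by
  obtain ⟨α, h1, h2⟩ := exists_even (m := m) (n := 1) (by omega)
    ⟨fun _ => a, fun i j _ => Subsingleton.elim i j⟩ ⟨fun _ => b, fun i j _ => Subsingleton.elim i j⟩
  exact ⟨α, h1, h2 0⟩

theorem exists_even_two (hm : 5 ≤ m) {a b c d : Fin m} (hac : a ≠ c) (hbd : b ≠ d) :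
    ∃ α : Perm (Fin m), Perm.sign α = 1 ∧ α a = b ∧ α c = d := by
  have inj : ∀ {x y : Fin m}, x ≠ y → Function.Injective ![x, y] := by
    intro x y hxy i j
    fin_cases i <;> fin_cases j <;> simp [hxy, hxy.symm]
  obtain ⟨α, h1, h2⟩ := exists_even (m := m) (n := 2) (by omega) ⟨![a, c], inj hac⟩ ⟨![b, d], inj hbd⟩
  exact ⟨α, h1, by simpa using h2 0, by simpa using h2 1⟩

/-- Only the identity commutes with every even permutation. -/
theorem eq_one_of_commute_even (hm : 5 ≤ m) {γ : Perm (Fin m)}
    (h : ∀ δ : Perm (Fin m), Perm.sign δ = 1 → δ * γ = γ * δ) : γ = 1 := by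
  ext a : 1
  by_contra hne
  simp only [Perm.one_apply] at hne
  obtain ⟨b, hba, hbc⟩ : ∃ b, b ≠ a ∧ b ≠ γ a := by
    obtain ⟨b, hb⟩ := Finset.card_pos.1 (show 0 < ({a, γ a}ᶜ : Finset (Fin m)).card by
      rw [Finset.card_compl, Finset.card_pair (Ne.symm hne)]; simp; omega)
    simp at hb
    exact ⟨b, hb.1, hb.2⟩
  obtain ⟨δ, hδ, ha, hc⟩ := exists_even_two hm (a := a) (b := a) (c := γ a) (d := b) (Ne.symm hne)
    (Ne.symm hba)
  have := congrArg (fun e : Perm (Fin m) => e a) (h δ hδ)
  simp only [Perm.mul_apply] at this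
  rw [ha, hc] at this
  exact hbc this

/-! ### Good groups -/

/-- The group contains all even product permutations and induces all permutations of the coordinates. -/
structure Good (G : Subgroup (Perm (Pt m k))) : Prop where
  even_mem : ∀ g ∈ W m k, Perm.sign g = 1 → g ∈ G
  perm_mem : ∀ π, ∃ τ, prodPerm π τ ∈ G

theorem Good.mono {G G' : Subgroup (Perm (Pt m k))} (h : Good G) (hle : G ≤ G') : Good G' :=
  ⟨fun g hg hs => hle (h.even_mem g hg hs), fun π => (h.perm_mem π).imp fun _ hτ => hle hτ⟩

theorem Good.coord_mem_of_even {G : Subgroup (Perm (Pt m k))} (h : Good G) (i : Fin k)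
    {α : Perm (Fin m)} (hα : Perm.sign α = 1) : coord i α ∈ G :=
  h.even_mem _ (coord_mem i α) (sign_coord_even i hα)

theorem Good.base_mem_of_even {G : Subgroup (Perm (Pt m k))} (h : Good G)
    {τ : Fin k → Perm (Fin m)} (hτ : ∀ i, Perm.sign (τ i) = 1) : prodPerm 1 τ ∈ G :=
  base_mem τ fun i => h.coord_mem_of_even i (hτ i)

/-- A product permutation in the group can be corrected to fix a given point. -/
theorem Good.exists_fix (hm : 5 ≤ m) {G : Subgroup (Perm (Pt m k))} (h : Good G) (π : Perm (Fin k))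
    (a : Pt m k) : ∃ τ, prodPerm π τ ∈ G ∧ prodPerm π τ a = a := by
  obtain ⟨τ, hτ⟩ := h.perm_mem π
  choose σ hσ1 hσ2 using fun i => exists_even_one hm (prodPerm π τ a i) (a i)
  refine ⟨fun i => σ i * τ i, ?_, ?_⟩
  · have := G.mul_mem (h.base_mem_of_even hσ1) hτ
    rwa [prodPerm_mul, one_mul] at this
  · funext i
    simpa using hσ2 i

theorem W_mem_of_le_one (hk : k ≤ 1) (σ : Perm (Pt m k)) : σ ∈ W m k := by
  interval_cases k
  · exact ⟨1, 1, by ext f i; exact i.elim0⟩
  · let e : Pt m 1 ≃ Fin m := Equiv.funUnique (Fin 1) (Fin m)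
    refine ⟨1, fun _ => e.permCongr σ, ?_⟩
    ext f i
    obtain rfl : i = 0 := Subsingleton.elim _ _
    have h0 : (f (default : Fin 1)) = f 0 := rfl
    simp only [prodPerm_apply, Equiv.permCongr_apply]
    have he : e.symm (f ((1 : Perm (Fin 1)).symm 0)) = f := by
      rw [Equiv.symm_apply_eq]; rfl
    rw [he]
    rfl

theorem Good.isPreprimitive (hm : 5 ≤ m) {G : Subgroup (Perm (Pt m k))} (h : Good G) :
    IsPreprimitive G (Pt m k) := by
  have tr : IsPretransitive G (Pt m k) := ⟨fun a b => by
    choose τ h1 h2 using fun i => exists_even_one hm (a i) (b i)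
    exact ⟨⟨_, h.base_mem_of_even h1⟩, funext fun i => h2 i⟩⟩
  refine { isTrivialBlock_of_isBlock := fun {B} hB => ?_ }
  rcases B.subsingleton_or_nontrivial with hs | ⟨a, ha, b, hb, hab⟩
  · exact Or.inl hs
  right
  obtain ⟨i, hi⟩ := Function.ne_iff.1 hab
  have smem : ∀ g ∈ G, ∀ x ∈ B, g x ∈ B → ∀ y ∈ B, g y ∈ B := by
    intro g hg x hx hgx y hy
    have := hB.smul_eq_of_mem (g := (⟨g, hg⟩ : G)) hx hgx
    rw [← this]
    exact Set.smul_mem_smul_set hy
  -- the points of the `i`-line through `b` off the value of `a`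
  have line1 : ∀ x, x ≠ a i → Function.update b i x ∈ B := by
    intro x hx
    obtain ⟨α, hα, e1, e2⟩ := exists_even_two hm (a := a i) (b := a i) (c := b i) (d := x) hi (Ne.symm hx)
    have hm' := smem _ (h.coord_mem_of_even i hα) a ha (by rw [coord_apply, e1, Function.update_eq_self]; exact ha) b hb
    rwa [coord_apply, e2] at hm'
  have line2 : ∀ x, Function.update b i x ∈ B := by
    intro x
    rcases eq_or_ne x (a i) with rfl | hx
    · obtain ⟨y, hy1, hy2⟩ : ∃ y, y ≠ a i ∧ y ≠ b i := by
        obtain ⟨y, hy⟩ := Finset.card_pos.1 (show 0 < ({a i, b i}ᶜ : Finset (Fin m)).card by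
          rw [Finset.card_compl, Finset.card_pair hi]; simp; omega)
        simp at hy
        exact ⟨y, hy.1, hy.2⟩
      obtain ⟨α, hα, e1, e2⟩ := exists_even_two hm (a := b i) (b := y) (c := y) (d := a i)
        (Ne.symm hy2) hy1
      have hm' := smem _ (h.coord_mem_of_even i hα) b hb (by rw [coord_apply, e1]; exact line1 y hy1)
        _ (line1 y hy1)
      rwa [coord_apply, Function.update_self, e2, Function.update_idem] at hm'
    · exact line1 x hx
  -- coordinates whose even permutations preserve the block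
  have inv_i : ∀ {α : Perm (Fin m)}, Perm.sign α = 1 → ∀ y ∈ B, coord i α y ∈ B := fun hα y hy =>
    smem _ (h.coord_mem_of_even i hα) b hb (by rw [coord_apply]; exact line2 _) y hy
  have inv_all : ∀ (j : Fin k) {α : Perm (Fin m)}, Perm.sign α = 1 → ∀ y ∈ B, coord j α y ∈ B := by
    intro j α hα y hy
    obtain ⟨τ, hτ, hfix⟩ := h.exists_fix hm (swap i j) a
    have hinv : (prodPerm (swap i j) τ)⁻¹ a = a := by
      rw [Perm.inv_eq_iff_eq]; exact hfix.symm
    have hy' := smem _ (G.inv_mem hτ) a ha (by rw [hinv]; exact ha) y hy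
    set w := prodPerm (swap i j) τ
    have hc : coord j α = w * coord i ((τ j)⁻¹ * α * τ j) * w⁻¹ := by
      rw [prodPerm_conj_coord]; simp [mul_assoc]
    rw [hc, Perm.mul_apply, Perm.mul_apply]
    refine smem _ hτ a ha (by rw [hfix]; exact ha) _ (inv_i ?_ _ hy')
    simp [hα]
  ext f
  simp only [Set.mem_univ, iff_true]
  suffices ∀ s : Finset (Fin k), (fun j => if j ∈ s then f j else a j) ∈ B by simpa using this Finset.univ
  intro s
  induction s using Finset.induction with
  | empty => simpa using ha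
  | @insert j s hj ih =>
    obtain ⟨α, hα, hα2⟩ := exists_even_one hm (a j) (f j)
    convert inv_all j hα _ ih using 1
    rw [coord_apply]
    funext l
    by_cases hl : l = j
    · subst hl; simp [hj, hα2]
    · simp [hl]

theorem threeCycle_absurd (hm : 5 ≤ m) {G : Subgroup (Perm (Pt m k))} (h : Good G)
    (hA : ¬ alternatingGroup (Pt m k) ≤ G) {g : Perm (Pt m k)} (hg : g ∈ G)
    (h3 : g.IsThreeCycle) : False :=
  hA (alternatingGroup_le_of_isPreprimitive_of_isThreeCycle_mem (h.isPreprimitive hm) h3 hg)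

/-- The statement proved by induction on the number of coordinates. -/
def Dich (m k : ℕ) : Prop :=
  ∀ G : Subgroup (Perm (Pt m k)), Good G → G ≤ W m k ∨ alternatingGroup (Pt m k) ≤ G

theorem five_le_card (hm : 5 ≤ m) (hk : 1 ≤ k) : 5 ≤ Nat.card (Pt m k) := by
  simp only [Nat.card_eq_fintype_card, Fintype.card_fun, Fintype.card_fin]
  calc 5 ≤ m ^ 1 := by simpa
    _ ≤ m ^ k := Nat.pow_le_pow_right (by omega) hk

/-- Only the identity commutes with all even coordinate permutations. -/
theorem eq_one_of_commute_coord (hm : 5 ≤ m) {p : Perm (Pt m k)}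
    (h : ∀ i α, Perm.sign α = 1 → coord i α * p = p * coord i α) : p = 1 := by
  ext f i
  by_contra hne
  simp only [Perm.one_apply] at hne
  obtain ⟨b, hb1, hb2⟩ : ∃ b, b ≠ f i ∧ b ≠ p f i := by
    obtain ⟨b, hb⟩ := Finset.card_pos.1 (show 0 < ({f i, p f i}ᶜ : Finset (Fin m)).card by
      rw [Finset.card_compl, Finset.card_pair (fun e => hne (by simp [e]))]; simp; omega)
    simp at hb
    exact ⟨b, hb.1, hb.2⟩
  obtain ⟨α, hα, e1, e2⟩ := exists_even_two hm (a := f i) (b := f i) (c := p f i) (d := b)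
    (fun e => hne (by simp [e])) (Ne.symm hb1)
  have := congrArg (fun e : Perm (Pt m k) => e f i) (h i α hα)
  simp only [Perm.mul_apply, coord_apply, e1, Function.update_eq_self, Function.update_self, e2] at this
  exact hb2 this

/-- A non-trivial subgroup normalised by a good group contains the alternating group on some
coordinate. -/
theorem exists_coord_le (hm : 5 ≤ m) (IH : Dich m k) {P : Subgroup (Perm (Pt m k))} (hP : P ≠ ⊥)
    (hN : Good (Subgroup.normalizer (P : Set (Perm (Pt m k))))) :
    ∃ i, ∀ α : Perm (Fin m), Perm.sign α = 1 → coord i α ∈ P := by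
  classical
  obtain ⟨p, hp, hp1⟩ : ∃ p ∈ P, p ≠ 1 := by
    by_contra! hc
    exact hP ((Subgroup.eq_bot_iff_forall P).2 hc)
  obtain ⟨i, α, hα, hne⟩ : ∃ i α, Perm.sign α = 1 ∧ coord i α * p ≠ p * coord i α := by
    by_contra! hc
    exact hp1 (eq_one_of_commute_coord hm hc)
  have hcomm : p * coord i α * p⁻¹ * (coord i α)⁻¹ ∈ P := by
    have : coord i α * p⁻¹ * (coord i α)⁻¹ ∈ P :=
      (Subgroup.mem_normalizer_iff.1 (hN.coord_mem_of_even i hα) _).1 (P.inv_mem hp)
    simpa [mul_assoc] using P.mul_mem hp this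
  have hcomm1 : p * coord i α * p⁻¹ * (coord i α)⁻¹ ≠ 1 := fun e => hne (by
    rw [mul_inv_eq_one, mul_inv_eq_iff_eq_mul] at e; exact e.symm)
  rcases IH _ hN with hW | hA
  · obtain ⟨π, τ, rfl⟩ := hW (Subgroup.le_normalizer hp)
    set γ : Perm (Fin m) := τ (π i) * α * (τ (π i))⁻¹
    set q := prodPerm π τ * coord i α * (prodPerm π τ)⁻¹ * (coord i α)⁻¹ with hq
    obtain ⟨ρ, hρ, hρs⟩ : ∃ ρ : Fin k → Perm (Fin m), q = prodPerm 1 ρ ∧ ∀ l, Perm.sign (ρ l) = 1 := by
      rw [hq, prodPerm_conj_coord, ← map_inv]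
      refine ⟨_, (prodPerm_mul _ _ _ _).trans (by simp; rfl), fun l => ?_⟩
      simp only [Pi.mul_apply, Function.update_apply]
      split_ifs <;> simp [hα]
    obtain ⟨l, hl⟩ : ∃ l, ρ l ≠ 1 := by
      by_contra! hc
      exact hcomm1 (by rw [hρ, show ρ = 1 from funext hc, prodPerm_one])
    -- the even permutations whose copy on coordinate `l` lies in `P`
    let N : Subgroup (alternatingGroup (Fin m)) :=
      P.comap ((coord l).comp (alternatingGroup (Fin m)).subtype)
    have : N.Normal := ⟨fun x hx g => by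
      have hg := (Subgroup.mem_normalizer_iff.1 (hN.coord_mem_of_even l (mem_alternatingGroup.1 g.2)) _).1 hx
      simpa [N, Subgroup.mem_comap, map_mul] using hg⟩
    haveI := alternatingGroup.isSimpleGroup (α := Fin m) (by simpa using hm)
    rcases IsSimpleGroup.eq_bot_or_eq_top_of_normal N inferInstance with hb | ht
    · exfalso
      refine hl (eq_one_of_commute_even hm fun δ hδ => ?_)
      have hd := hN.coord_mem_of_even l hδ
      have h1 : coord l δ * q * (coord l δ)⁻¹ * q⁻¹ ∈ P :=
        P.mul_mem ((Subgroup.mem_normalizer_iff.1 hd _).1 hcomm) (P.inv_mem hcomm)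
      have h2 : coord l δ * q * (coord l δ)⁻¹ * q⁻¹ = coord l (δ * ρ l * δ⁻¹ * (ρ l)⁻¹) := by
        rw [hρ, ← map_inv, prodPerm_inv]
        show prodPerm 1 _ * _ * prodPerm 1 _ * _ = prodPerm 1 _
        rw [prodPerm_mul, prodPerm_mul, prodPerm_mul]
        ext f j
        by_cases hj : j = l
        · subst hj; simp [Function.update_apply]
        · simp [hj]
      rw [h2] at h1
      have h3 : (⟨δ * ρ l * δ⁻¹ * (ρ l)⁻¹, by simp [mem_alternatingGroup, hδ, hρs l]⟩ :
          alternatingGroup (Fin m)) ∈ N := h1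
      rw [hb, Subgroup.mem_bot] at h3
      have h4 := congrArg Subtype.val h3
      simp only [OneMemClass.coe_one] at h4
      rw [mul_inv_eq_one, mul_inv_eq_iff_eq_mul] at h4
      exact h4
    · exact ⟨l, fun β hβ => by
        have : (⟨β, mem_alternatingGroup.2 hβ⟩ : alternatingGroup (Fin m)) ∈ N := ht ▸ Subgroup.mem_top _
        exact this⟩
  · -- the alternating group normalises, hence lies in, `P`
    have hk : 1 ≤ k := i.pos
    let N : Subgroup (alternatingGroup (Pt m k)) := P.subgroupOf (alternatingGroup (Pt m k))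
    have : N.Normal := ⟨fun x hx g => (Subgroup.mem_normalizer_iff.1 (hA g.2) _).1 hx⟩
    haveI := alternatingGroup.isSimpleGroup (α := Pt m k) (five_le_card hm hk)
    have hmem : p * coord i α * p⁻¹ * (coord i α)⁻¹ ∈ alternatingGroup (Pt m k) := by
      simp [mem_alternatingGroup, sign_coord_even i hα]
    rcases IsSimpleGroup.eq_bot_or_eq_top_of_normal N inferInstance with hb | ht
    · exfalso
      have h3 : (⟨_, hmem⟩ : alternatingGroup (Pt m k)) ∈ N := hcomm
      rw [hb, Subgroup.mem_bot] at h3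
      exact hcomm1 (congrArg Subtype.val h3)
    · exact ⟨i, fun β hβ => by
        have : (⟨coord i β, mem_alternatingGroup.2 (sign_coord_even i hβ)⟩ :
            alternatingGroup (Pt m k)) ∈ N := ht ▸ Subgroup.mem_top _
        exact this⟩

end CfsgLib.ProductMax
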