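import Cfsg.Agent.Lib.ProductMax.Main

/-!
# Parity of coordinate permutations, and maximality
-/

set_option autoImplicit false

namespace CfsgLib.ProductMax

open Equiv Equiv.Perm MulAction

variable {m k : ℕ}

theorem sign_prodCongr {α β : Type*} [Fintype α] [Fintype β] [DecidableEq α] [DecidableEq β]
    (f : Perm α) (g : Perm β) :
    Perm.sign (Equiv.prodCongr f g) = Perm.sign f ^ Fintype.card β * Perm.sign g ^ Fintype.card α := by
  have h : Equiv.prodCongr f g =
      (Equiv.prodCongrLeft fun _ : β => f) * Equiv.prodCongrRight fun _ : α => g :=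
    Equiv.ext fun ⟨a, b⟩ => rfl
  rw [h, Perm.sign_mul, sign_prodCongrLeft, sign_prodCongrRight, Finset.prod_const, Finset.prod_const,
    Finset.card_univ, Finset.card_univ]

theorem units_pow_even (u : ℤˣ) {n : ℕ} (hn : Even n) : u ^ n = 1 := by
  obtain ⟨t, rfl⟩ := hn
  rw [← two_mul, pow_mul, Int.units_pow_two, one_pow]

theorem sign_prodComm (h : 4 ∣ m) : Perm.sign (Equiv.prodComm (Fin m) (Fin m)) = 1 := by
  obtain ⟨q, rfl⟩ := h
  let e : Fin 2 × Fin (2 * q) ≃ Fin (4 * q) := finProdFinEquiv.trans (finCongr (by ring))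
  let E : (Fin 2 × Fin 2) × (Fin (2 * q) × Fin (2 * q)) ≃ Fin (4 * q) × Fin (4 * q) :=
    (Equiv.prodProdProdComm _ _ _ _).trans (e.prodCongr e)
  have hE : (Equiv.prodComm (Fin (4 * q)) (Fin (4 * q))) =
      E.permCongr (Equiv.prodCongr (Equiv.prodComm (Fin 2) (Fin 2)) (Equiv.prodComm (Fin (2 * q)) (Fin (2 * q)))) := by
    refine Equiv.ext fun x => ?_
    obtain ⟨⟨⟨a, a'⟩, b, b'⟩, rfl⟩ := E.surjective x
    simp [E]
  rw [hE, sign_permCongr, sign_prodCongr, units_pow_even _ ?_, units_pow_even _ ?_, one_mul]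
  all_goals simp [Nat.even_mul, show Even 4 from ⟨2, rfl⟩]

theorem sign_swap_coords {j : ℕ} (hm : Even m) (h : j = 0 → 4 ∣ m) :
    Perm.sign (prodPerm (m := m) (swap (0 : Fin (j + 2)) 1) 1) = 1 := by
  let E : (Fin m × Fin m) × Pt m j ≃ Pt m (j + 2) :=
    ((Equiv.prodAssoc _ _ _).trans ((Equiv.refl _).prodCongr (Fin.consEquiv fun _ => Fin m))).trans
      (Fin.consEquiv fun _ => Fin m)
  have hE : prodPerm (m := m) (swap (0 : Fin (j + 2)) 1) 1 =
      E.permCongr (Equiv.prodCongr (Equiv.prodComm (Fin m) (Fin m)) (Equiv.refl (Pt m j))) := by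
    refine Equiv.ext fun f => ?_
    obtain ⟨⟨⟨a, b⟩, g⟩, rfl⟩ := E.surjective f
    funext l
    simp only [prodPerm_apply, Pi.one_apply, Perm.one_apply, Equiv.permCongr_apply, Equiv.symm_apply_apply,
      symm_swap]
    refine Fin.cases ?_ (fun l => ?_) l
    · rw [swap_apply_left]; rfl
    · refine Fin.cases ?_ (fun l => ?_) l
      · rw [show (Fin.succ (0 : Fin (j + 1))) = 1 from rfl, swap_apply_right]; rfl
      · rw [swap_apply_of_ne_of_ne (Fin.succ_ne_zero _) (by simp [Fin.ext_iff])]; rfl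
  rw [hE, sign_permCongr, sign_prodCongr]
  rcases Nat.eq_zero_or_pos j with rfl | hj
  · simp [sign_prodComm (h rfl)]
  · rw [units_pow_even _ (by simpa using hm.pow_of_ne_zero hj.ne'),
      show (Equiv.refl (Pt m j)) = 1 from rfl, map_one, one_pow, one_mul]

theorem exists_even_prodPerm (hm : 5 ≤ m) (hk : 2 ≤ k) (h : ¬(k = 2 ∧ m % 4 = 2)) (π : Perm (Fin k)) :
    ∃ τ, Perm.sign (prodPerm (m := m) π τ) = 1 := by
  rcases Nat.even_or_odd m with he | ho
  swap
  · obtain ⟨τ, -, h1 | h1⟩ := exists_isLift_perm (m := m) hm π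
    · exact absurd h1 (Nat.not_even_iff_odd.2 ho)
    · exact ⟨τ, h1⟩
  obtain ⟨j, rfl⟩ : ∃ j, k = j + 2 := ⟨k - 2, by omega⟩
  have h4 : j = 0 → 4 ∣ m := fun hj => by
    obtain ⟨t, rfl⟩ := he
    omega
  let φ : Perm (Fin (j + 2)) →* ℤˣ :=
    Perm.sign.comp
      { toFun := fun π => prodPerm (m := m) π 1
        map_one' := prodPerm_one
        map_mul' := fun π π' => by
          rw [prodPerm_mul]
          congr 1 }
  have hsw : ∀ x y, x ≠ y → φ (swap x y) = 1 := by
    intro x y hxy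
    obtain ⟨c, hc⟩ := isConj_iff.1 (isConj_swap (show (0 : Fin (j + 2)) ≠ 1 by simp) hxy)
    rw [← hc, map_mul, map_mul, map_inv, mul_right_comm, mul_inv_cancel, one_mul]
    exact sign_swap_coords he h4
  refine ⟨1, show φ π = 1 from ?_⟩
  induction π using Equiv.Perm.swap_induction_on with
  | one => exact map_one φ
  | swap_mul f x y hxy ih => rw [map_mul, hsw x y hxy, ih, one_mul]

theorem four_le_moved (hm : 5 ≤ m) (hk : 2 ≤ k) {g : Perm (Pt m k)} (hg : g ∈ W m k) (h1 : g ≠ 1) :
    4 ≤ g.support.card := by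
  classical
  obtain ⟨π, τ, rfl⟩ := mem_W.1 hg
  have hp : 5 ≤ m ^ (k - 1) := le_trans (by simpa using hm) (Nat.pow_le_pow_right (show 1 ≤ m by omega) (show 1 ≤ k - 1 by omega))
  by_cases hπ : π = 1
  · subst hπ
    obtain ⟨i, a, ha⟩ : ∃ i a, τ i a ≠ a := by
      by_contra! hc
      exact h1 (by rw [show τ = 1 from funext fun i => Equiv.ext (hc i), prodPerm_one])
    have : slice i a ⊆ (prodPerm (1 : Perm (Fin k)) τ).support := fun f hf => by
      rw [Perm.mem_support]
      intro e
      have := congrFun e i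
      rw [prodPerm_apply] at this
      simp [mem_slice.1 hf, ha] at this
    have := Finset.card_le_card this
    rw [card_slice] at this
    omega
  · have := card_le_of_fixed hπ (by omega) (F := (prodPerm π τ).supportᶜ) (fun f hf => by
      simpa using hf)
    rw [Finset.card_compl, Fintype.card_fun, Fintype.card_fin, Fintype.card_fin] at this
    have hsplit : m ^ k = m ^ (k - 1) * m := by rw [← pow_succ, Nat.sub_add_cancel (by omega)]
    have h5 : m ^ (k - 1) * 5 ≤ m ^ (k - 1) * m := Nat.mul_le_mul_left _ hm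
    omega

theorem exists_threeCycle_notMem (hm : 5 ≤ m) (hk : 2 ≤ k) :
    ∃ g : Perm (Pt m k), Perm.sign g = 1 ∧ g ∉ W m k := by
  classical
  have h5 : 5 ≤ Fintype.card (Pt m k) := by
    rw [← Nat.card_eq_fintype_card]; exact five_le_card hm (by omega)
  obtain ⟨e⟩ : Nonempty (Fin 5 ↪ Pt m k) := Function.Embedding.nonempty_of_card_le (by simpa using h5)
  have h3 : (swap (e 0) (e 1) * swap (e 0) (e 2)).IsThreeCycle :=
    isThreeCycle_swap_mul_swap_same (e.injective.ne (by decide)) (e.injective.ne (by decide))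
      (e.injective.ne (by decide))
  refine ⟨_, h3.sign, fun hW => ?_⟩
  have := four_le_moved hm hk hW (fun e1 => by
    have := h3.card_support
    rw [e1, support_one] at this
    simp at this)
  rw [h3.card_support] at this
  omega

/-- The even product permutations form a maximal subgroup of the alternating group. -/
theorem isCoatom_alternating (hm : 5 ≤ m) (hk : 2 ≤ k) (h : ¬(k = 2 ∧ m % 4 = 2)) :
    IsCoatom ((W m k).subgroupOf (alternatingGroup (Pt m k))) := by
  refine ⟨fun e => ?_, fun N hN => ?_⟩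
  · obtain ⟨g, hg, hgW⟩ := exists_threeCycle_notMem hm hk
    exact hgW (show (⟨g, hg⟩ : alternatingGroup (Pt m k)) ∈ (W m k).subgroupOf _ by
      rw [e]; exact Subgroup.mem_top _)
  · have hgood : Good (N.map (alternatingGroup (Pt m k)).subtype) := by
      refine ⟨fun g hg hs => ⟨⟨g, hs⟩, hN.le hg, rfl⟩, fun π => ?_⟩
      obtain ⟨τ, hτ⟩ := exists_even_prodPerm hm hk h π
      exact ⟨τ, ⟨⟨_, hτ⟩, hN.le (prodPerm_mem π τ), rfl⟩⟩
    rcases dich hm k _ hgood with h1 | h1
    · exact absurd (show N ≤ (W m k).subgroupOf _ from fun x hx => h1 ⟨x, hx, rfl⟩) hN.not_ge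
    · refine eq_top_iff.2 fun x _ => ?_
      obtain ⟨y, hy, e⟩ := h1 x.2
      rwa [← Subtype.ext e]

/-- The product permutations form a maximal subgroup of the symmetric group if one of them is odd. -/
theorem isCoatom_symmetric (hm : 5 ≤ m) (hk : 2 ≤ k) {σ : Perm (Pt m k)} (hσ : σ ∈ W m k)
    (hs : Perm.sign σ = -1) : IsCoatom (W m k) := by
  refine ⟨fun e => ?_, fun N hN => ?_⟩
  · obtain ⟨g, -, hgW⟩ := exists_threeCycle_notMem hm hk
    exact hgW (e ▸ Subgroup.mem_top g)
  · have hgood : Good N := ⟨fun g hg _ => hN.le hg, fun π => ⟨1, hN.le (prodPerm_mem π 1)⟩⟩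
    rcases dich hm k _ hgood with h1 | h1
    · exact absurd h1 hN.not_ge
    · refine eq_top_iff.2 fun x _ => ?_
      rcases Int.units_eq_one_or (Perm.sign x) with e | e
      · exact h1 e
      · have := h1 (show σ * x ∈ alternatingGroup (Pt m k) by simp [hs, e])
        exact (N.mul_mem_cancel_left (hN.le hσ)).1 this

end CfsgLib.ProductMax
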