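import Cfsg.Agent.Lib.ProductMax.Pieces
import Mathlib.GroupTheory.Sylow
import Mathlib.GroupTheory.Nilpotent

/-!
# An element fixing a slice changes only the first coordinate
-/

set_option autoImplicit false

namespace CfsgLib.ProductMax

open Equiv Equiv.Perm MulAction

variable {m k : ℕ} {H : Subgroup (Perm (Pt m (k + 1)))}

section Piece

variable {S : Finset (Fin m)} {b : Fin m}

theorem mk_trivial (h : Setup m k H) (hS : S ≠ Finset.univ) (hbS : b ∈ S) (h4 : 4 ≤ S.card)
    {π ρ : Perm (Pt m k)} {β : Pt m k → Perm (Fin m)} (hβ : ∀ g, β g ∈ cen (S.erase b))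
    (hz : mk b (S.erase b) π ρ β ∈ H) : π = 1 ∧ ρ = 1 := by
  classical
  set T := S.erase b with hT
  have hbT : b ∉ T := Finset.notMem_erase b S
  have hT3 : 3 ≤ T.card := by rw [hT, Finset.card_erase_of_mem hbS]; omega
  have wi : ∀ {γ : Pt m k → Perm (Fin m)}, (∀ g, γ g ∈ cen T) → ∀ g, γ g ∈ within T :=
    fun hγ g => (hγ g).1
  have hmono : T ⊆ S := Finset.erase_subset b S
  -- the part with trivial permutation of the lines
  let P1 : Subgroup (Perm (Pt m k)) :=
    { carrier := {ρ | ∃ β : Pt m k → Perm (Fin m), (∀ g, β g ∈ cen T) ∧ mk b T 1 ρ β ∈ H}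
      one_mem' := ⟨1, fun g => one_mem _, by rw [mk_one]; exact H.one_mem⟩
      mul_mem' := by
        rintro ρ ρ' ⟨β, hβ, hm1⟩ ⟨β', hβ', hm2⟩
        refine ⟨fun g => β g * β' ((1 : Perm (Pt m k))⁻¹ g), fun g => mul_mem (hβ g) (hβ' _), ?_⟩
        have := H.mul_mem hm1 hm2
        rwa [mk_mul hbT (wi hβ) (wi hβ'), one_mul] at this
      inv_mem' := by
        rintro ρ ⟨β, hβ, hm1⟩
        refine ⟨fun g => (β ((1 : Perm (Pt m k)) g))⁻¹, fun g => inv_mem (hβ _), ?_⟩
        have := H.inv_mem hm1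
        rwa [mk_inv hbT (wi hβ), inv_one] at this }
  have norm : ∀ {P : Subgroup (Perm (Pt m k))}, (∀ u, IsLift u → ∀ p ∈ P, u * p * u⁻¹ ∈ P) →
      Good (Subgroup.normalizer (P : Set (Perm (Pt m k)))) := fun {P} hP =>
    good_of_isLift h.hm fun u hu => Subgroup.mem_normalizer_iff.2 fun p => ⟨hP u hu p, fun hp => by
      -- conjugation by a lift is injective on a finite set
      have hinj : Function.Injective fun q : P => (⟨u * q * u⁻¹, hP u hu q q.2⟩ : P) := fun q q' e => by
        ext1; simpa using congrArg Subtype.val e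
      obtain ⟨q, hq⟩ := (Finite.injective_iff_surjective.1 hinj) ⟨_, hp⟩
      have := congrArg Subtype.val hq
      simp only [mul_left_inj, mul_right_inj] at this
      exact this ▸ q.2⟩
  have hP1 : P1 = ⊥ := by
    by_contra hne
    obtain ⟨i, hi⟩ := exists_coord_le h.hm h.IH hne (norm fun u hu ρ hρ => by
      obtain ⟨β, hβ, hmem⟩ := hρ
      refine ⟨fun g => β (u⁻¹ g), fun g => hβ _, ?_⟩
      have := H.mul_mem (H.mul_mem (h.lift_mem hu) hmem) (H.inv_mem (h.lift_mem hu))
      rwa [mk_conj_lift hbT (wi hβ), mul_one, mul_inv_cancel] at this)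
    obtain ⟨α, δ, hα, hδ, hne'⟩ := exists_coord_noncomm h.hm i
    obtain ⟨β1, hβ1, hm1⟩ := hi α hα
    obtain ⟨β2, hβ2, hm2⟩ := hi δ hδ
    refine hne' ?_
    set c := mk b T 1 (coord i α) β1 * mk b T 1 (coord i δ) β2 *
      (mk b T 1 (coord i δ) β2 * mk b T 1 (coord i α) β1)⁻¹ with hc
    have hcH : c ∈ H := H.mul_mem (H.mul_mem hm1 hm2) (H.inv_mem (H.mul_mem hm2 hm1))
    have e1 : ∀ {v : Fin m} (g : Pt m k), v ∈ T → c (pt v g) = pt v g := by
      intro v g hv
      rw [hc, mk_mul hbT (wi hβ1) (wi hβ2), mk_mul hbT (wi hβ2) (wi hβ1)]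
      have : (fun g => β1 g * β2 ((1 : Perm (Pt m k))⁻¹ g)) = fun g => β2 g * β1 ((1 : Perm (Pt m k))⁻¹ g) :=
        funext fun g => by simpa using cen_comm hT3 (hβ1 g) (hβ2 g)
      rw [this, mk_inv hbT (fun g => mul_mem (wi hβ2 g) (wi hβ1 _)),
        mk_mul hbT (fun g => mul_mem (wi hβ2 g) (wi hβ1 _))
          (fun g => inv_mem (mul_mem (wi hβ2 _) (wi hβ1 _))), mk_pt_mem hv]
      simp
    have hc1 : c = 1 := h.eq_one_of_single (v := b) ⟨hcH, fun f hf => by
      rw [Finset.mem_singleton] at hf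
      rw [← pt_tl f]
      by_cases hv : f 0 ∈ T
      · exact e1 _ hv
      · rw [hc, mk_mul hbT (wi hβ1) (wi hβ2), mk_mul hbT (wi hβ2) (wi hβ1),
          mk_inv hbT (fun g => mul_mem (wi hβ2 g) (wi hβ1 _)), Perm.mul_apply,
          mk_pt_out (fun g => inv_mem (mul_mem (wi hβ2 _) (wi hβ1 _))) hv hf,
          mk_pt_out (fun g => mul_mem (wi hβ1 g) (wi hβ2 _)) hv hf]⟩
    rw [hc, mul_inv_eq_one] at hc1
    refine Equiv.ext fun g => ?_
    have := congrArg (fun e : Perm (Pt m (k + 1)) => e (pt b g)) hc1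
    simp only [Perm.mul_apply] at this ⊢
    rw [mk_pt_b hbT (wi hβ2), mk_pt_b hbT (wi hβ1), mk_pt_b hbT (wi hβ1), mk_pt_b hbT (wi hβ2),
      pt_inj] at this
    exact this.2
  have hA : ∀ {ρ β}, (∀ g, β g ∈ cen T) → mk b T 1 ρ β ∈ H → ρ = 1 ∧ ∃ c, β = fun _ => c := by
    intro ρ β hβ hm1
    have : ρ ∈ P1 := ⟨β, hβ, hm1⟩
    rw [hP1, Subgroup.mem_bot] at this
    subst this
    rw [mk_of_line hbT (wi hβ)] at hm1
    exact ⟨rfl, h.line_const hm1⟩
  -- no involution
  have hB : ∀ {π ρ β}, (∀ g, β g ∈ cen T) → mk b T π ρ β ∈ H → π * π = 1 → π = 1 := by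
    intro π ρ β hβ hz hπ
    have hπi : π⁻¹ = π := inv_eq_of_mul_eq_one_right hπ
    have hππ : ∀ g, π (π g) = g := fun g => by rw [← Perm.mul_apply, hπ]; rfl
    have hsq := H.mul_mem hz hz
    rw [mk_mul hbT (wi hβ) (wi hβ), hπ, hπi] at hsq
    obtain ⟨hρ2, c, hc⟩ := hA (fun g => mul_mem (hβ g) (hβ _)) hsq
    obtain ⟨x, hx, y, hy, hxy⟩ := Finset.one_lt_card.1 (show 1 < T.card by omega)
    obtain ⟨v1, hv1⟩ : ∃ v1, v1 ∉ S := by
      by_contra! e; exact hS (Finset.eq_univ_iff_forall.2 e)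
    have hv1T : v1 ∉ T := fun e => hv1 (hmono e)
    have hv1b : v1 ≠ b := fun e => hv1 (e ▸ hbS)
    set w := swap x y * swap b v1 with hw
    have hwH : rect (k := k) w 1 ∈ H := h.rect_even_mem (by
      simp [hw, sign_swap hxy, sign_swap hv1b.symm])
    set p' : Fin m → Perm (Pt m k) := fun v => if v = b ∨ v = v1 then ρ else 1 with hp'
    set γ : Pt m k → Perm (Fin m) := fun g => β g * (β (π g))⁻¹ with hγ
    have hγc : ∀ g, γ g ∈ cen T := fun g => mul_mem (hβ g) (inv_mem (hβ _))
    have hwi : w⁻¹ = w := by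
      have hd : Disjoint (swap x y) (swap b v1) := by
        intro v
        by_cases hv : v = b ∨ v = v1
        · left
          rcases hv with rfl | rfl
          · exact swap_apply_of_ne_of_ne (by rintro rfl; exact hbT hx) (by rintro rfl; exact hbT hy)
          · exact swap_apply_of_ne_of_ne (by rintro rfl; exact hv1T hx) (by rintro rfl; exact hv1T hy)
        · right
          push Not at hv
          exact swap_apply_of_ne_of_ne hv.1 hv.2
      rw [hw, mul_inv_rev, swap_inv, swap_inv, hd.commute.eq]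
    have hwT : ∀ {v}, v ∈ T → w v = swap x y v := fun {v} hv => by
      rw [hw, Perm.mul_apply, swap_apply_of_ne_of_ne (a := b) (b := v1) (x := v)
        (fun e => hbT (by rw [← e]; exact hv)) (fun e => hv1T (by rw [← e]; exact hv))]
    have hwb : w b = v1 := by
      rw [hw, Perm.mul_apply, swap_apply_left,
        swap_apply_of_ne_of_ne (fun e => hv1T (by rw [e]; exact hx)) (fun e => hv1T (by rw [e]; exact hy))]
    have hwv1 : w v1 = b := by
      rw [hw, Perm.mul_apply, swap_apply_right,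
        swap_apply_of_ne_of_ne (fun e => hbT (by rw [e]; exact hx)) (fun e => hbT (by rw [e]; exact hy))]
    have hwo : ∀ {v}, v ∉ T → v ≠ b → v ≠ v1 → w v = v := fun {v} h1 h2 h3 => by
      rw [hw, Perm.mul_apply, swap_apply_of_ne_of_ne h2 h3,
        swap_apply_of_ne_of_ne (fun e => h1 (by rw [e]; exact hx)) (fun e => h1 (by rw [e]; exact hy))]
    have hx0 : mk b T π ρ β * (rect w 1 * mk b T π ρ β * (rect w 1)⁻¹) = lineMap γ * sliceMap p' := by
      refine ext_pt fun v g => ?_
      simp only [Perm.mul_apply, rect_inv, inv_one, hwi, rect_pt, Perm.one_apply, sliceMap_pt, lineMap_pt]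
      by_cases hv : v ∈ T
      · rw [hwT hv, mk_pt_mem (within_mem (swap_mem_within hx hy) hv), rect_pt]
        have hvT : swap x y v ∈ T := within_mem (swap_mem_within hx hy) hv
        rw [hwT (within_mem (wi hβ _) hvT)]
        have e : swap x y (β (π g) (swap x y v)) = (β (π g))⁻¹ v := by
          have := congrArg (fun e : Perm (Fin m) => e v) ((cen_prop hT3 (hβ (π g))).2.2 x hx y hy hxy)
          simpa using this
        rw [e, Perm.one_apply, mk_pt_mem (within_mem (inv_mem (wi hβ _)) hv), hππ]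
        have h1 : p' v = 1 := if_neg (by
          rintro (rfl | rfl)
          exacts [hbT hv, hv1T hv])
        simp [h1, hγ]
      · have hγv : ∀ g', γ g' v = v := fun g' => wi hγc g' v hv
        rw [hγv]
        by_cases hvb : v = b
        · subst hvb
          rw [hwb, mk_pt_out (wi hβ) hv1T hv1b, rect_pt, hwv1, Perm.one_apply, mk_pt_b hbT (wi hβ)]
          simp [hp']
        by_cases hvv : v = v1
        · subst hvv
          rw [hwv1, mk_pt_b hbT (wi hβ), rect_pt, hwb, Perm.one_apply, mk_pt_out (wi hβ) hv hvb]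
          simp [hp']
        · rw [hwo hv hvb hvv, mk_pt_out (wi hβ) hv hvb, rect_pt, hwo hv hvb hvv, Perm.one_apply,
            mk_pt_out (wi hβ) hv hvb]
          simp [hp', hvb, hvv]
    have hx0H : lineMap γ * sliceMap p' ∈ H := by
      rw [← hx0]
      exact H.mul_mem hz (H.mul_mem (H.mul_mem hwH hz) (H.inv_mem hwH))
    have hcom : Commute (lineMap γ) (sliceMap p') := ext_pt fun v g => by
      simp only [Perm.mul_apply, sliceMap_pt, lineMap_pt]
      by_cases hv : v ∈ T
      · have h1 : ∀ u ∈ T, p' u = 1 := fun u hu => if_neg (by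
          rintro (rfl | rfl)
          exacts [hbT hu, hv1T hu])
        rw [h1 v hv, h1 _ (within_mem (wi hγc g) hv)]
        rfl
      · rw [wi hγc g v hv, wi hγc (p' v g) v hv]
    have hγ3 : γ ^ 3 = 1 := funext fun g => (cen_prop hT3 (hγc g)).2.1
    have h3 := H.pow_mem hx0H 3
    rw [hcom.mul_pow, ← map_pow, hγ3, map_one, one_mul, ← map_pow] at h3
    have hρ1 : ρ = 1 := by
      have := congrFun (h.eq_one_of_slices (S := {b, v1}) (fun e => by
          have := congrArg Finset.card e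
          rw [Finset.card_pair hv1b.symm, Finset.card_univ, Fintype.card_fin] at this
          have := h.hm
          omega) h3 (fun v hv => by
          simp only [Finset.mem_insert, Finset.mem_singleton] at hv
          simp [hp', hv])) b
      simp only [hp', Pi.pow_apply, true_or, if_true, Pi.one_apply] at this
      rwa [pow_succ, pow_two, hρ2, one_mul] at this
    subst hρ1
    have hp1 : p' = 1 := funext fun v => by simp [hp']
    rw [hp1, map_one, mul_one] at hx0H
    obtain ⟨d, hd⟩ := h.line_const hx0H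
    obtain ⟨g0⟩ : Nonempty (Pt m k) := ⟨fun _ => b⟩
    have hd1 : ∀ g, β g * (β (π g))⁻¹ = d := fun g => congrFun hd g
    have hd3 : d ^ 3 = 1 := by rw [← hd1 g0]; exact (cen_prop hT3 (hγc g0)).2.1
    have hd2 : d * d = 1 := by
      nth_rewrite 1 [← hd1 g0]
      rw [← hd1 (π g0), hππ]
      group
    have hd0 : d = 1 := by rwa [pow_succ, pow_two, hd2, one_mul] at hd3
    have hinv : ∀ g, β (π g) = β g := fun g => by
      have := hd1 g
      rw [hd0, mul_inv_eq_one] at this
      exact this.symm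
    have hconst : ∀ g, β g = c * c := by
      intro g
      have := congrFun hc g
      simp only [hinv] at this
      have h3 := (cen_prop hT3 (hβ g)).2.1
      rw [← this, ← mul_assoc, mul_assoc (β g) (β g) (β g), ← pow_two (β g), ← pow_succ', h3, one_mul]
    have hcc : Perm.sign (c * c) = 1 := by simp
    have hs : sliceMap (fun v => if v ∈ T then π else if v = b then (1 : Perm (Pt m k)) else 1) ∈ H := by
      have e : mk b T π 1 β = rect (c * c) 1 * sliceMap
          (fun v => if v ∈ T then π else if v = b then (1 : Perm (Pt m k)) else 1) := by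
        rw [← lineMap_const]
        exact congrArg (fun γ => lineMap γ * _) (funext hconst)
      rw [e] at hz
      exact (H.mul_mem_cancel_left (h.rect_even_mem hcc)).1 hz
    have := congrFun (h.eq_one_of_slices hS hs (fun v hv => by
      have h1 : v ∉ T := fun e => hv (hmono e)
      simp [h1])) x
    simpa [hx] using this
  -- the permutations of the lines
  let P : Subgroup (Perm (Pt m k)) :=
    { carrier := {π | ∃ ρ β, (∀ g, β g ∈ cen T) ∧ mk b T π ρ β ∈ H}
      one_mem' := ⟨1, 1, fun g => one_mem _, by rw [mk_one]; exact H.one_mem⟩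
      mul_mem' := by
        rintro π π' ⟨ρ, β, hβ, hm1⟩ ⟨ρ', β', hβ', hm2⟩
        refine ⟨ρ * ρ', fun g => β g * β' (π⁻¹ g), fun g => mul_mem (hβ g) (hβ' _), ?_⟩
        rw [← mk_mul hbT (wi hβ) (wi hβ')]
        exact H.mul_mem hm1 hm2
      inv_mem' := by
        rintro π ⟨ρ, β, hβ, hm1⟩
        refine ⟨ρ⁻¹, fun g => (β (π g))⁻¹, fun g => inv_mem (hβ _), ?_⟩
        rw [← mk_inv hbT (wi hβ)]
        exact H.inv_mem hm1 }
  have hP : P = ⊥ := by
    by_contra hne
    obtain ⟨i, hi⟩ := exists_coord_le h.hm h.IH hne (norm fun u hu π hπ => by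
      obtain ⟨ρ, β, hβ, hmem⟩ := hπ
      refine ⟨u * ρ * u⁻¹, fun g => β (u⁻¹ g), fun g => hβ _, ?_⟩
      rw [← mk_conj_lift hbT (wi hβ)]
      exact H.mul_mem (H.mul_mem (h.lift_mem hu) hmem) (H.inv_mem (h.lift_mem hu)))
    have := h.hm
    let a0 : Fin m := ⟨0, by omega⟩
    let a1 : Fin m := ⟨1, by omega⟩
    let a2 : Fin m := ⟨2, by omega⟩
    let a3 : Fin m := ⟨3, by omega⟩
    have e01 : a0 ≠ a1 := by simp [a0, a1, Fin.ext_iff]
    have e23 : a2 ≠ a3 := by simp [a2, a3, Fin.ext_iff]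
    obtain ⟨ρ, β, hβ, hmem⟩ := hi (swap a0 a1 * swap a2 a3) (by simp [sign_swap e01, sign_swap e23])
    have hd : Disjoint (swap a0 a1) (swap a2 a3) := by
      intro v
      by_cases hv : v = a2 ∨ v = a3
      · left
        rcases hv with rfl | rfl <;> exact swap_apply_of_ne_of_ne (by simp [a0, a2, a3, Fin.ext_iff]) (by simp [a1, a2, a3, Fin.ext_iff])
      · right
        push Not at hv
        exact swap_apply_of_ne_of_ne hv.1 hv.2
    have := hB hβ hmem (by
      rw [← map_mul, hd.commute.symm.mul_mul_mul_comm, swap_mul_self, swap_mul_self, one_mul, map_one])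
    have := congrArg (fun e : Perm (Pt m k) => e (fun _ => a0) i) this
    simp [coord_apply, swap_apply_of_ne_of_ne (show a0 ≠ a2 by simp [a0, a2, Fin.ext_iff])
      (show a0 ≠ a3 by simp [a0, a3, Fin.ext_iff]), e01.symm] at this
  have hπ1 : π = 1 := by
    have : π ∈ P := ⟨ρ, β, hβ, hz⟩
    rwa [hP, Subgroup.mem_bot] at this
  subst hπ1
  exact ⟨rfl, (hA hβ hz).1⟩

/-- An element of the group on the slices over `S` which stabilises the slice over `b` and normalises
the even permutations of the other values of `S` changes only the first coordinate. -/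
theorem piece_const (h : Setup m k H) (hS : S ≠ Finset.univ) (hbS : b ∈ S) (h4 : 4 ≤ S.card)
    {z : Perm (Pt m (k + 1))} (hz : z ∈ supp H S) (hzb : ∀ g, z (pt b g) 0 = b)
    (hnorm : ∀ σ ∈ within (S.erase b), Perm.sign σ = 1 → ∃ α, z * rect σ 1 * z⁻¹ = rect α 1) :
    ∃ α, z = rect α 1 := by
  classical
  set T := S.erase b with hT
  have hbT : b ∉ T := Finset.notMem_erase b S
  have hT3 : 3 ≤ T.card := by rw [hT, Finset.card_erase_of_mem hbS]; omega
  let ρ : Perm (Pt m k) := Equiv.ofBijective (fun g => tl (z (pt b g)))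
    (Finite.injective_iff_bijective.1 fun g g' e => by
      have : z (pt b g) = z (pt b g') := by
        rw [← pt_tl (z (pt b g)), ← pt_tl (z (pt b g')), hzb, hzb, e]
      exact (pt_inj.1 (z.injective this)).2)
  have hzρ : ∀ g, z (pt b g) = pt b (ρ g) := fun g => by
    rw [← pt_tl (z (pt b g)), hzb]; rfl
  have hzT : ∀ {v}, v ∈ T → ∀ g, z (pt v g) 0 ∈ T := by
    intro v hv g
    refine Finset.mem_erase.2 ⟨fun e => ?_, supp_apply_mem hz (by simpa using Finset.mem_of_mem_erase hv)⟩
    have : z (pt v g) = z (pt b (ρ⁻¹ (tl (z (pt v g))))) := by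
      rw [hzρ, app_inv]
      conv_lhs => rw [← pt_tl (z (pt v g)), e]
    exact hbT ((pt_inj.1 (z.injective this)).1 ▸ hv)
  have htail : ∀ {v v'}, v ∈ T → v' ∈ T → ∀ g, tl (z (pt v g)) = tl (z (pt v' g)) := by
    intro v v' hv hv' g
    obtain ⟨σ, hσ, hσs, hσv⟩ := exists_within_even hT3 hv hv'
    obtain ⟨α, hα⟩ := hnorm σ hσ hσs
    rw [mul_inv_eq_iff_eq_mul] at hα
    have := congrArg (fun e : Perm (Pt m (k + 1)) => e (pt v g)) hα
    simp only [Perm.mul_apply, rect_pt, hσv, Perm.one_apply] at this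
    rw [this, ← pt_tl (z (pt v g)), rect_pt]
    simp
  obtain ⟨v0, hv0⟩ := Finset.card_pos.1 (show 0 < T.card by omega)
  have hzinj : ∀ g, Function.Injective fun v : T => (⟨z (pt v g) 0, hzT v.2 g⟩ : T) := by
    intro g v v' e
    have e' := congrArg Subtype.val e
    have : z (pt v g) = z (pt v' g) := by
      rw [← pt_tl (z (pt (v : Fin m) g)), ← pt_tl (z (pt (v' : Fin m) g)), htail v.2 v'.2 g]
      exact congrArg (fun a => pt a _) e'
    exact Subtype.ext (pt_inj.1 (z.injective this)).1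
  let π : Perm (Pt m k) := Equiv.ofBijective (fun g => tl (z (pt v0 g)))
    (Finite.injective_iff_bijective.1 fun g g' e => by
      obtain ⟨⟨v, hv⟩, hve⟩ := Finite.injective_iff_surjective.1 (hzinj g) ⟨_, hzT hv0 g'⟩
      have hve' := congrArg Subtype.val hve
      have : z (pt v g) = z (pt v0 g') := by
        rw [← pt_tl (z (pt v g)), ← pt_tl (z (pt v0 g')), htail hv hv0 g, e]
        exact congrArg (fun a => pt a _) hve'
      exact (pt_inj.1 (z.injective this)).2)
  let β : Pt m k → Perm (Fin m) := fun g => Equiv.ofBijective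
    (fun v => if v ∈ T then z (pt v (π⁻¹ g)) 0 else v)
    (Finite.injective_iff_bijective.1 fun v v' e => by
      by_cases hv : v ∈ T <;> by_cases hv' : v' ∈ T
      · rw [if_pos hv, if_pos hv'] at e
        exact congrArg Subtype.val (hzinj (π⁻¹ g) (a₁ := ⟨v, hv⟩) (a₂ := ⟨v', hv'⟩) (Subtype.ext e))
      · rw [if_pos hv, if_neg hv'] at e
        exact absurd (e ▸ hzT hv _) hv'
      · rw [if_neg hv, if_pos hv'] at e
        exact absurd (e.symm ▸ hzT hv' _) hv
      · rwa [if_neg hv, if_neg hv'] at e)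
  have hβ : ∀ g, β g ∈ within T := fun g v hv => by
    show (if v ∈ T then z (pt v (π⁻¹ g)) 0 else v) = v
    rw [if_neg hv]
  have hzeq : z = mk b T π ρ β := ext_pt fun v g => by
    by_cases hv : v ∈ T
    · rw [mk_pt_mem hv, ← pt_tl (z (pt v g)), htail hv hv0 g]
      show pt _ (π g) = pt _ (π g)
      have : β (π g) v = z (pt v g) 0 := by
        show (if v ∈ T then z (pt v (π⁻¹ (π g))) 0 else v) = _
        rw [if_pos hv, inv_app]
      rw [this]
    · by_cases hvb : v = b
      · subst hvb; rw [mk_pt_b hbT hβ, hzρ]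
      · rw [mk_pt_out hβ hv hvb]
        exact hz.2 _ (fun e => hv (Finset.mem_erase.2 ⟨hvb, e⟩))
  -- the cosets of the components
  have hcoset : ∀ g g', β g * (β g')⁻¹ ∈ cen T := by
    intro g g'
    refine mem_cen.2 ⟨mul_mem (hβ _) (inv_mem (hβ _)), fun σ hσ hσs => ?_⟩
    have hσ' : (β g')⁻¹ * σ * β g' ∈ within T := mul_mem (mul_mem (inv_mem (hβ _)) hσ) (hβ _)
    obtain ⟨α, hα⟩ := hnorm _ hσ' (by simp [hσs])
    have key : ∀ h v, v ∈ T → α (β h v) = β h (((β g')⁻¹ * σ * β g') v) := by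
      intro h v hv
      rw [mul_inv_eq_iff_eq_mul, hzeq] at hα
      have := congrArg (fun e : Perm (Pt m (k + 1)) => e (pt v (π⁻¹ h))) hα
      rw [Perm.mul_apply, Perm.mul_apply, rect_pt, Perm.one_apply] at this
      rw [mk_pt_mem (within_mem hσ' hv), mk_pt_mem hv, rect_pt, app_inv, pt_inj] at this
      exact this.1.symm
    ext v : 1
    by_cases hv : v ∈ T
    · have h1 : α (β g ((β g')⁻¹ v)) = β g ((β g')⁻¹ (σ v)) := by
        have := key g _ (within_mem (inv_mem (hβ g')) hv)
        rwa [Perm.mul_apply, Perm.mul_apply, app_inv] at this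
      have hw : β g ((β g')⁻¹ v) ∈ T := within_mem (hβ _) (within_mem (inv_mem (hβ _)) hv)
      have h2 : α (β g ((β g')⁻¹ v)) = σ (β g ((β g')⁻¹ v)) := by
        have := key g' _ (within_mem (inv_mem (hβ g')) hw)
        rwa [Perm.mul_apply, Perm.mul_apply, app_inv, app_inv] at this
      simp only [Perm.mul_apply]
      rw [← h2, h1]
    · have h1 : ∀ {x : Perm (Fin m)}, x ∈ within T → x v = v := fun hx => hx v hv
      simp only [Perm.mul_apply]
      rw [h1 hσ, h1 (inv_mem (hβ g')), h1 (hβ g), h1 hσ]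
  -- commutation with the lifts
  have hcom : ∀ i δ, Perm.sign δ = 1 → coord i δ * π = π * coord i δ ∧ coord i δ * ρ = ρ * coord i δ := by
    intro i δ hδ
    set u : Perm (Pt m k) := coord i δ
    have hu := h.lift_mem (isLift_coord i hδ)
    have hzH : mk b T π ρ β ∈ H := hzeq ▸ hz.1
    have hmem := H.mul_mem hzH (H.mul_mem (H.mul_mem hu (H.inv_mem hzH)) (H.inv_mem hu))
    rw [mk_inv hbT hβ, mk_conj_lift hbT (fun g => inv_mem (hβ _)),
      mk_mul hbT hβ (fun g => inv_mem (hβ _))] at hmem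
    obtain ⟨e1, e2⟩ := mk_trivial h hS hbS h4 (fun g => hcoset g _) hmem
    rw [← mul_assoc, mul_inv_eq_one, ← mul_assoc, mul_inv_eq_iff_eq_mul] at e1
    rw [← mul_assoc, mul_inv_eq_one, ← mul_assoc, mul_inv_eq_iff_eq_mul] at e2
    exact ⟨e1.symm, e2.symm⟩
  have hπ : π = 1 := eq_one_of_commute_coord h.hm fun i δ hδ => (hcom i δ hδ).1
  have hρ : ρ = 1 := eq_one_of_commute_coord h.hm fun i δ hδ => (hcom i δ hδ).2
  rw [hzeq, hπ, hρ, mk_of_line hbT hβ] at hz ⊢
  obtain ⟨α, hα⟩ := h.line_const hz.1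
  exact ⟨α, by rw [hα, lineMap_const]⟩

end Piece

end CfsgLib.ProductMax
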