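import Cfsg.Agent.Lib.ProductMax.Stab

/-!
# Good groups consist of product permutations or contain all even permutations
-/

set_option autoImplicit false

namespace CfsgLib.ProductMax

open Equiv Equiv.Perm MulAction

variable {m k : ℕ}

/-- The slice of the points with a given value at a given coordinate. -/
def slice (i : Fin k) (a : Fin m) : Finset (Pt m k) := Finset.univ.filter fun f => f i = a

@[simp] theorem mem_slice {i : Fin k} {a : Fin m} {f : Pt m k} : f ∈ slice i a ↔ f i = a := by
  simp [slice]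

theorem card_slice (i : Fin k) (a : Fin m) : (slice i a).card = m ^ (k - 1) := by
  classical
  have e : slice i a = Fintype.piFinset (Function.update (fun _ => (Finset.univ : Finset (Fin m))) i ({a} : Finset (Fin m))) := by
    ext f
    simp only [mem_slice, Fintype.mem_piFinset]
    constructor
    · intro h l
      by_cases hl : l = i
      · subst hl; simp [h]
      · simp [hl]
    · intro h
      simpa using h i
  rw [e, Fintype.card_piFinset, ← Finset.mul_prod_erase _ _ (Finset.mem_univ i), Function.update_self,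
    Finset.card_singleton, one_mul,
    Finset.prod_congr rfl (fun l hl => by rw [Function.update_of_ne (Finset.ne_of_mem_erase hl)]),
    Finset.prod_const, Finset.card_erase_of_mem (Finset.mem_univ i)]
  simp

theorem sum_inter_slice (X : Finset (Pt m k)) (i : Fin k) :
    ∑ a, (X ∩ slice i a).card = X.card := by
  rw [Finset.card_eq_sum_card_fiberwise (f := fun f => f i) (t := Finset.univ) (fun f _ => Finset.mem_univ _)]
  refine Finset.sum_congr rfl fun a _ => congrArg Finset.card ?_
  ext f
  simp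

theorem image_slice (π : Perm (Fin k)) (τ : Fin k → Perm (Fin m)) (i : Fin k) (a : Fin m) :
    (slice i a).image (prodPerm π τ) = slice (π i) (τ (π i) a) := by
  refine Finset.eq_of_subset_of_card_le (fun f hf => ?_) ?_
  · obtain ⟨g, hg, rfl⟩ := Finset.mem_image.1 hf
    simp [mem_slice.1 hg]
  · rw [Finset.card_image_of_injective _ (Equiv.injective _), card_slice, card_slice]

theorem base_injective (hm : 1 ≤ m) {τ τ' : Fin k → Perm (Fin m)}
    (h : prodPerm (1 : Perm (Fin k)) τ = prodPerm 1 τ') : τ = τ' := by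
  funext i
  ext a : 1
  have := congrArg (fun e : Perm (Pt m k) => e (fun _ => a) i) h
  simpa using this

/-- A product permutation moving a coordinate fixes few points. -/
theorem card_le_of_fixed {π : Perm (Fin k)} {τ : Fin k → Perm (Fin m)} (hπ : π ≠ 1) (hm : 1 ≤ m)
    {F : Finset (Pt m k)} (hF : ∀ f ∈ F, prodPerm π τ f = f) : F.card ≤ m ^ (k - 1) := by
  classical
  obtain ⟨i, hi⟩ : ∃ i, π i ≠ i := by
    by_contra! hc
    exact hπ (Equiv.ext hc)
  let a : Fin m := ⟨0, hm⟩
  rw [← card_slice (π i) a]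
  refine Finset.card_le_card_of_injOn (fun f => Function.update f (π i) a) (fun f _ => by simp) ?_
  intro f hf f' hf' e
  funext l
  by_cases hl : l = π i
  · subst hl
    have h1 := congrFun (hF f hf) (π i)
    have h2 := congrFun (hF f' hf') (π i)
    rw [prodPerm_apply, Equiv.symm_apply_apply] at h1 h2
    have := congrFun e i
    simp only [Function.update_of_ne (Ne.symm hi)] at this
    rw [← h1, ← h2, this]
  · have := congrFun e l
    simpa [hl] using this

set_option maxRecDepth 100000 in
/-- A normal subgroup of the alternating group on four values contains the double transposition. -/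
theorem four_values : ∀ x : Perm (Fin 4), Perm.sign x = 1 → x ≠ 1 → ∃ g : Perm (Fin 4), Perm.sign g = 1 ∧
    (g * x * g⁻¹ = swap 0 1 * swap 2 3 ∨ g * x * g⁻¹ * x⁻¹ = swap 0 1 * swap 2 3) := by
  decide

section Step

variable {H : Subgroup (Perm (Pt m (k + 1)))}

/-- An image of a slice under the group which is not a slice. -/
def IsBad (H : Subgroup (Perm (Pt m (k + 1)))) (X : Finset (Pt m (k + 1))) : Prop :=
  (∃ h ∈ H, ∃ i a, X = (slice i a).image h) ∧ ∀ i a, X ≠ slice i a

theorem IsBad.card {X : Finset (Pt m (k + 1))} (h : IsBad H X) : X.card = m ^ k := by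
  obtain ⟨⟨g, -, i, a, rfl⟩, -⟩ := h
  rw [Finset.card_image_of_injective _ (Equiv.injective _), card_slice, Nat.add_sub_cancel]

theorem IsBad.image {X : Finset (Pt m (k + 1))} (h : IsBad H X) {π : Perm (Fin (k + 1))}
    {τ : Fin (k + 1) → Perm (Fin m)} (hq : prodPerm π τ ∈ H) : IsBad H (X.image (prodPerm π τ)) := by
  obtain ⟨⟨g, hg, i, a, rfl⟩, hne⟩ := h
  refine ⟨⟨prodPerm π τ * g, H.mul_mem hq hg, i, a, by rw [Finset.image_image]; rfl⟩, fun j b e => ?_⟩
  apply hne (π.symm j) ((τ j)⁻¹ b)
  refine Finset.image_injective (Equiv.injective (prodPerm π τ)) (e.trans ?_)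
  rw [image_slice]
  simp

variable (h : Setup m k H)
include h

theorem IsBad.exists_from_zero {X : Finset (Pt m (k + 1))} (hX : IsBad H X) (v : Fin m) :
    ∃ g ∈ H, X = (slice 0 v).image g := by
  obtain ⟨⟨g, hg, i, a, rfl⟩, -⟩ := hX
  obtain ⟨τ, hτ, hfix⟩ := h.good.exists_fix h.hm (swap 0 i) (fun _ => v)
  have hv : τ i v = v := by
    have := congrFun hfix i
    rwa [prodPerm_apply] at this
  obtain ⟨α, hα, hαv⟩ := exists_even_one h.hm v a
  refine ⟨g * (coord i α * prodPerm (swap 0 i) τ), H.mul_mem hg (H.mul_mem (h.good.coord_mem_of_even i hα) hτ), ?_⟩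
  rw [Perm.coe_mul, ← Finset.image_image]
  congr 1
  rw [Perm.coe_mul, ← Finset.image_image, image_slice, swap_apply_left, hv]
  show _ = (slice i v).image (prodPerm 1 _)
  rw [image_slice, Perm.one_apply, Function.update_self, hαv]

variable {t : ℕ} (hmax : ∀ X, IsBad H X → ∀ i a, (X ∩ slice i a).card ≤ t)
include hmax

theorem le_of_bad {X : Finset (Pt m (k + 1))} (hX : IsBad H X) : m ^ (k + 1 - 1) ≤ m * t := by
  rw [Nat.add_sub_cancel, ← hX.card, ← sum_inter_slice X 0]
  refine (Finset.sum_le_sum fun a _ => hmax X hX 0 a).trans (le_of_eq ?_)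
  simp

/-- An even permutation of the first value fixing `v` stabilises `X` or fixes nothing of it off the
slice of `v`. -/
theorem image_eq_or {X : Finset (Pt m (k + 1))} (hX : IsBad H X) {v : Fin m}
    (ht : (X ∩ slice 0 v).card = t) (hk : m ^ (k - 1) ≤ t) {σ : Perm (Fin m)}
    (hσ : Perm.sign σ = 1) (hσv : σ v = v) :
    X.image (rect σ 1) = X ∨ ∀ f ∈ X, σ (f 0) = f 0 → f 0 = v := by
  classical
  by_contra! hc
  obtain ⟨hne, f, hf, hff, hfv⟩ := hc
  obtain ⟨g, hg, rfl⟩ := hX.exists_from_zero h v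
  set y := g⁻¹ * rect σ 1 * g with hy
  have hyH : y ∈ H := H.mul_mem (H.mul_mem (H.inv_mem hg) (h.rect_even_mem hσ)) hg
  set Y := (slice 0 v).image y with hY
  have hgY : ((slice 0 v).image g).image (rect σ 1) = Y.image g := by
    rw [hY, Finset.image_image, Finset.image_image]
    congr 1
    funext x
    simp [hy]
  have hYne : Y ≠ slice 0 v := fun e => hne (by rw [hgY, e])
  have hle : (Y ∩ slice 0 v).card ≤ t := by
    by_cases hs : ∃ i a, Y = slice i a
    · obtain ⟨i, a, e⟩ := hs
      rw [e]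
      refine le_trans ?_ hk
      rcases eq_or_ne i 0 with rfl | hi
      · rw [Finset.card_eq_zero.2]
        · exact Nat.zero_le _
        ext x
        simp only [Finset.mem_inter, mem_slice, Finset.notMem_empty, iff_false, not_and]
        rintro rfl e'
        exact hYne (e.trans (by rw [e']))
      · obtain ⟨i, rfl⟩ := Fin.exists_succ_eq.2 hi
        rw [← card_slice i a]
        refine Finset.card_le_card_of_injOn tl (fun x hx => ?_) (fun x hx x' hx' e => ?_)
        · simp only [Finset.mem_coe, Finset.mem_inter, mem_slice] at hx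
          simpa [tl] using hx.1
        · simp only [Finset.mem_coe, Finset.mem_inter, mem_slice] at hx hx'
          rw [← pt_tl x, ← pt_tl x', hx.2, hx'.2, e]
    · push Not at hs
      exact hmax Y ⟨⟨y, hyH, 0, v, hY⟩, hs⟩ 0 v
  have hsub : insert f ((slice 0 v).image g ∩ slice 0 v) ⊆ (Y ∩ slice 0 v).image g := by
    have hfix : ∀ x ∈ (slice 0 v).image g, σ (x 0) = x 0 → x ∈ (Y ∩ slice 0 v).image g := by
      intro x hx hx0
      obtain ⟨z, hz, rfl⟩ := Finset.mem_image.1 hx
      refine Finset.mem_image.2 ⟨z, Finset.mem_inter.2 ⟨?_, hz⟩, rfl⟩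
      have hzfix : y z = z := by
        rw [hy, Perm.mul_apply, Perm.mul_apply, Perm.inv_eq_iff_eq, ← pt_tl (g z), rect_pt, hx0]
        rfl
      exact Finset.mem_image.2 ⟨z, hz, hzfix⟩
    intro x hx
    rcases Finset.mem_insert.1 hx with rfl | hx
    · exact hfix x hf hff
    · rw [Finset.mem_inter, mem_slice] at hx
      exact hfix x hx.1 (by rw [hx.2, hσv])
  have := Finset.card_le_card hsub
  rw [Finset.card_insert_of_notMem (by simp [hfv]), ht,
    Finset.card_image_of_injective _ (Equiv.injective _)] at this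
  omega

/-- The even permutations of the first value fixing `v` stabilise `X`. -/
theorem image_eq {X : Finset (Pt m (k + 1))} (hX : IsBad H X) {v : Fin m}
    (ht : (X ∩ slice 0 v).card = t) (hk : m ^ (k - 1) ≤ t) {σ : Perm (Fin m)}
    (hσ : Perm.sign σ = 1) (hσv : σ v = v) : X.image (rect σ 1) = X := by
  classical
  have hm := h.hm
  set U := (X.image fun f => f 0).erase v with hU
  have hUne : U.Nonempty := by
    by_contra hc
    rw [Finset.not_nonempty_iff_eq_empty] at hc
    refine hX.2 0 v (Finset.eq_of_subset_of_card_le (fun f hf => ?_) (by rw [hX.card, card_slice]; simp))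
    rw [mem_slice]
    by_contra hne
    have : f 0 ∈ U := Finset.mem_erase.2 ⟨hne, Finset.mem_image_of_mem _ hf⟩
    simp [hc] at this
  have hstab : ∀ {σ : Perm (Fin m)}, Perm.sign σ = 1 → σ v = v → ∀ u ∈ U, σ u = u →
      X.image (rect σ 1) = X := by
    intro σ hσ hσv u hu hσu
    obtain ⟨f, hf, rfl⟩ := Finset.mem_image.1 (Finset.mem_of_mem_erase hu)
    exact (image_eq_or h hmax hX ht hk hσ hσv).resolve_right fun hc =>
      Finset.ne_of_mem_erase hu (hc f hf hσu)
  obtain ⟨g, hg, hXg⟩ := hX.exists_from_zero h v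
  rcases Nat.lt_or_ge U.card 2 with hlt | hge
  · -- a single further label
    exfalso
    obtain ⟨u, hu⟩ := Finset.card_eq_one.1 (le_antisymm (by omega) hUne.card_pos)
    have huv : u ≠ v := Finset.ne_of_mem_erase (s := X.image fun f => f 0) (by rw [← hU, hu]; simp)
    have hXD : ∀ f ∈ X, f 0 = v ∨ f 0 = u := fun f hf => by
      by_cases e : f 0 = v
      · exact Or.inl e
      · right
        have : f 0 ∈ U := Finset.mem_erase.2 ⟨e, Finset.mem_image_of_mem _ hf⟩
        simpa [hu] using this
    set Tu : Finset (Fin m) := {v, u} with hTu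
    let T' : Finset (Fin m) := Finset.univ.filter fun a => ∃ g0, g (pt a g0) 0 ∈ Tu
    have hchar : ∀ f, g f 0 ∈ Tu ↔ f 0 ∈ T' := by
      intro f
      constructor
      · intro hf
        exact Finset.mem_filter.2 ⟨Finset.mem_univ _, tl f, by rwa [pt_tl]⟩
      · intro hf
        obtain ⟨-, g0, hg0⟩ := Finset.mem_filter.1 hf
        by_contra hn
        obtain ⟨σ, hσT, hσs, hσm⟩ : ∃ σ ∈ within (Tuᶜ : Finset (Fin m)), Perm.sign σ = 1 ∧
            σ (g f 0) ≠ g f 0 := by
          obtain ⟨z, hz, hzne⟩ := Finset.exists_mem_ne (show 1 < Tuᶜ.card by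
            rw [Finset.card_compl, Fintype.card_fin, hTu, Finset.card_pair huv.symm]; omega) (g f 0)
          obtain ⟨σ, h1, h2, h3⟩ := exists_within_even (S := Tuᶜ) (by
            rw [Finset.card_compl, Fintype.card_fin, hTu, Finset.card_pair huv.symm]; omega)
            (Finset.mem_compl.2 hn) hz
          exact ⟨σ, h1, h2, by rw [h3]; exact hzne⟩
        have hsupp : g⁻¹ * rect σ 1 * g ∈ supp H (Finset.univ.erase v) := by
          refine ⟨H.mul_mem (H.mul_mem (H.inv_mem hg) (h.rect_even_mem hσs)) hg, fun x hx => ?_⟩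
          have hxv : x 0 = v := by simpa using hx
          have hxX : g x ∈ X := by rw [hXg]; exact Finset.mem_image_of_mem _ (by simpa using hxv)
          have : σ (g x 0) = g x 0 := hσT _ (by
            rcases hXD _ hxX with e | e <;> simp [hTu, e])
          rw [Perm.mul_apply, Perm.mul_apply, Perm.inv_eq_iff_eq, ← pt_tl (g x), rect_pt, this]
          rfl
        obtain ⟨α, hα⟩ := h.supp_const (fun e => by
          have h' : v ∈ Finset.univ.erase v := by rw [e]; exact Finset.mem_univ v
          simp at h') hsupp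
        rw [mul_assoc, inv_mul_eq_iff_eq_mul] at hα
        have h1 := congrArg (fun e : Perm (Pt m (k + 1)) => e (pt (f 0) g0)) hα
        simp only [Perm.mul_apply] at h1
        rw [← pt_tl (g (pt (f 0) g0)), rect_pt, hσT _ (by simpa using hg0), Perm.one_apply, pt_tl,
          EmbeddingLike.apply_eq_iff_eq, rect_pt, pt_inj] at h1
        have h2 := congrArg (fun e : Perm (Pt m (k + 1)) => e f 0) hα
        simp only [Perm.mul_apply] at h2
        rw [← pt_tl f, rect_pt, ← h1.1, pt_tl, Perm.one_apply, pt_tl, ← pt_tl (g f), rect_pt, pt_zero,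
          pt_zero] at h2
        exact hσm h2
    have hvT : v ∈ T' := by
      obtain ⟨g0⟩ : Nonempty (Pt m k) := ⟨fun _ => v⟩
      refine (hchar (pt v g0)).1 ?_
      rcases hXD (g (pt v g0)) (by rw [hXg]; exact Finset.mem_image_of_mem _ (by simp)) with e | e <;>
        simp [hTu, e]
    have hcard : T'.card = 2 := by
      have e : ∀ S : Finset (Fin m), (Finset.univ.filter fun f : Pt m (k + 1) => f 0 ∈ S).card = S.card * m ^ k := by
        intro S
        rw [show (Finset.univ.filter fun f : Pt m (k + 1) => f 0 ∈ S) = S.biUnion (slice 0) by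
          ext f; simp, Finset.card_biUnion (fun a _ b _ hab => Finset.disjoint_left.2 fun f h1 h2 =>
            hab ((mem_slice.1 h1).symm.trans (mem_slice.1 h2)))]
        simp [card_slice]
      have hmap : (Finset.univ.filter fun f : Pt m (k + 1) => f 0 ∈ T').image g =
          Finset.univ.filter fun f : Pt m (k + 1) => f 0 ∈ Tu := by
        ext f
        simp only [Finset.mem_image, Finset.mem_filter, Finset.mem_univ, true_and]
        exact ⟨fun ⟨x, hx, hxf⟩ => hxf ▸ (hchar x).2 hx,
          fun hf => ⟨g⁻¹ f, (hchar _).1 (by rwa [app_inv]), app_inv _ _⟩⟩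
      have := congrArg Finset.card hmap
      rw [Finset.card_image_of_injective _ (Equiv.injective _), e, e, hTu, Finset.card_pair huv.symm] at this
      exact Nat.eq_of_mul_eq_mul_right (pow_pos (by omega) k) this
    obtain ⟨u', hu'T, hu'v⟩ := Finset.exists_mem_ne (show 1 < T'.card by omega) v
    have hT' : T' = {v, u'} := (Finset.eq_of_subset_of_card_le
      (by simp [Finset.insert_subset_iff, hvT, hu'T]) (by rw [hcard, Finset.card_pair hu'v.symm])).symm
    obtain ⟨w, hw, hwv, hwu⟩ := exists_even_two hm (a := v) (b := v) (c := u) (d := u') huv.symm hu'v.symm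
    have hmem : g * rect w 1 ∈ stab H Tu := by
      refine ⟨H.mul_mem hg (h.rect_even_mem hw), fun f => ?_⟩
      rw [Perm.mul_apply, hchar, ← pt_tl f, rect_pt, pt_zero, pt_zero, hT', hTu]
      simp only [Finset.mem_insert, Finset.mem_singleton]
      constructor <;> rintro (e | e)
      · left; exact w.injective (e.trans hwv.symm)
      · right; exact w.injective (e.trans hwu.symm)
      · left; rw [e, hwv]
      · right; rw [e, hwu]
    have hW := stab_le_W h (T := Tu) (by rw [hTu, Finset.card_pair huv.symm]) ⟨v, by simp [hTu]⟩ hmem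
    have hgW : g ∈ W m (k + 1) :=
      ((W m (k + 1)).mul_mem_cancel_right (rect_mem_W w (one_mem _))).1 hW
    obtain ⟨π, τ, rfl⟩ := mem_W.1 hgW
    exact hX.2 _ _ (hXg.trans (image_slice π τ 0 v))
  · obtain ⟨u1, hu1, u2, hu2, hne⟩ := Finset.one_lt_card.1 hge
    have hu1v := Finset.ne_of_mem_erase hu1
    have hu2v := Finset.ne_of_mem_erase hu2
    have comp : ∀ a b : Perm (Fin m), X.image (rect b 1) = X → X.image (rect a 1) = X →
        X.image (rect (k := k) (a * b) 1) = X := by
      intro a b hb ha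
      have e : rect (k := k) (a * b) 1 = rect a 1 * rect b 1 := by rw [rect_mul, one_mul]
      rw [e, Perm.coe_mul, ← Finset.image_image, hb, ha]
    -- moving `u1` anywhere except to `u2`
    have step : ∀ {σ : Perm (Fin m)}, Perm.sign σ = 1 → σ v = v → σ u1 ≠ u2 →
        X.image (rect σ 1) = X := by
      intro σ hσ hσv h12
      have hσu1 : σ u1 ≠ v := fun e => hu1v (σ.injective (e.trans hσv.symm))
      have inj : ∀ {x y z : Fin m}, x ≠ y → x ≠ z → y ≠ z → Function.Injective ![x, y, z] := by
        intro x y z h1 h2 h3 i j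
        fin_cases i <;> fin_cases j <;> simp [h1, h1.symm, h2, h2.symm, h3, h3.symm]
      obtain ⟨τ, hτ, hτ2⟩ := exists_even (m := m) (n := 3) hm ⟨![v, u2, u1], inj hu2v.symm hu1v.symm hne.symm⟩
        ⟨![v, u2, σ u1], inj hu2v.symm hσu1.symm (Ne.symm h12)⟩
      have t0 : τ v = v := by simpa using hτ2 0
      have t1 : τ u2 = u2 := by simpa using hτ2 1
      have t2 : τ u1 = σ u1 := by simpa using hτ2 2
      have e : σ = τ * (τ⁻¹ * σ) := by group
      rw [e]
      refine comp _ _ (hstab (by simp [hσ, hτ]) ?_ u1 hu1 ?_) (hstab hτ t0 u2 hu2 t1)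
      · rw [Perm.mul_apply, hσv, Perm.inv_eq_iff_eq, t0]
      · rw [Perm.mul_apply, Perm.inv_eq_iff_eq, t2]
    by_cases h12 : σ u1 = u2
    · obtain ⟨y, hy⟩ : ∃ y, y ∈ (({v, u1, u2} : Finset (Fin m))ᶜ) := Finset.card_pos.1 (by
        rw [Finset.card_compl, Fintype.card_fin]
        have : ({v, u1, u2} : Finset (Fin m)).card ≤ 3 := Finset.card_le_three
        omega)
      simp only [Finset.mem_compl, Finset.mem_insert, Finset.mem_singleton, not_or] at hy
      have inj : ∀ {x y z : Fin m}, x ≠ y → x ≠ z → y ≠ z → Function.Injective ![x, y, z] := by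
        intro x y z h1 h2 h3 i j
        fin_cases i <;> fin_cases j <;> simp [h1, h1.symm, h2, h2.symm, h3, h3.symm]
      obtain ⟨τ, hτ, hτ2⟩ := exists_even (m := m) (n := 3) hm ⟨![v, u1, y], inj hu1v.symm (Ne.symm hy.1) (Ne.symm hy.2.1)⟩
        ⟨![v, u1, u2], inj hu1v.symm hu2v.symm hne⟩
      have t0 : τ v = v := by simpa using hτ2 0
      have t1 : τ u1 = u1 := by simpa using hτ2 1
      have t2 : τ y = u2 := by simpa using hτ2 2
      rw [show σ = τ * (τ⁻¹ * σ) by group]
      refine comp _ _ (step (by simp [hσ, hτ]) ?_ ?_) (hstab hτ t0 u1 hu1 t1)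
      · rw [Perm.mul_apply, hσv, Perm.inv_eq_iff_eq, t0]
      · rw [Perm.mul_apply, h12, show τ⁻¹ u2 = y by rw [Perm.inv_eq_iff_eq, t2]]
        exact hy.2.2
    · exact step hσ hσv h12

omit hmax in
theorem exists_common_kernel {v : Fin m}
    (ψ : Fin k → (alternatingGroup {x : Fin m // x ≠ v} →* Perm (Fin m)))
    (hfix : ∀ i, ∃ p q : Fin m, p ≠ q ∧ ∀ σ, ψ i σ p = p ∧ ψ i σ q = q) :
    ∃ σ : alternatingGroup {x : Fin m // x ≠ v}, σ ≠ 1 ∧ ∀ i, ψ i σ = 1 := by
  classical
  have hm := h.hm
  have hcard : Nat.card {x : Fin m // x ≠ v} = m - 1 := by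
    rw [Nat.card_eq_fintype_card, Fintype.card_subtype_compl, Fintype.card_fin,
      Fintype.card_subtype_eq]
  haveI : Nontrivial {x : Fin m // x ≠ v} := by
    rw [← Fintype.one_lt_card_iff_nontrivial, ← Nat.card_eq_fintype_card, hcard]; omega
  have hker : ∀ i, (ψ i).ker ≠ ⊥ := by
    intro i hb
    obtain ⟨p, q, hpq, hf⟩ := hfix i
    let f : alternatingGroup {x : Fin m // x ≠ v} → {e : Perm (Fin m) // ∀ a, ¬ (a ≠ p ∧ a ≠ q) → e a = a} :=
      fun σ => ⟨ψ i σ, fun a ha => by
        rcases not_and_or.1 ha with e | e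
        · rw [not_not.1 e, (hf σ).1]
        · rw [not_not.1 e, (hf σ).2]⟩
    have hinj : Function.Injective f := fun a b e =>
      (MonoidHom.ker_eq_bot_iff _).1 hb (congrArg Subtype.val e)
    have h1 := Nat.card_le_card_of_injective f hinj
    rw [Nat.card_congr (Equiv.Perm.subtypeEquivSubtypePerm fun a => a ≠ p ∧ a ≠ q).symm, Nat.card_perm] at h1
    have h2 : Nat.card {a : Fin m // a ≠ p ∧ a ≠ q} = m - 2 := by
      rw [Nat.card_eq_fintype_card, Fintype.card_subtype,
        show (Finset.univ.filter fun a : Fin m => a ≠ p ∧ a ≠ q) = ({p, q} : Finset (Fin m))ᶜ by ext; simp,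
        Finset.card_compl, Finset.card_pair hpq, Fintype.card_fin]
    rw [h2] at h1
    have h3 := two_mul_card_alternatingGroup (α := {x : Fin m // x ≠ v})
    rw [← Nat.card_eq_fintype_card, Fintype.card_perm, ← Nat.card_eq_fintype_card, hcard,
      show m - 1 = (m - 2) + 1 by omega, Nat.factorial_succ] at h3
    have h4 := Nat.factorial_pos (m - 2)
    have h5 : 3 * (m - 2).factorial ≤ (m - 2 + 1) * (m - 2).factorial := Nat.mul_le_mul_right _ (by omega)
    omega
  rcases Nat.lt_or_ge m 6 with hlt | hge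
  · obtain rfl : m = 5 := by omega
    let e : Fin 4 ≃ {x : Fin 5 // x ≠ v} := (Fintype.equivFinOfCardEq
      (by rw [← Nat.card_eq_fintype_card, hcard])).symm
    have hs : ∀ x : Perm (Fin 4), Perm.sign (e.permCongr x) = Perm.sign x := fun x => sign_permCongr e x
    let E : Perm (Fin 4) ≃* Perm {x : Fin 5 // x ≠ v} := e.permCongrHom
    have hE : ∀ x : Perm (Fin 4), Perm.sign (E x) = Perm.sign x := hs
    refine ⟨⟨E (swap 0 1 * swap 2 3), by rw [mem_alternatingGroup, hE]; decide⟩, fun e' => ?_, fun i => ?_⟩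
    · have := congrArg Subtype.val e'
      rw [OneMemClass.coe_one, EmbeddingLike.map_eq_one_iff] at this
      exact absurd this (by decide)
    · obtain ⟨σ, hσ, hσ1⟩ : ∃ σ ∈ (ψ i).ker, σ ≠ 1 := by
        by_contra! hc
        exact hker i ((Subgroup.eq_bot_iff_forall _).2 hc)
      obtain ⟨x, hx⟩ : ∃ x, E x = (σ : Perm {x : Fin 5 // x ≠ v}) := E.surjective _
      obtain ⟨d, hd, hd2⟩ := four_values x (by rw [← hE, hx]; exact σ.2) (fun e' => hσ1 (by
        rw [e', map_one] at hx; exact Subtype.ext hx.symm))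
      let d' : alternatingGroup {x : Fin 5 // x ≠ v} := ⟨E d, by rw [mem_alternatingGroup, hE, hd]⟩
      have hconj : d' * σ * d'⁻¹ ∈ (ψ i).ker := (MonoidHom.normal_ker _).conj_mem σ hσ d'
      rcases hd2 with hd2 | hd2
      · refine MonoidHom.mem_ker.1 ?_
        convert hconj
        ext1
        simp only [Subgroup.coe_mul, InvMemClass.coe_inv, d', ← hx, ← hd2, map_mul, map_inv]
      · refine MonoidHom.mem_ker.1 ?_
        convert mul_mem hconj (inv_mem hσ)
        ext1
        simp only [Subgroup.coe_mul, InvMemClass.coe_inv, d', ← hx, ← hd2, map_mul, map_inv]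
  · haveI := alternatingGroup.isSimpleGroup (α := {x : Fin m // x ≠ v}) (by rw [hcard]; omega)
    have : Nontrivial (alternatingGroup {x : Fin m // x ≠ v}) := IsSimpleGroup.toNontrivial
    obtain ⟨σ, hσ⟩ := exists_ne (1 : alternatingGroup {x : Fin m // x ≠ v})
    refine ⟨σ, hσ, fun i => MonoidHom.mem_ker.1 ?_⟩
    rcases IsSimpleGroup.eq_bot_or_eq_top_of_normal (ψ i).ker inferInstance with e | e
    · exact absurd e (hker i)
    · rw [e]; exact Subgroup.mem_top _

theorem le_contra {X : Finset (Pt m (k + 1))} (hX : IsBad H X) {v : Fin m}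
    (ht : (X ∩ slice 0 v).card = t) (hk : m ^ (k - 1) ≤ t) : t ≤ m ^ (k - 1) := by
  classical
  have hm := h.hm
  by_contra! hlt
  obtain ⟨g, hg, hXg⟩ := hX.exists_from_zero h v
  let ι : alternatingGroup {x : Fin m // x ≠ v} →* Perm (Fin m) :=
    Equiv.Perm.ofSubtype.comp (alternatingGroup {x : Fin m // x ≠ v}).subtype
  have hιv : ∀ σ, ι σ v = v := fun σ => Equiv.Perm.ofSubtype_apply_of_not_mem _ (by simp)
  have hιs : ∀ σ, Perm.sign (ι σ) = 1 := fun σ => by
    show Perm.sign (Equiv.Perm.ofSubtype _) = 1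
    rw [Equiv.Perm.sign_ofSubtype]; exact σ.2
  let conj : alternatingGroup {x : Fin m // x ≠ v} →* Perm (Pt m (k + 1)) :=
    (MulAut.conj g⁻¹).toMonoidHom.comp ((coord (0 : Fin (k + 1))).comp ι)
  have hconj : ∀ σ, conj σ = g⁻¹ * rect (ι σ) 1 * g := fun σ => by simp [conj, coord_zero_eq]
  have hmem : ∀ σ, conj σ ∈ stab H {v} := by
    intro σ
    rw [hconj]
    refine ⟨H.mul_mem (H.mul_mem (H.inv_mem hg) (h.rect_even_mem (hιs σ))) hg, fun f => ?_⟩
    simp only [Finset.mem_singleton]
    have himg := image_eq h hmax hX ht hk (hιs σ) (hιv σ)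
    have key : ∀ z, g z ∈ X ↔ z 0 = v := fun z => by
      rw [hXg, Finset.mem_image]
      exact ⟨fun ⟨a, ha, e⟩ => by rw [← g.injective e]; simpa using ha, fun e => ⟨z, by simpa using e, rfl⟩⟩
    have hiff : ∀ z, rect (ι σ) 1 z ∈ X ↔ z ∈ X := fun z => by
      conv_lhs => rw [← himg]
      exact Finset.mem_image.trans ⟨fun ⟨a, ha, e⟩ => (Equiv.injective _ e) ▸ ha, fun hz => ⟨z, hz, rfl⟩⟩
    rw [Perm.mul_apply, Perm.mul_apply, ← key, app_inv, hiff, key]
  have hW : ∀ σ, ∃ s' ∈ W m k, ∀ g0, conj σ (pt v g0) = pt v (s' g0) := by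
    intro σ
    obtain ⟨π, τ, hπτ⟩ := mem_W.1 (stab_le_W h (T := {v}) (by simp) (Finset.singleton_nonempty v) (hmem σ))
    have hπ0 : π 0 = 0 := by
      by_contra hne
      have hne' : π.symm 0 ≠ 0 := fun e => hne (by
        have := congrArg π e
        rw [Equiv.apply_symm_apply] at this
        exact this.symm)
      obtain ⟨x, hx⟩ : ∃ x, x ≠ (τ 0)⁻¹ v := by
        haveI : Nontrivial (Fin m) := Fin.nontrivial_iff_two_le.2 (by omega)
        exact exists_ne _
      have h1 := ((hmem σ).2 (Function.update (fun _ => v) (π.symm 0) x)).2 (by simp [Ne.symm hne'])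
      rw [hπτ, prodPerm_apply, Function.update_self, Finset.mem_singleton] at h1
      exact hx (by rw [eq_comm, Perm.inv_eq_iff_eq, h1])
    obtain ⟨ρ, hd⟩ : ∃ ρ, Equiv.Perm.decomposeFin.symm (0, ρ) = π := by
      refine ⟨(Equiv.Perm.decomposeFin π).2, ?_⟩
      have e := Equiv.Perm.decomposeFin_symm_apply_zero (Equiv.Perm.decomposeFin π).1 (Equiv.Perm.decomposeFin π).2
      rw [Prod.mk.eta, Equiv.symm_apply_apply] at e
      rw [← hπ0, e]
      simp
    refine ⟨prodPerm ρ (fun i => τ i.succ), prodPerm_mem _ _, fun g0 => ?_⟩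
    have hv0 : τ 0 v = v := by
      have h1 := ((hmem σ).2 (pt v g0)).2 (by simp)
      rw [hπτ, prodPerm_apply, Finset.mem_singleton] at h1
      rwa [show π.symm 0 = 0 by rw [Equiv.symm_apply_eq, hπ0], pt_zero] at h1
    rw [hπτ]
    funext l
    refine Fin.cases ?_ (fun l => ?_) l
    · rw [prodPerm_apply, show π.symm 0 = 0 by rw [Equiv.symm_apply_eq, hπ0], pt_zero, pt_zero, hv0]
    · have : π.symm l.succ = (ρ.symm l).succ := by
        rw [Equiv.symm_apply_eq, ← hd]; simp
      rw [prodPerm_apply, this, pt_succ, pt_succ, prodPerm_apply]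
  choose s' hs'W hs' using hW
  set F : Finset (Pt m k) := Finset.univ.filter fun g0 => g (pt v g0) 0 = v with hF
  have hFcard : t ≤ F.card := by
    rw [← ht]
    refine Finset.card_le_card_of_injOn (fun f => tl (g⁻¹ f)) (fun f hf => ?_) (fun f hf f' hf' e => ?_)
    · simp only [Finset.mem_coe, Finset.mem_inter, mem_slice, hXg, Finset.mem_image] at hf
      obtain ⟨⟨z, hz, rfl⟩, hfv⟩ := hf
      simp only [Finset.mem_coe, hF, Finset.mem_filter, Finset.mem_univ, true_and, inv_app]
      rw [← hz, pt_tl, hz]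
      exact hfv
    · simp only [Finset.mem_coe, Finset.mem_inter, mem_slice, hXg, Finset.mem_image] at hf hf'
      obtain ⟨⟨z, hz, rfl⟩, -⟩ := hf
      obtain ⟨⟨z', hz', rfl⟩, -⟩ := hf'
      simp only [inv_app] at e
      rw [← pt_tl z, ← pt_tl z', hz, hz', e]
  have hfixF : ∀ σ, ∀ g0 ∈ F, s' σ g0 = g0 := by
    intro σ g0 hg0
    simp only [hF, Finset.mem_filter, Finset.mem_univ, true_and] at hg0
    have h1 := hs' σ g0
    rw [hconj, Perm.mul_apply, Perm.mul_apply] at h1
    rw [← pt_tl (g (pt v g0)), rect_pt, hg0, hιv, Perm.one_apply] at h1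
    have e : pt v (tl (g (pt v g0))) = g (pt v g0) := by
      conv_rhs => rw [← pt_tl (g (pt v g0)), hg0]
    rw [e, inv_app] at h1
    exact (pt_inj.1 h1).2.symm
  have hbase : ∀ σ, ∃ τ : Fin k → Perm (Fin m), s' σ = prodPerm 1 τ := by
    intro σ
    obtain ⟨π, τ, hπτ⟩ := mem_W.1 (hs'W σ)
    refine ⟨τ, ?_⟩
    suffices π = 1 by rw [hπτ, this]
    by_contra hne
    have := card_le_of_fixed hne (by omega) (F := F) (fun g0 hg0 => by rw [← hπτ]; exact hfixF σ g0 hg0)
    omega
  choose τ hτ using hbase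
  have hs'mul : ∀ a b, s' (a * b) = s' a * s' b := fun a b => Equiv.ext fun g0 => by
    have := hs' (a * b) g0
    rw [map_mul, Perm.mul_apply, hs', hs', pt_inj] at this
    exact this.2.symm
  let τhom : alternatingGroup {x : Fin m // x ≠ v} →* (Fin k → Perm (Fin m)) :=
    MonoidHom.mk' τ fun a b => base_injective (by omega) (by
      rw [← hτ, hs'mul, hτ, hτ, prodPerm_mul, one_mul]
      rfl)
  have hfix2 : ∀ i, ∃ p q : Fin m, p ≠ q ∧ ∀ σ,
      ((Pi.evalMonoidHom _ i).comp τhom) σ p = p ∧ ((Pi.evalMonoidHom _ i).comp τhom) σ q = q := by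
    intro i
    obtain ⟨g1, hg1, g2, hg2, hne⟩ : ∃ g1 ∈ F, ∃ g2 ∈ F, g1 i ≠ g2 i := by
      by_contra! hc
      rcases F.eq_empty_or_nonempty with hF0 | ⟨g1, hg1⟩
      · rw [hF0, Finset.card_empty] at hFcard; omega
      · have := Finset.card_le_card (s := F) (t := slice i (g1 i)) fun x hx => by
          rw [mem_slice]; exact hc x hx g1 hg1
        rw [card_slice] at this
        omega
    refine ⟨g1 i, g2 i, hne, fun σ => ⟨?_, ?_⟩⟩
    · have := congrFun (hfixF σ g1 hg1) i
      rwa [hτ, prodPerm_apply] at this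
    · have := congrFun (hfixF σ g2 hg2) i
      rwa [hτ, prodPerm_apply] at this
  obtain ⟨σ, hσ1, hσ⟩ := exists_common_kernel h _ hfix2
  have hs1 : s' σ = 1 := by
    rw [hτ, show τ σ = 1 from funext hσ, prodPerm_one]
  have hfixX : ∀ f ∈ X, ι σ (f 0) = f 0 := by
    intro f hf
    rw [hXg, Finset.mem_image] at hf
    obtain ⟨z, hz, rfl⟩ := hf
    have h1 := hs' σ (tl z)
    have e : pt v (tl z) = z := by
      conv_rhs => rw [← pt_tl z, mem_slice.1 hz]
    rw [hs1, Perm.one_apply, e, hconj, Perm.mul_apply, Perm.mul_apply,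
      Perm.inv_eq_iff_eq] at h1
    have h2 := congrArg (fun e : Pt m (k + 1) => e 0) h1
    rw [← pt_tl (g z), rect_pt] at h2
    simpa using h2
  obtain ⟨f, hf, hfv⟩ : ∃ f ∈ X, f 0 ≠ v := by
    by_contra! hc
    exact hX.2 0 v (Finset.eq_of_subset_of_card_le (fun f hf => mem_slice.2 (hc f hf))
      (by rw [hX.card, card_slice]; simp))
  refine hσ1 (Subtype.ext (Equiv.ext fun x => Subtype.ext ?_))
  have hU : 3 ≤ (({v} : Finset (Fin m))ᶜ).card := by
    rw [Finset.card_compl, Fintype.card_fin, Finset.card_singleton]; omega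
  obtain ⟨δ, hδ, hδs, hδv⟩ := exists_within_even hU (v := f 0) (v' := (x : Fin m)) (by simpa using hfv)
    (by simp [x.2])
  have hmemX : rect δ 1 f ∈ X := by
    rw [← image_eq h hmax hX ht hk hδs (hδ v (by simp))]
    exact Finset.mem_image_of_mem _ hf
  have := hfixX _ hmemX
  rw [← pt_tl f, rect_pt, pt_zero, hδv] at this
  rw [show ι σ (x : Fin m) = ((σ : Perm {x : Fin m // x ≠ v}) x : Fin m) from
    Equiv.Perm.ofSubtype_apply_coe _ x] at this
  exact this

omit hmax in
theorem contra_of_bad {X0 : Finset (Pt m (k + 1))} (hX0 : IsBad H X0) : False := by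
  classical
  have hm := h.hm
  obtain ⟨⟨X, i, a⟩, hXmem, hmax⟩ := Finset.exists_max_image
    (Finset.univ.filter fun p : Finset (Pt m (k + 1)) × Fin (k + 1) × Fin m => IsBad H p.1)
    (fun p => (p.1 ∩ slice p.2.1 p.2.2).card) ⟨(X0, 0, ⟨0, by omega⟩), by simpa using hX0⟩
  obtain ⟨-, hX⟩ := Finset.mem_filter.1 hXmem
  set t := (X ∩ slice i a).card with ht
  have hmax' : ∀ Y, IsBad H Y → ∀ j b, (Y ∩ slice j b).card ≤ t := fun Y hY j b =>
    hmax (Y, j, b) (Finset.mem_filter.2 ⟨Finset.mem_univ _, hY⟩)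
  have hk : m ^ (k - 1) ≤ t := by
    rcases Nat.eq_zero_or_pos k with rfl | hk
    · exfalso
      have := hX.card
      rw [pow_zero, Finset.card_eq_one] at this
      obtain ⟨f, rfl⟩ := this
      refine hX.2 0 (f 0) (Finset.eq_of_subset_of_card_le (by simp) (by simp [card_slice]))
    · have := le_of_bad h hmax' hX
      rw [Nat.add_sub_cancel] at this
      refine Nat.le_of_mul_le_mul_left ?_ (show 0 < m by omega)
      rwa [← pow_succ', Nat.sub_add_cancel hk]
  -- move the coordinate to the first place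
  have move : ∀ {Y : Finset (Pt m (k + 1))}, IsBad H Y → ∀ j, ∃ τ, prodPerm (swap 0 j) τ ∈ H ∧
      IsBad H (Y.image (prodPerm (swap 0 j) τ)) ∧
      ∀ b, (Y.image (prodPerm (swap 0 j) τ) ∩ slice 0 (τ 0 b)).card = (Y ∩ slice j b).card := by
    intro Y hY j
    obtain ⟨τ, hτ⟩ := h.good.perm_mem (swap 0 j)
    refine ⟨τ, hτ, hY.image hτ, fun b => ?_⟩
    have : slice (0 : Fin (k + 1)) (τ 0 b) = (slice j b).image (prodPerm (swap 0 j) τ) := by
      rw [image_slice, swap_apply_right]
    rw [this, ← Finset.image_inter _ _ (Equiv.injective _), Finset.card_image_of_injective _ (Equiv.injective _)]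
  obtain ⟨τ, hτ, hX', hcard⟩ := move hX i
  have hteq : t = m ^ (k - 1) := le_antisymm (le_contra h hmax' hX' (hcard a) hk) hk
  have hk0 : 0 < k := by
    rcases Nat.eq_zero_or_pos k with rfl | hk
    · exfalso
      have := hX.card
      rw [pow_zero, Finset.card_eq_one] at this
      obtain ⟨f, rfl⟩ := this
      exact hX.2 0 (f 0) (Finset.eq_of_subset_of_card_le (by simp) (by simp [card_slice]))
    · exact hk
  -- every slice attains the maximum
  have hall : ∀ {Y}, IsBad H Y → ∀ b, (Y ∩ slice 0 b).card = t := by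
    intro Y hY b
    by_contra hne
    have hlt : ∑ c, (Y ∩ slice 0 c).card < ∑ _c : Fin m, t :=
      Finset.sum_lt_sum (fun c _ => hmax' Y hY 0 c)
        ⟨b, Finset.mem_univ _, lt_of_le_of_ne (hmax' Y hY 0 b) hne⟩
    rw [sum_inter_slice, hY.card, Finset.sum_const, Finset.card_univ, Fintype.card_fin, smul_eq_mul,
      hteq, ← pow_succ', Nat.sub_add_cancel hk0] at hlt
    omega
  -- all even permutations of each coordinate stabilise the bad image
  have hzero : ∀ {Y}, IsBad H Y → ∀ {σ : Perm (Fin m)}, Perm.sign σ = 1 → Y.image (rect σ 1) = Y := by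
    intro Y hY σ hσ
    obtain ⟨b, hb⟩ : ∃ b : Fin m, True := ⟨⟨0, by omega⟩, trivial⟩
    obtain ⟨c, hcb, hcs⟩ : ∃ c, c ≠ b ∧ c ≠ σ b := by
      obtain ⟨c, hc⟩ := Finset.card_pos.1 (show 0 < ({b, σ b}ᶜ : Finset (Fin m)).card by
        rw [Finset.card_compl]
        have : ({b, σ b} : Finset (Fin m)).card ≤ 2 := Finset.card_le_two
        simp; omega)
      simp at hc
      exact ⟨c, hc.1, hc.2⟩
    obtain ⟨τ, hτ, t1, t2⟩ := exists_even_two hm (a := c) (b := c) (c := b) (d := σ b) hcb hcs
    have e : rect σ (1 : Perm (Pt m k)) = rect τ 1 * rect (τ⁻¹ * σ) 1 := by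
      rw [rect_mul, mul_inv_cancel_left, one_mul]
    rw [e, Perm.coe_mul, ← Finset.image_image,
      image_eq h hmax' hY (hall hY b) hk (by simp [hσ, hτ]) (by rw [Perm.mul_apply, Perm.inv_eq_iff_eq, t2]),
      image_eq h hmax' hY (hall hY c) hk hτ t1]
  have hcoord : ∀ j {σ : Perm (Fin m)}, Perm.sign σ = 1 → X.image (coord j σ) = X := by
    intro j σ hσ
    obtain ⟨τ, hτ, hX', -⟩ := move hX j
    have h1 := hzero hX' (σ := τ 0 * σ * (τ 0)⁻¹) (by simp [hσ])
    have hc : rect (τ 0 * σ * (τ 0)⁻¹) 1 * prodPerm (swap 0 j) τ = prodPerm (swap 0 j) τ * coord j σ := by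
      have e := mul_inv_eq_iff_eq_mul.1 (prodPerm_conj_coord (swap 0 j) τ j σ)
      rw [swap_apply_right] at e
      rw [← coord_zero_eq, e]
    rw [Finset.image_image, ← Perm.coe_mul, hc, Perm.coe_mul, ← Finset.image_image] at h1
    exact Finset.image_injective (Equiv.injective _) h1
  let SX : Subgroup (Perm (Pt m (k + 1))) :=
    { carrier := {p | X.image p = X}
      one_mem' := Finset.image_id
      mul_mem' := fun {p q} hp hq => by
        show X.image ⇑(p * q) = X
        rw [Perm.coe_mul, ← Finset.image_image, hq, hp]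
      inv_mem' := fun {p} hp => by
        show X.image ⇑p⁻¹ = X
        conv_lhs => rw [← show X.image p = X from hp, Finset.image_image]
        simp }
  obtain ⟨f, hf⟩ : X.Nonempty := Finset.card_pos.1 (by rw [hX.card]; exact pow_pos (by omega) k)
  have huniv : X = Finset.univ := Finset.eq_univ_iff_forall.2 fun f' => by
    choose τ h1 h2 using fun l => exists_even_one hm (f l) (f' l)
    have := base_mem (G := SX) τ fun l => hcoord l (h1 l)
    rw [← show X.image (prodPerm 1 τ) = X from this]
    exact Finset.mem_image.2 ⟨f, hf, funext h2⟩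
  have := hX.card
  rw [huniv, Finset.card_univ, Fintype.card_fun, Fintype.card_fin, Fintype.card_fin, pow_succ] at this
  have := pow_pos (show 0 < m by omega) k
  nlinarith

omit hmax in
theorem le_W : H ≤ W m (k + 1) := by
  classical
  have hm := h.hm
  intro g hg
  have hs : ∀ i a, ∃ j b, (slice i a).image g = slice j b := by
    intro i a
    by_contra! hc
    exact contra_of_bad h (X0 := (slice i a).image g) ⟨⟨g, hg, i, a, rfl⟩, hc⟩
  choose π τ hπτ using hs
  obtain ⟨a0⟩ : Nonempty (Fin m) := ⟨⟨0, by omega⟩⟩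
  -- parallel slices go to parallel slices
  have meet : ∀ {i j : Fin (k + 1)} {a b : Fin m}, i ≠ j → (slice i a ∩ slice j b).Nonempty := fun {i j a b} hij =>
    ⟨Function.update (fun _ => a) j b, by simp [hij]⟩
  have hpar : ∀ i a, π i a = π i a0 := by
    intro i a
    by_cases ha : a = a0
    · rw [ha]
    by_contra hne
    obtain ⟨x, hx⟩ := meet (a := τ i a) (b := τ i a0) hne
    rw [← hπτ, ← hπτ, ← Finset.image_inter _ _ (Equiv.injective _), Finset.mem_image] at hx
    obtain ⟨y, hy, -⟩ := hx
    simp only [Finset.mem_inter, mem_slice] at hy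
    exact ha (hy.1.symm.trans hy.2)
  have hval : ∀ f i, g f (π i a0) = τ i (f i) := by
    intro f i
    have : g f ∈ (slice i (f i)).image g := Finset.mem_image_of_mem _ (by simp)
    rw [hπτ, mem_slice, hpar] at this
    exact this
  have hτinj : ∀ i, Function.Injective (τ i) := fun i a b e => by
    by_contra hne
    have e' : (slice i a).image g = (slice i b).image g := by
      rw [hπτ, hπτ, hpar i a, hpar i b, e]
    have := Finset.image_injective (Equiv.injective g) e'
    have hmem : Function.update (fun _ => a) i a ∈ slice i b := this ▸ (by simp)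
    simp at hmem
    exact hne hmem
  have hπinj : Function.Injective fun i => π i a0 := fun i j e => by
    by_contra hne
    -- some value at the two coordinates gives a mismatch
    obtain ⟨a, ha⟩ : ∃ a, τ i a0 ≠ τ j a := by
      by_contra! hc
      obtain ⟨b, hb⟩ : ∃ b : Fin m, b ≠ a0 := by
        haveI : Nontrivial (Fin m) := Fin.nontrivial_iff_two_le.2 (by omega)
        exact exists_ne _
      exact hb (hτinj j ((hc b).symm.trans (hc a0)))
    have h1 := hval (Function.update (fun _ => a0) j a) i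
    have h2 := hval (Function.update (fun _ => a0) j a) j
    simp only at e
    rw [e, h2] at h1
    simp [hne] at h1
    exact ha h1.symm
  let P : Perm (Fin (k + 1)) := Equiv.ofBijective _ (Finite.injective_iff_bijective.1 hπinj)
  let Tt : Fin (k + 1) → Perm (Fin m) := fun l =>
    Equiv.ofBijective _ (Finite.injective_iff_bijective.1 (hτinj (P.symm l)))
  refine mem_W.2 ⟨P, Tt, Equiv.ext fun f => funext fun l => ?_⟩
  have := hval f (P.symm l)
  rw [show π (P.symm l) a0 = l from P.apply_symm_apply l] at this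
  exact this

end Step

/-- A good group consists of product permutations or contains all even permutations. -/
theorem dich (hm : 5 ≤ m) : ∀ k, Dich m k := by
  intro k
  induction k with
  | zero => exact fun G _ => Or.inl fun σ _ => W_mem_of_le_one (by omega) σ
  | succ k ih =>
    intro G hG
    by_cases hA : alternatingGroup (Pt m (k + 1)) ≤ G
    · exact Or.inr hA
    · exact Or.inl (le_W ⟨hm, ih, hG, hA⟩)

end CfsgLib.ProductMax
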