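import Cfsg.Agent.Lib.ProductMax.Slices

/-!
# Permutations made of one slice and the lines over the other values

Permutations of values supported in a set, and the permutations `mk` acting on one slice and permuting
the lines over some further values.
-/

set_option autoImplicit false

namespace CfsgLib.ProductMax

open Equiv Equiv.Perm MulAction

variable {m k : ℕ}

/-- The permutations supported in a set. -/
def within (S : Finset (Fin m)) : Subgroup (Perm (Fin m)) where
  carrier := {α | ∀ v ∉ S, α v = v}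
  one_mem' := fun _ _ => rfl
  mul_mem' := fun {a b} ha hb v hv => by rw [Perm.mul_apply, hb v hv, ha v hv]
  inv_mem' := fun {a} ha v hv => by rw [Perm.inv_eq_iff_eq, ha v hv]

theorem mem_within {S : Finset (Fin m)} {α : Perm (Fin m)} :
    α ∈ within S ↔ ∀ v ∉ S, α v = v := Iff.rfl

theorem within_mem {S : Finset (Fin m)} {α : Perm (Fin m)} (hα : α ∈ within S) {v : Fin m}
    (hv : v ∈ S) : α v ∈ S := by
  by_contra hn
  have := hα _ hn
  rw [EmbeddingLike.apply_eq_iff_eq] at this
  rw [this] at hn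
  exact hn hv

theorem swap_mem_within {S : Finset (Fin m)} {x y : Fin m} (hx : x ∈ S) (hy : y ∈ S) :
    swap x y ∈ within S := fun v hv =>
  swap_apply_of_ne_of_ne (fun e => hv (e ▸ hx)) (fun e => hv (e ▸ hy))

/-- An even permutation of a set of at least three values moving one value to another. -/
theorem exists_within_even {S : Finset (Fin m)} (hS : 3 ≤ S.card) {v v' : Fin m} (hv : v ∈ S)
    (hv' : v' ∈ S) : ∃ σ ∈ within S, Perm.sign σ = 1 ∧ σ v = v' := by
  rcases eq_or_ne v v' with rfl | hne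
  · exact ⟨1, one_mem _, map_one _, rfl⟩
  obtain ⟨w, hw⟩ : ∃ w, w ∈ (S.erase v).erase v' := Finset.card_pos.1 (by
    rw [Finset.card_erase_of_mem (Finset.mem_erase.2 ⟨hne.symm, hv'⟩), Finset.card_erase_of_mem hv]
    omega)
  simp only [Finset.mem_erase] at hw
  refine ⟨swap v w * swap v v', mul_mem (swap_mem_within hv hw.2.2) (swap_mem_within hv hv'),
    by simp [sign_swap hne, sign_swap hw.2.1.symm], ?_⟩
  rw [Perm.mul_apply, swap_apply_left, swap_apply_of_ne_of_ne hne.symm (Ne.symm hw.1)]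

/-- The elements of `within S` commuting with all its even ones. -/
def cen (S : Finset (Fin m)) : Subgroup (Perm (Fin m)) :=
  within S ⊓ Subgroup.centralizer {σ | σ ∈ within S ∧ Perm.sign σ = 1}

theorem mem_cen {S : Finset (Fin m)} {c : Perm (Fin m)} :
    c ∈ cen S ↔ c ∈ within S ∧ ∀ σ ∈ within S, Perm.sign σ = 1 → σ * c = c * σ := by
  simp only [cen, Subgroup.mem_inf, Subgroup.mem_centralizer_iff, Set.mem_ofPred_eq, and_imp]

/-- An even permutation of three values has order dividing three. -/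
theorem pow_three_of_within {S : Finset (Fin m)} (hS : S.card ≤ 3) {c : Perm (Fin m)}
    (hc : c ∈ within S) (hs : Perm.sign c = 1) : c ^ 3 = 1 := by
  rcases eq_or_ne c 1 with rfl | hne
  · simp
  have hle : c.support.card ≤ 3 := le_trans (Finset.card_le_card fun v hv => by
    by_contra e
    exact (Perm.mem_support.1 hv) (hc v e)) hS
  have h2 : 2 ≤ c.support.card := two_le_card_support_of_ne_one hne
  have h3 : c.support.card = 3 := by
    rcases Nat.lt_or_ge c.support.card 3 with hlt | hge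
    · exfalso
      have : c.support.card = 2 := by omega
      rw [card_support_eq_two] at this
      rw [this.sign_eq] at hs
      exact absurd hs (by decide)
    · omega
  rw [card_support_eq_three_iff] at h3
  rw [← h3.orderOf]
  exact pow_orderOf_eq_one c

/-- Over at least four values only the identity commutes with all the even permutations. -/
theorem cen_eq_one {S : Finset (Fin m)} (h4 : 4 ≤ S.card) {c : Perm (Fin m)} (hc : c ∈ cen S) :
    c = 1 := by
  rw [mem_cen] at hc
  obtain ⟨hcS, hcomm⟩ := hc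
  ext a : 1
  rw [Perm.one_apply]
  by_cases ha : a ∈ S
  swap
  · exact hcS a ha
  by_contra hne
  have hca := within_mem hcS ha
  obtain ⟨u, hu, u', hu', huu⟩ : ∃ u ∈ (S.erase a).erase (c a), ∃ u' ∈ (S.erase a).erase (c a), u ≠ u' :=
    Finset.one_lt_card.1 (by
      rw [Finset.card_erase_of_mem (Finset.mem_erase.2 ⟨hne, hca⟩), Finset.card_erase_of_mem ha]
      omega)
  simp only [Finset.mem_erase] at hu hu'
  have := congrArg (fun e : Perm (Fin m) => e a) (hcomm (swap (c a) u * swap (c a) u')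
    (mul_mem (swap_mem_within hca hu.2.2) (swap_mem_within hca hu'.2.2))
    (by simp [sign_swap hu.1.symm, sign_swap hu'.1.symm]))
  simp only [Perm.mul_apply] at this
  rw [swap_apply_of_ne_of_ne (Ne.symm hne) hu'.2.1.symm,
    swap_apply_of_ne_of_ne (Ne.symm hne) hu.2.1.symm, swap_apply_left,
    swap_apply_of_ne_of_ne hu'.1 huu.symm] at this
  exact hu'.1 this

theorem cen_prop {S : Finset (Fin m)} (hS : 3 ≤ S.card) {c : Perm (Fin m)} (hc : c ∈ cen S) :
    Perm.sign c = 1 ∧ c ^ 3 = 1 ∧
      ∀ x ∈ S, ∀ y ∈ S, x ≠ y → swap x y * c * swap x y = c⁻¹ := by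
  rw [mem_cen] at hc
  obtain ⟨hcS, hcomm⟩ := hc
  rcases Nat.lt_or_ge S.card 4 with h4 | h4
  swap
  · -- four values: trivial
    have : c = 1 := cen_eq_one h4 (mem_cen.2 ⟨hcS, hcomm⟩)
    subst this
    simp [swap_mul_self]
  have h3 : S.card = 3 := by omega
  have key : ∀ x ∈ S, ∀ y ∈ S, x ≠ y → ∃ w, x ≠ w ∧
      (c = 1 ∨ c = swap x w * swap x y ∨ c = (swap x w * swap x y)⁻¹) := by
    intro x hx y hy hxy
    obtain ⟨w, hw⟩ : ∃ w, w ∈ (S.erase x).erase y := Finset.card_pos.1 (by
      rw [Finset.card_erase_of_mem (Finset.mem_erase.2 ⟨hxy.symm, hy⟩), Finset.card_erase_of_mem hx]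
      omega)
    simp only [Finset.mem_erase] at hw
    have hS' : ∀ v ∈ S, v = x ∨ v = y ∨ v = w := by
      have : ({x, y, w} : Finset (Fin m)) = S := Finset.eq_of_subset_of_card_le
        (by simp [Finset.insert_subset_iff, hx, hy, hw.2.2])
        (by rw [Finset.card_eq_three.2 ⟨x, y, w, hxy, hw.2.1.symm, hw.1.symm, rfl⟩, h3])
      intro v hv
      rw [← this] at hv
      simpa using hv
    set σ := swap x w * swap x y with hσ
    have hσS : σ ∈ within S := mul_mem (swap_mem_within hx hw.2.2) (swap_mem_within hx hy)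
    have hσc := hcomm σ hσS (by simp [hσ, sign_swap hxy, sign_swap hw.2.1.symm])
    have exy : σ x = y := by
      rw [hσ, Perm.mul_apply, swap_apply_left, swap_apply_of_ne_of_ne hxy.symm hw.1.symm]
    have eyw : σ y = w := by rw [hσ, Perm.mul_apply, swap_apply_right, swap_apply_left]
    -- an element commuting with the cycle is determined by one value
    have det : ∀ d : Perm (Fin m), d ∈ within S → σ * d = d * σ → c x = d x → c = d := by
      intro d hd hdc e
      have hy' : c y = d y := by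
        have h1 := congrArg (fun e : Perm (Fin m) => e x) hσc
        have h2 := congrArg (fun e : Perm (Fin m) => e x) hdc
        simp only [Perm.mul_apply, exy] at h1 h2
        rw [← h1, ← h2, e]
      have hw' : c w = d w := by
        have h1 := congrArg (fun e : Perm (Fin m) => e y) hσc
        have h2 := congrArg (fun e : Perm (Fin m) => e y) hdc
        simp only [Perm.mul_apply, eyw] at h1 h2
        rw [← h1, ← h2, hy']
      ext v : 1
      by_cases hv : v ∈ S
      · rcases hS' v hv with rfl | rfl | rfl <;> assumption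
      · rw [hcS v hv, hd v hv]
    refine ⟨w, hw.2.1.symm, ?_⟩
    rcases hS' _ (within_mem hcS hx) with e | e | e
    · exact Or.inl (det 1 (one_mem _) (by simp) (by simp [e]))
    · exact Or.inr (Or.inl (det σ hσS rfl (by rw [e, exy])))
    · refine Or.inr (Or.inr (det σ⁻¹ (inv_mem hσS) (by group) ?_))
      rw [e, eq_comm, Perm.inv_eq_iff_eq]
      rw [hσ, Perm.mul_apply, swap_apply_of_ne_of_ne hw.2.1 hw.1, swap_apply_right]
  refine ⟨?_, ?_, fun x hx y hy hxy => ?_⟩
  · obtain ⟨x, hx, y, hy, hxy⟩ := Finset.one_lt_card.1 (show 1 < S.card by omega)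
    obtain ⟨w, hw, rfl | rfl | rfl⟩ := key x hx y hy hxy <;> simp [sign_swap hxy, sign_swap hw]
  · obtain ⟨x, hx, y, hy, hxy⟩ := Finset.one_lt_card.1 (show 1 < S.card by omega)
    refine pow_three_of_within (S := S) (by omega) hcS ?_
    obtain ⟨w, hw, rfl | rfl | rfl⟩ := key x hx y hy hxy <;> simp [sign_swap hxy, sign_swap hw]
  · obtain ⟨w, -, rfl | rfl | rfl⟩ := key x hx y hy hxy
    · simp [swap_mul_self]
    · rw [mul_inv_rev, swap_inv, swap_inv, mul_assoc, mul_assoc (swap x w), swap_mul_self, mul_one]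
    · rw [inv_inv, mul_inv_rev, swap_inv, swap_inv, ← mul_assoc, swap_mul_self, one_mul]

theorem cen_comm {S : Finset (Fin m)} (hS : 3 ≤ S.card) {c c' : Perm (Fin m)} (hc : c ∈ cen S)
    (hc' : c' ∈ cen S) : c * c' = c' * c :=
  (mem_cen.1 hc').2 c (mem_cen.1 hc).1 (cen_prop hS hc).1

theorem exists_coord_noncomm (hm : 5 ≤ m) (i : Fin k) :
    ∃ α δ : Perm (Fin m), Perm.sign α = 1 ∧ Perm.sign δ = 1 ∧
      coord i α * coord i δ ≠ coord i δ * coord i α := by
  let a : Fin m := ⟨0, by omega⟩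
  let b : Fin m := ⟨1, by omega⟩
  let c : Fin m := ⟨2, by omega⟩
  have hab : a ≠ b := by simp [a, b, Fin.ext_iff]
  have hac : a ≠ c := by simp [a, c, Fin.ext_iff]
  have hbc : b ≠ c := by simp [b, c, Fin.ext_iff]
  set α := swap a b * swap a c with hαd
  have hα : Perm.sign α = 1 := by simp [hαd, sign_swap hab, sign_swap hac]
  have hα1 : α ≠ 1 := fun e => by
    have := congrArg (fun e : Perm (Fin m) => e c) e
    simp [hαd, swap_apply_def, hbc.symm, hac.symm, hab] at this
    exact hbc this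
  obtain ⟨δ, hδ, hne⟩ : ∃ δ, Perm.sign δ = 1 ∧ δ * α ≠ α * δ := by
    by_contra! e
    exact hα1 (eq_one_of_commute_even hm e)
  refine ⟨α, δ, hα, hδ, fun e => hne ?_⟩
  rw [← map_mul, ← map_mul] at e
  ext v : 1
  have := congrArg (fun e : Perm (Pt m k) => e (fun _ => v) i) e
  simpa [coord_apply] using this.symm

/-- Over the values of `T` the lines are permuted by `π` and then changed by `β`; the slice over
`b` is permuted by `ρ`; all else is fixed. -/
def mk (b : Fin m) (T : Finset (Fin m)) (π ρ : Perm (Pt m k)) (β : Pt m k → Perm (Fin m)) :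
    Perm (Pt m (k + 1)) :=
  lineMap β * sliceMap fun v => if v ∈ T then π else if v = b then ρ else 1

section Piece

variable {b : Fin m} {T : Finset (Fin m)} {π π' ρ ρ' : Perm (Pt m k)}
  {β β' : Pt m k → Perm (Fin m)}

theorem mk_pt_mem {v : Fin m} (hv : v ∈ T) (g : Pt m k) :
    mk b T π ρ β (pt v g) = pt (β (π g) v) (π g) := by
  simp [mk, hv]

theorem mk_pt_b (hb : b ∉ T) (hβ : ∀ g, β g ∈ within T) (g : Pt m k) :
    mk b T π ρ β (pt b g) = pt b (ρ g) := by
  simp [mk, hb, hβ _ b hb]

theorem mk_pt_out (hβ : ∀ g, β g ∈ within T) {v : Fin m} (hv : v ∉ T) (hvb : v ≠ b) (g : Pt m k) :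
    mk b T π ρ β (pt v g) = pt v g := by
  simp [mk, hv, hvb, hβ _ v hv]

theorem mk_mul (hb : b ∉ T) (hβ : ∀ g, β g ∈ within T) (hβ' : ∀ g, β' g ∈ within T) :
    mk b T π ρ β * mk b T π' ρ' β' = mk b T (π * π') (ρ * ρ') (fun g => β g * β' (π⁻¹ g)) := by
  have hh : ∀ g, (fun g => β g * β' (π⁻¹ g)) g ∈ within T := fun g => mul_mem (hβ g) (hβ' _)
  refine ext_pt fun v g => ?_
  rw [Perm.mul_apply]
  by_cases hv : v ∈ T
  · rw [mk_pt_mem hv, mk_pt_mem (within_mem (hβ' _) hv), mk_pt_mem hv]
    simp [Perm.mul_apply]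
  · by_cases hvb : v = b
    · subst hvb
      rw [mk_pt_b hb hβ', mk_pt_b hb hβ, mk_pt_b hb hh, Perm.mul_apply]
    · rw [mk_pt_out hβ' hv hvb, mk_pt_out hβ hv hvb, mk_pt_out hh hv hvb]

theorem mk_one : mk b T (1 : Perm (Pt m k)) 1 1 = 1 :=
  ext_pt fun v g => by simp [mk]

theorem mk_inv (hb : b ∉ T) (hβ : ∀ g, β g ∈ within T) :
    (mk b T π ρ β)⁻¹ = mk b T π⁻¹ ρ⁻¹ (fun g => (β (π g))⁻¹) := by
  rw [inv_eq_iff_mul_eq_one, mk_mul hb hβ (fun g => inv_mem (hβ _)), mul_inv_cancel, mul_inv_cancel]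
  convert mk_one (b := b) (T := T) (m := m) (k := k) using 2
  funext g
  simp

theorem mk_conj_lift (hb : b ∉ T) (hβ : ∀ g, β g ∈ within T) (u : Perm (Pt m k)) :
    rect 1 u * mk b T π ρ β * (rect 1 u)⁻¹ =
      mk b T (u * π * u⁻¹) (u * ρ * u⁻¹) (fun g => β (u⁻¹ g)) := by
  have hh : ∀ g, (fun g => β (u⁻¹ g)) g ∈ within T := fun g => hβ _
  refine ext_pt fun v g => ?_
  simp only [Perm.mul_apply, rect_inv, inv_one, rect_pt, Perm.one_apply]
  by_cases hv : v ∈ T
  · rw [mk_pt_mem hv, mk_pt_mem hv, rect_pt]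
    simp [Perm.mul_apply]
  · by_cases hvb : v = b
    · subst hvb
      rw [mk_pt_b hb hβ, mk_pt_b hb hh, rect_pt]
      simp [Perm.mul_apply]
    · rw [mk_pt_out hβ hv hvb, mk_pt_out hh hv hvb, rect_pt]
      simp

theorem mk_of_line (hb : b ∉ T) (hβ : ∀ g, β g ∈ within T) : mk b T 1 1 β = lineMap β :=
  ext_pt fun v g => by
    by_cases hv : v ∈ T
    · rw [mk_pt_mem hv, lineMap_pt]; rfl
    · by_cases hvb : v = b
      · subst hvb; rw [mk_pt_b hb hβ, lineMap_pt, hβ g v hv]; rfl
      · rw [mk_pt_out hβ hv hvb, lineMap_pt, hβ g v hv]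

end Piece

end CfsgLib.ProductMax
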