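import Cfsg.Agent.Lib.ProductMax.Basic

/-!
# Product permutations on one coordinate times the others, and descent to a three-cycle

The points of `Pt m (k + 1)` are pairs of a first value and a tail.  The main result is that a good
group containing an element which acts as a three-cycle on the values of some coordinates, with one
value of one coordinate separated, contains a three-cycle.
-/

set_option autoImplicit false

namespace CfsgLib.ProductMax

open Equiv Equiv.Perm MulAction

variable {m k : ℕ}

theorem app_inv {α : Type*} (e : Perm α) (x : α) : e (e⁻¹ x) = x := e.apply_symm_apply x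

theorem inv_app {α : Type*} (e : Perm α) (x : α) : e⁻¹ (e x) = x := e.symm_apply_apply x

/-- The point with given first value and tail. -/
def pt (v : Fin m) (g : Pt m k) : Pt m (k + 1) := Fin.cons v g

/-- The tail of a point. -/
def tl (f : Pt m (k + 1)) : Pt m k := fun i => f i.succ

@[simp] theorem pt_zero (v : Fin m) (g : Pt m k) : pt v g 0 = v := rfl

@[simp] theorem pt_succ (v : Fin m) (g : Pt m k) (i : Fin k) : pt v g i.succ = g i := rfl

@[simp] theorem tl_pt (v : Fin m) (g : Pt m k) : tl (pt v g) = g := rfl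

@[simp] theorem pt_tl (f : Pt m (k + 1)) : pt (f 0) (tl f) = f := Fin.cons_self_tail f

theorem pt_inj {v v' : Fin m} {g g' : Pt m k} : pt v g = pt v' g' ↔ v = v' ∧ g = g' :=
  ⟨fun h => ⟨congrFun h 0, congrArg tl h⟩, fun ⟨h1, h2⟩ => by rw [h1, h2]⟩

theorem ext_pt {x y : Perm (Pt m (k + 1))} (h : ∀ v g, x (pt v g) = y (pt v g)) : x = y :=
  Equiv.ext fun f => by rw [← pt_tl f]; exact h _ _

/-- A family of permutations of the first value, indexed by the tail. -/
def lineMap : (Pt m k → Perm (Fin m)) →* Perm (Pt m (k + 1)) where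
  toFun β :=
    { toFun := fun f => pt (β (tl f) (f 0)) (tl f)
      invFun := fun f => pt ((β (tl f)).symm (f 0)) (tl f)
      left_inv := fun f => by simp
      right_inv := fun f => by simp }
  map_one' := Equiv.ext fun f => by simp
  map_mul' β γ := Equiv.ext fun f => by simp

@[simp] theorem lineMap_pt (β : Pt m k → Perm (Fin m)) (v : Fin m) (g : Pt m k) :
    lineMap β (pt v g) = pt (β g v) g := rfl

theorem lineMap_injective : Function.Injective (lineMap (m := m) (k := k)) := fun β γ h => by
  funext g
  ext v : 1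
  have := congrArg (fun e : Perm (Pt m (k + 1)) => e (pt v g) 0) h
  simpa using this

/-- A family of permutations of the tail, indexed by the first value. -/
def sliceMap : (Fin m → Perm (Pt m k)) →* Perm (Pt m (k + 1)) where
  toFun p :=
    { toFun := fun f => pt (f 0) (p (f 0) (tl f))
      invFun := fun f => pt (f 0) ((p (f 0)).symm (tl f))
      left_inv := fun f => by simp
      right_inv := fun f => by simp }
  map_one' := Equiv.ext fun f => by simp
  map_mul' p q := Equiv.ext fun f => by simp

@[simp] theorem sliceMap_pt (p : Fin m → Perm (Pt m k)) (v : Fin m) (g : Pt m k) :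
    sliceMap p (pt v g) = pt v (p v g) := rfl

/-- A permutation of the first value times a permutation of the tail. -/
def rect (α : Perm (Fin m)) (π : Perm (Pt m k)) : Perm (Pt m (k + 1)) :=
  lineMap (fun _ => α) * sliceMap (fun _ => π)

@[simp] theorem rect_pt (α : Perm (Fin m)) (π : Perm (Pt m k)) (v : Fin m) (g : Pt m k) :
    rect α π (pt v g) = pt (α v) (π g) := rfl

theorem rect_mul (α α' : Perm (Fin m)) (π π' : Perm (Pt m k)) :
    rect α π * rect α' π' = rect (α * α') (π * π') :=
  ext_pt fun v g => by simp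

theorem rect_one_one : rect (1 : Perm (Fin m)) (1 : Perm (Pt m k)) = 1 :=
  ext_pt fun v g => by simp

theorem rect_inv (α : Perm (Fin m)) (π : Perm (Pt m k)) : (rect α π)⁻¹ = rect α⁻¹ π⁻¹ := by
  rw [inv_eq_iff_mul_eq_one, rect_mul, mul_inv_cancel, mul_inv_cancel, rect_one_one]

theorem rect_pow (α : Perm (Fin m)) (π : Perm (Pt m k)) (n : ℕ) :
    rect α π ^ n = rect (α ^ n) (π ^ n) := by
  induction n with
  | zero => simp [rect_one_one]
  | succ n ih => rw [pow_succ, ih, rect_mul, pow_succ, pow_succ]

theorem coord_zero_eq (α : Perm (Fin m)) : coord (0 : Fin (k + 1)) α = rect α 1 :=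
  ext_pt fun v g => by
    rw [coord_apply, rect_pt, pt_zero]
    funext i
    refine Fin.cases ?_ (fun i => ?_) i <;> simp [Fin.succ_ne_zero]

theorem coord_succ_eq (i : Fin k) (α : Perm (Fin m)) :
    coord i.succ α = rect 1 (coord i α) :=
  ext_pt fun v g => by
    rw [coord_apply, rect_pt, coord_apply, pt_succ]
    funext j
    refine Fin.cases ?_ (fun j => ?_) j
    · simp [(Fin.succ_ne_zero i).symm]
    · by_cases h : j = i
      · subst h; simp
      · simp [h, Fin.succ_inj]

theorem sign_rect (α : Perm (Fin m)) (π : Perm (Pt m k)) :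
    Perm.sign (rect α π) = Perm.sign α ^ (m ^ k) * Perm.sign π ^ m := by
  have h : rect α π = (Fin.consEquiv fun _ : Fin (k + 1) => Fin m).permCongr
      ((Equiv.prodCongrLeft fun _ : Pt m k => α) * Equiv.prodCongrRight fun _ : Fin m => π) :=
    ext_pt fun v g => rfl
  rw [h, sign_permCongr, Perm.sign_mul, sign_prodCongrLeft, sign_prodCongrRight, Finset.prod_const,
    Finset.prod_const, Finset.card_univ, Finset.card_univ, Fintype.card_fun, Fintype.card_fin,
    Fintype.card_fin]

/-- The permutation of all the coordinates fixing the first one. -/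
theorem rect_mem_W (α : Perm (Fin m)) {π : Perm (Pt m k)} (h : π ∈ W m k) :
    rect α π ∈ W m (k + 1) := by
  obtain ⟨σ, τ, rfl⟩ := h
  refine ⟨Equiv.Perm.decomposeFin.symm (0, σ), Fin.cons α τ, ext_pt fun v g => ?_⟩
  funext i
  rw [prodPerm_apply, rect_pt]
  refine Fin.cases ?_ (fun i => ?_) i
  · have : (Equiv.Perm.decomposeFin.symm (0, σ)).symm 0 = (0 : Fin (k + 1)) := by
      rw [Equiv.symm_apply_eq]; simp
    rw [this]; rfl
  · have : (Equiv.Perm.decomposeFin.symm (0, σ)).symm i.succ = (σ.symm i).succ := by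
      rw [Equiv.symm_apply_eq]; simp
    rw [this]; rfl

/-- The tail permutations whose lifts are even product permutations. -/
def IsLift (g : Perm (Pt m k)) : Prop := g ∈ W m k ∧ (Even m ∨ Perm.sign g = 1)

theorem isLift_of_even {g : Perm (Pt m k)} (hg : g ∈ W m k) (h : Perm.sign g = 1) : IsLift g :=
  ⟨hg, Or.inr h⟩

theorem isLift_coord (i : Fin k) {α : Perm (Fin m)} (h : Perm.sign α = 1) : IsLift (coord i α) :=
  isLift_of_even (coord_mem i α) (sign_coord_even i h)

theorem IsLift.lift_mem {g : Perm (Pt m k)} (h : IsLift g) {G : Subgroup (Perm (Pt m (k + 1)))}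
    (hG : Good G) : rect 1 g ∈ G := by
  refine hG.even_mem _ (rect_mem_W 1 h.1) ?_
  rw [sign_rect, map_one, one_pow, one_mul]
  rcases h.2 with he | h1
  · rcases Int.units_eq_one_or (Perm.sign g) with h1 | h1
    · rw [h1, one_pow]
    · rw [h1, he.neg_one_pow]
  · rw [h1, one_pow]

theorem sign_coord_swap (hm : Odd m) (i : Fin k) {a b : Fin m} (hab : a ≠ b) :
    Perm.sign (coord i (swap a b)) = -1 := by
  rw [sign_coord, sign_swap hab, (hm.pow).neg_one_pow]

theorem exists_isLift_perm (hm : 5 ≤ m) (π : Perm (Fin k)) : ∃ τ, IsLift (prodPerm (m := m) π τ) := by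
  rcases Nat.even_or_odd m with he | ho
  · exact ⟨1, prodPerm_mem _ _, Or.inl he⟩
  rcases Int.units_eq_one_or (Perm.sign (prodPerm (m := m) π 1)) with h | h
  · exact ⟨1, prodPerm_mem _ _, Or.inr h⟩
  rcases isEmpty_or_nonempty (Fin k) with hk | ⟨⟨i⟩⟩
  · exact ⟨1, prodPerm_mem _ _, Or.inr (by rw [show prodPerm (m := m) π 1 = 1 from
      Equiv.ext fun f => funext fun j => hk.elim j, map_one])⟩
  let t : Perm (Fin m) := swap ⟨0, by omega⟩ ⟨1, by omega⟩
  refine ⟨fun l => Function.update (1 : Fin k → Perm (Fin m)) i t l, prodPerm_mem _ _, Or.inr ?_⟩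
  have : prodPerm π (fun l => Function.update (1 : Fin k → Perm (Fin m)) i t l) = coord i t * prodPerm π 1 := by
    show _ = prodPerm _ _ * _
    rw [prodPerm_mul, one_mul]
    ext f l
    simp
  rw [this, Perm.sign_mul, h, sign_coord_swap ho i (by simp [Fin.ext_iff])]
  rfl

/-- A group containing all the lifts is good. -/
theorem good_of_isLift (hm : 5 ≤ m) {G : Subgroup (Perm (Pt m k))} (h : ∀ g, IsLift g → g ∈ G) :
    Good G :=
  ⟨fun g hg hs => h g (isLift_of_even hg hs), fun π => (exists_isLift_perm hm π).imp fun _ hτ => h _ hτ⟩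

/-- An even change of one coordinate fixing one tail and moving another. -/
theorem exists_lift_fix_move (hm : 5 ≤ m) {g g' : Pt m k} (h : g ≠ g') :
    ∃ (i : Fin k) (α : Perm (Fin m)), Perm.sign α = 1 ∧ coord i α g = g ∧ coord i α g' ≠ g' := by
  obtain ⟨i, hi⟩ := Function.ne_iff.1 h
  obtain ⟨b, hb1, hb2⟩ : ∃ b, b ≠ g i ∧ b ≠ g' i := by
    obtain ⟨b, hb⟩ := Finset.card_pos.1 (show 0 < ({g i, g' i}ᶜ : Finset (Fin m)).card by
      rw [Finset.card_compl, Finset.card_pair hi]; simp; omega)
    simp at hb
    exact ⟨b, hb.1, hb.2⟩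
  obtain ⟨α, hα, e1, e2⟩ := exists_even_two hm (a := g i) (b := g i) (c := g' i) (d := b) hi hb1.symm
  refine ⟨i, α, hα, by rw [coord_apply, e1, Function.update_eq_self], fun e => hb2 ?_⟩
  have := congrFun e i
  rwa [coord_apply, Function.update_self, e2] at this

/-! ### Descent to a three-cycle -/

/-- Agreement of two points on a set of coordinates. -/
def Agree (J : Finset (Fin k)) (f p : Pt m k) : Prop := ∀ l ∈ J, f l = p l

/-- The permutation acts as the three-cycle `p → q → r` on the values of the coordinates in `J`. -/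
structure IsCyc (x : Perm (Pt m k)) (J : Finset (Fin k)) (p q r : Pt m k) : Prop where
  fst : ∀ f, Agree J f p → x f = J.piecewise q f
  snd : ∀ f, Agree J f q → x f = J.piecewise r f
  trd : ∀ f, Agree J f r → x f = J.piecewise p f
  rest : ∀ f, ¬ Agree J f p → ¬ Agree J f q → ¬ Agree J f r → x f = f

/-- The commutator of two permutations whose supports meet in a set mapped off the other support. -/
theorem commutator_apply {α : Type*} {x y : Perm α} {X Y I : α → Prop}
    (hX : ∀ u, ¬ X u → x u = u) (hY : ∀ u, ¬ Y u → y u = u) (hI : ∀ u, X u → Y u → I u)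
    (hx : ∀ u, I u → ¬ Y (x u)) (hx' : ∀ u, I u → ¬ Y (x⁻¹ u))
    (hy : ∀ u, I u → ¬ X (y u)) (hy' : ∀ u, I u → ¬ X (y⁻¹ u)) :
    (∀ u, I u → (x * y * x⁻¹ * y⁻¹) u = x u ∧ (x * y * x⁻¹ * y⁻¹) (x u) = y u ∧
      (x * y * x⁻¹ * y⁻¹) (y u) = u) ∧
    ∀ u, ¬ I u → ¬ I (x⁻¹ u) → ¬ I (y⁻¹ u) → (x * y * x⁻¹ * y⁻¹) u = u := by
  have hXi : ∀ u, ¬ X u → x⁻¹ u = u := fun u hu => by
    rw [Perm.inv_eq_iff_eq, hX u hu]
  have hYi : ∀ u, ¬ Y u → y⁻¹ u = u := fun u hu => by
    rw [Perm.inv_eq_iff_eq, hY u hu]
  refine ⟨fun u hu => ⟨?_, ?_, ?_⟩, fun u h1 h2 h3 => ?_⟩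
  · simp only [Perm.mul_apply]
    rw [hXi _ (hy' u hu), app_inv]
  · simp only [Perm.mul_apply]
    rw [hYi _ (hx u hu), inv_app, hX _ (hy u hu)]
  · simp only [Perm.mul_apply]
    rw [inv_app, hY _ (hx' u hu), app_inv]
  · simp only [Perm.mul_apply]
    by_cases hYu : Y u
    · have hXu : ¬ X u := fun h => h1 (hI u h hYu)
      have hY2 : Y (y⁻¹ u) := by
        by_contra h
        have := hY _ h
        rw [app_inv] at this
        rw [← this] at h
        exact h hYu
      rw [hXi _ (fun h => h3 (hI _ h hY2)), app_inv, hX _ hXu]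
    · rw [hYi u hYu]
      have : ¬ Y (x⁻¹ u) := by
        intro h
        by_cases hX2 : X (x⁻¹ u)
        · exact h2 (hI _ hX2 h)
        · have := hX _ hX2
          rw [app_inv] at this
          rw [← this] at h
          exact hYu h
      rw [hY _ this, app_inv]

theorem IsCyc.conj {x : Perm (Pt m k)} {J : Finset (Fin k)} {p q r : Pt m k} (h : IsCyc x J p q r)
    (π : Perm (Fin k)) (τ : Fin k → Perm (Fin m)) :
    IsCyc (prodPerm π τ * x * (prodPerm π τ)⁻¹) (J.image π) (prodPerm π τ p) (prodPerm π τ q)
      (prodPerm π τ r) := by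
  set w := prodPerm π τ with hw
  have hag : ∀ f a, Agree (J.image π) (w f) (w a) ↔ Agree J f a := by
    intro f a
    constructor
    · intro hh l hl
      have := hh _ (Finset.mem_image_of_mem π hl)
      simpa [hw] using this
    · intro hh l hl
      obtain ⟨l, hl', rfl⟩ := Finset.mem_image.1 hl
      simp [hw, hh l hl']
  have hpw : ∀ f a, w (J.piecewise a f) = (J.image π).piecewise (w a) (w f) := by
    intro f a
    funext l
    by_cases hl : π.symm l ∈ J
    · have : l ∈ J.image π := Finset.mem_image.2 ⟨_, hl, by simp⟩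
      simp [hw, hl, this]
    · have : l ∉ J.image π := by
        simp only [Finset.mem_image]
        rintro ⟨a, ha, rfl⟩
        exact hl (by simpa using ha)
      simp [hw, hl, this]
  have key : ∀ f, ∃ f', f = w f' := fun f => ⟨w⁻¹ f, (app_inv w f).symm⟩
  refine ⟨fun f hf => ?_, fun f hf => ?_, fun f hf => ?_, fun f h1 h2 h3 => ?_⟩ <;>
    obtain ⟨f, rfl⟩ := key f <;> simp only [Perm.mul_apply, inv_app]
  · rw [h.fst f ((hag f p).1 hf), hpw]
  · rw [h.snd f ((hag f q).1 hf), hpw]
  · rw [h.trd f ((hag f r).1 hf), hpw]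
  · rw [h.rest f (fun e => h1 ((hag f p).2 e)) (fun e => h2 ((hag f q).2 e))
      (fun e => h3 ((hag f r).2 e))]

/-- An even permutation fixing one value and moving two others away from three given ones. -/
theorem exists_even_away (hm : 5 ≤ m) {a b c : Fin m} (x y z : Fin m) (hb : b ≠ a) (hc : c ≠ a)
    (hx : a = x) :
    ∃ α : Perm (Fin m), Perm.sign α = 1 ∧ α a = a ∧
      (α b ≠ x ∧ α b ≠ y ∧ α b ≠ z) ∧ (α c ≠ x ∧ α c ≠ y ∧ α c ≠ z) := by
  obtain ⟨d, hd, e, he, hde⟩ : ∃ d ∈ ({x, y, z}ᶜ : Finset (Fin m)), ∃ e ∈ ({x, y, z}ᶜ : Finset (Fin m)), d ≠ e :=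
    Finset.one_lt_card.1 (by
      rw [Finset.card_compl]
      have : ({x, y, z} : Finset (Fin m)).card ≤ 3 := Finset.card_le_three
      simp
      omega)
  simp only [Finset.mem_compl, Finset.mem_insert, Finset.mem_singleton, not_or] at hd he
  subst hx
  rcases eq_or_ne b c with rfl | hbc
  · obtain ⟨α, h1, h2, h3⟩ := exists_even_two hm (a := a) (b := a) (c := b) (d := d) hb.symm (Ne.symm hd.1)
    exact ⟨α, h1, h2, by rw [h3]; exact hd, by rw [h3]; exact hd⟩
  · have inj : ∀ {u v w : Fin m}, u ≠ v → u ≠ w → v ≠ w → Function.Injective ![u, v, w] := by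
      intro u v w h1 h2 h3 i j
      fin_cases i <;> fin_cases j <;> simp [h1, h1.symm, h2, h2.symm, h3, h3.symm]
    obtain ⟨α, h1, h2⟩ := exists_even (m := m) (n := 3) hm ⟨![a, b, c], inj hb.symm hc.symm hbc⟩
      ⟨![a, d, e], inj (Ne.symm hd.1) (Ne.symm he.1) hde⟩
    refine ⟨α, h1, by simpa using h2 0, ?_, ?_⟩
    · rw [show α b = d by simpa using h2 1]; exact hd
    · rw [show α c = e by simpa using h2 2]; exact he

/-- A good group without all even permutations has no element acting as a three-cycle on some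
coordinates with a separated value. -/
theorem IsCyc.absurd (hm : 5 ≤ m) {G : Subgroup (Perm (Pt m k))} (hG : Good G)
    (hA : ¬ alternatingGroup (Pt m k) ≤ G) {x : Perm (Pt m k)} (hx : x ∈ G) {J : Finset (Fin k)}
    {p q r : Pt m k} (h : IsCyc x J p q r) {i j : Fin k} (hi : i ∈ J) (hj : j ∈ J) (hij : i ≠ j)
    (hq : q j ≠ p j) (hr : r j ≠ p j) : False := by
  classical
  induction hn : Jᶜ.card generalizing x J p q r i with
  | zero =>
    obtain rfl : J = Finset.univ := by
      rwa [Finset.card_eq_zero, Finset.compl_eq_empty_iff] at hn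
    have e1 : x p = q := by rw [h.fst p fun _ _ => rfl]; simp
    have e2 : x q = r := by rw [h.snd q fun _ _ => rfl]; simp
    have e3 : x r = p := by rw [h.trd r fun _ _ => rfl]; simp
    have hpq : p ≠ q := fun e => hq (by rw [e])
    have hpr : p ≠ r := fun e => hr (by rw [e])
    have hqr : q ≠ r := fun e => hpq (x.injective (by rw [e1, e2, e]))
    refine threeCycle_absurd hm hG hA hx ?_
    have : x = swap p r * swap p q := by
      ext f : 1
      rw [Perm.mul_apply]
      by_cases h1 : f = p
      · subst h1; rw [e1, swap_apply_left, swap_apply_of_ne_of_ne hpq.symm hqr]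
      by_cases h2 : f = q
      · subst h2; rw [e2, swap_apply_right, swap_apply_left]
      by_cases h3 : f = r
      · subst h3; rw [e3, swap_apply_of_ne_of_ne h1 h2, swap_apply_right]
      rw [swap_apply_of_ne_of_ne h1 h2, swap_apply_of_ne_of_ne h1 h3]
      exact h.rest f (fun e => h1 (funext fun l => e l (Finset.mem_univ l)))
        (fun e => h2 (funext fun l => e l (Finset.mem_univ l)))
        (fun e => h3 (funext fun l => e l (Finset.mem_univ l)))
    rw [this]
    exact isThreeCycle_swap_mul_swap_same hpr hpq hqr.symm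
  | succ N ih =>
    obtain ⟨n, hn'⟩ : ∃ n, n ∉ J := by
      obtain ⟨n, hn'⟩ := Finset.card_pos.1 (show 0 < Jᶜ.card by omega)
      exact ⟨n, Finset.mem_compl.1 hn'⟩
    have hni : n ≠ i := fun e => hn' (e ▸ hi)
    have hnj : n ≠ j := fun e => hn' (e ▸ hj)
    obtain ⟨τ, hτ, hfix⟩ := hG.exists_fix hm (swap i n) p
    have hfj : ∀ l, l ≠ i → l ≠ n → τ l (p l) = p l := by
      intro l h1 h2
      have := congrFun hfix l
      rwa [prodPerm_apply, symm_swap, swap_apply_of_ne_of_ne h1 h2] at this
    have hτj := hfj j hij.symm hnj.symm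
    obtain ⟨α, hα, ha, hb, hc⟩ := exists_even_away hm (a := p j) (b := τ j (q j)) (c := τ j (r j))
      (p j) (q j) (r j) (fun e => hq ((τ j).injective (e.trans hτj.symm)))
      (fun e => hr ((τ j).injective (e.trans hτj.symm))) rfl
    set w := coord j α * prodPerm (swap i n) τ with hw
    have hwG : w ∈ G := G.mul_mem (hG.coord_mem_of_even j hα) hτ
    have hwp : w = prodPerm (swap i n) (fun l => Function.update (1 : Fin k → Perm (Fin m)) j α l * τ l) := by
      rw [hw]; show prodPerm _ _ * _ = _
      rw [prodPerm_mul, one_mul]; rfl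
    set y := w * x * w⁻¹ with hy
    have hyG : y ∈ G := G.mul_mem (G.mul_mem hwG hx) (G.inv_mem hwG)
    have hyc : IsCyc y (J.image (swap i n)) (w p) (w q) (w r) := by
      rw [hy, hwp]; exact h.conj _ _
    set J' := J.image (swap i n)
    have memJ' : ∀ l, l ∈ J' ↔ (l ∈ J ∧ l ≠ i) ∨ l = n := by
      intro l
      simp only [J', Finset.mem_image]
      constructor
      · rintro ⟨a, ha, rfl⟩
        by_cases hai : a = i
        · subst hai; right; simp
        · left
          have han : a ≠ n := fun e => hn' (e ▸ ha)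
          rw [swap_apply_of_ne_of_ne hai han]
          exact ⟨ha, hai⟩
      · rintro (⟨h1, h2⟩ | rfl)
        · exact ⟨l, h1, swap_apply_of_ne_of_ne h2 fun e => hn' (e ▸ h1)⟩
        · exact ⟨i, hi, by simp⟩
    have wp : ∀ l, l ≠ i → l ≠ n → w p l = p l := by
      intro l h1 h2
      have e0 : w p l = Function.update (1 : Fin k → Perm (Fin m)) j α l (τ l (p l)) := by
        rw [hwp, prodPerm_apply, symm_swap, swap_apply_of_ne_of_ne h1 h2]; rfl
      rw [e0, hfj l h1 h2]
      by_cases hlj : l = j
      · subst hlj; simpa using ha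
      · simp [hlj]
    have wj : ∀ f : Pt m k, w f j = α (τ j (f j)) := fun f => by
      rw [hwp, prodPerm_apply, symm_swap, swap_apply_of_ne_of_ne hij.symm hnj.symm]; simp
    have hj' : j ∈ J' := (memJ' j).2 (Or.inl ⟨hj, hij.symm⟩)
    have hn1 : n ∈ J' := (memJ' n).2 (Or.inr rfl)
    -- the intersection of the supports
    let P0 := Function.update p n (w p n)
    let Q0 := Function.update q n (w p n)
    let R0 := J'.piecewise (w q) P0
    let J1 := insert n J
    have hI : ∀ f, (Agree J f p ∨ Agree J f q ∨ Agree J f r) →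
        (Agree J' f (w p) ∨ Agree J' f (w q) ∨ Agree J' f (w r)) → Agree J1 f P0 := by
      intro f h1 h2
      have hfp : Agree J' f (w p) := by
        have hval : f j = p j ∨ f j = q j ∨ f j = r j := by
          rcases h1 with h1 | h1 | h1 <;> simp [h1 j hj]
        rcases h2 with h2 | h2 | h2
        · exact h2
        · exfalso
          rw [h2 j hj', wj] at hval
          rcases hval with e | e | e
          exacts [hb.1 e, hb.2.1 e, hb.2.2 e]
        · exfalso
          rw [h2 j hj', wj] at hval
          rcases hval with e | e | e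
          exacts [hc.1 e, hc.2.1 e, hc.2.2 e]
      have hfjv : f j = p j := by rw [hfp j hj', wp j hij.symm hnj.symm]
      rcases h1 with h1 | h1 | h1
      · intro l hl
        rcases Finset.mem_insert.1 hl with rfl | hl
        · simp [P0, hfp l hn1]
        · have : l ≠ n := fun e => hn' (e ▸ hl)
          simp [P0, this, h1 l hl]
      · exact (hq ((h1 j hj).symm.trans hfjv)).elim
      · exact (hr ((h1 j hj).symm.trans hfjv)).elim
    have IX : ∀ f, Agree J1 f P0 → Agree J f p := fun f hf l hl => by
      have : l ≠ n := fun e => hn' (e ▸ hl)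
      simpa [P0, this] using hf l (Finset.mem_insert_of_mem hl)
    have IY : ∀ f, Agree J1 f P0 → Agree J' f (w p) := fun f hf l hl => by
      rcases (memJ' l).1 hl with ⟨h1, h2⟩ | rfl
      · have h3 : l ≠ n := fun e => hn' (e ▸ h1)
        rw [wp l h2 h3]
        exact IX f hf l h1
      · simpa [P0] using hf l (Finset.mem_insert_self _ _)
    have hxI : ∀ f, Agree J1 f P0 → x⁻¹ f = J.piecewise r f := fun f hf => by
      rw [Perm.inv_eq_iff_eq, h.trd _ fun l hl => by simp [hl]]
      funext l
      by_cases hl : l ∈ J <;> simp [hl, IX f hf l]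
    have hyI : ∀ f, Agree J1 f P0 → y⁻¹ f = J'.piecewise (w r) f := fun f hf => by
      rw [Perm.inv_eq_iff_eq, hyc.trd _ fun l hl => by simp [hl]]
      funext l
      by_cases hl : l ∈ J' <;> simp [hl, IY f hf l]
    obtain ⟨c1, c2⟩ := commutator_apply (x := x) (y := y)
      (X := fun f => Agree J f p ∨ Agree J f q ∨ Agree J f r)
      (Y := fun f => Agree J' f (w p) ∨ Agree J' f (w q) ∨ Agree J' f (w r))
      (I := fun f => Agree J1 f P0)
      (fun f hf => by push Not at hf; exact h.rest f hf.1 hf.2.1 hf.2.2)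
      (fun f hf => by push Not at hf; exact hyc.rest f hf.1 hf.2.1 hf.2.2) hI
      (fun f hf => by
        rw [h.fst f (IX f hf)]
        rintro (e | e | e) <;> have := e j hj' <;> simp [hj, wj, hτj, ha] at this
        exacts [hq this, hb.2.1 this.symm, hc.2.1 this.symm])
      (fun f hf => by
        rw [hxI f hf]
        rintro (e | e | e) <;> have := e j hj' <;> simp [hj, wj, hτj, ha] at this
        exacts [hr this, hb.2.2 this.symm, hc.2.2 this.symm])
      (fun f hf => by
        rw [hyc.fst f (IY f hf)]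
        rintro (e | e | e) <;> have := e j hj <;> simp [hj', wj] at this
        exacts [hb.1 this, hb.2.1 this, hb.2.2 this])
      (fun f hf => by
        rw [hyI f hf]
        rintro (e | e | e) <;> have := e j hj <;> simp [hj', wj] at this
        exacts [hc.1 this, hc.2.1 this, hc.2.2 this])
    have hcard : J1ᶜ.card = N := by
      have e1 : J1ᶜ = Jᶜ.erase n := by ext l; simp [J1]
      rw [e1, Finset.card_erase_of_mem (Finset.mem_compl.2 hn'), hn]; rfl
    refine ih (G.mul_mem (G.mul_mem (G.mul_mem hx hyG) (G.inv_mem hx)) (G.inv_mem hyG))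
      (J := J1) (p := P0) (q := Q0) (r := R0) ⟨?_, ?_, ?_, ?_⟩
      (Finset.mem_insert_of_mem hi) (Finset.mem_insert_of_mem hj) hij ?_ ?_ hcard
    · intro f hf
      rw [(c1 f hf).1, h.fst f (IX f hf)]
      funext l
      by_cases hl : l ∈ J
      · have : l ≠ n := fun e => hn' (e ▸ hl)
        simp [J1, Q0, hl, this]
      · by_cases hln : l = n
        · subst hln
          simpa [J1, Q0, hl, P0] using hf l (Finset.mem_insert_self _ _)
        · simp [J1, hl, hln]
    · intro f hf
      have hu : Agree J1 (J.piecewise p f) P0 := by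
        intro l hl
        rcases Finset.mem_insert.1 hl with rfl | hl
        · simpa [hn', P0, Q0] using hf l (Finset.mem_insert_self _ _)
        · have : l ≠ n := fun e => hn' (e ▸ hl)
          simp [hl, P0, this]
      have hxu : x (J.piecewise p f) = f := by
        rw [h.fst _ (IX _ hu)]
        funext l
        by_cases hl : l ∈ J
        · have : l ≠ n := fun e => hn' (e ▸ hl)
          simpa [hl, Q0, this] using (hf l (Finset.mem_insert_of_mem hl)).symm
        · simp [hl]
      have := (c1 _ hu).2.1
      rw [hxu] at this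
      rw [this, hyc.fst _ (IY _ hu)]
      funext l
      by_cases hl : l ∈ J
      · have h1 : l ≠ n := fun e => hn' (e ▸ hl)
        by_cases hl' : l ∈ J'
        · simp [J1, R0, hl, hl']
        · simp [J1, R0, hl, hl', P0, h1]
      · by_cases hln : l = n
        · subst hln; simp [J1, R0, hn1]
        · have hl' : l ∉ J' := by rw [memJ']; tauto
          simp [J1, hl, hl', hln]
    · intro f hf
      have hu : Agree J1 (J1.piecewise P0 f) P0 := fun l hl => by simp [hl]
      have hyu : y (J1.piecewise P0 f) = f := by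
        rw [hyc.fst _ (IY _ hu)]
        funext l
        by_cases hl : l ∈ J1
        · rw [hf l hl]
          by_cases hl' : l ∈ J' <;> simp [R0, hl, hl']
        · have hl' : l ∉ J' := by
            rw [memJ']; simp [J1] at hl; tauto
          simp [hl, hl']
      have := (c1 _ hu).2.2
      rw [hyu] at this
      rw [this]
    · intro f h1 h2 h3
      refine c2 f h1 (fun hu => h2 fun l hl => ?_) (fun hu => h3 fun l hl => ?_)
      · have e := h.fst _ (IX _ hu)
        rw [app_inv] at e
        rw [e]
        rcases Finset.mem_insert.1 hl with rfl | hl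
        · simpa [hn', Q0, P0] using hu l (Finset.mem_insert_self _ _)
        · have : l ≠ n := fun e => hn' (e ▸ hl)
          simp [hl, Q0, this]
      · have e := hyc.fst _ (IY _ hu)
        rw [app_inv] at e
        rw [e]
        by_cases hl' : l ∈ J'
        · simp [hl', R0]
        · simpa [hl', R0] using hu l hl
    · simp [Q0, P0, hnj.symm, hq]
    · simp [R0, P0, hnj.symm, hj', wj]
      exact hb.1

end CfsgLib.ProductMax
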