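import Cfsg.Agent.Lib.ProductMax.Rect

/-!
# Elements fixing slices and elements preserving lines

For a good group without all even permutations, an element supported in the slices over a proper
subset of values which preserves each of them is trivial, and an element preserving each line of the
first coordinate changes the first coordinate only.
-/

set_option autoImplicit false

namespace CfsgLib.ProductMax

open Equiv Equiv.Perm MulAction
open scoped Pointwise

variable {m k : ℕ}

/-- The standing assumptions on a group of permutations of `Pt m (k + 1)`. -/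
structure Setup (m k : ℕ) (H : Subgroup (Perm (Pt m (k + 1)))) : Prop where
  hm : 5 ≤ m
  IH : Dich m k
  good : Good H
  notA : ¬ alternatingGroup (Pt m (k + 1)) ≤ H

variable {H : Subgroup (Perm (Pt m (k + 1)))}

theorem Setup.lift_mem (h : Setup m k H) {g : Perm (Pt m k)} (hg : IsLift g) : rect 1 g ∈ H :=
  hg.lift_mem h.good

theorem Setup.rect_even_mem (h : Setup m k H) {α : Perm (Fin m)} (hα : Perm.sign α = 1) :
    rect α 1 ∈ H := by
  rw [← coord_zero_eq]
  exact h.good.coord_mem_of_even 0 hα

theorem rect_one_mul_sliceMap (u : Perm (Pt m k)) :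
    rect (1 : Perm (Fin m)) u = sliceMap fun _ => u :=
  ext_pt fun v g => by simp

/-- Conjugating a family of line permutations by a permutation of the tail. -/
theorem lineMap_conj (u : Perm (Pt m k)) (β : Pt m k → Perm (Fin m)) :
    rect 1 u * lineMap β * (rect 1 u)⁻¹ = lineMap (fun g => β (u⁻¹ g)) :=
  ext_pt fun v g => by simp [rect_inv]

theorem lineMap_const (α : Perm (Fin m)) :
    lineMap (fun _ : Pt m k => α) = rect α 1 :=
  ext_pt fun v g => by simp

/-! ### Supports inside slices -/

/-- The elements of the group fixing every point whose first value is outside the set. -/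
def supp (H : Subgroup (Perm (Pt m (k + 1)))) (S : Finset (Fin m)) :
    Subgroup (Perm (Pt m (k + 1))) where
  carrier := {x | x ∈ H ∧ ∀ f, f 0 ∉ S → x f = f}
  one_mem' := ⟨H.one_mem, fun f _ => rfl⟩
  mul_mem' := fun {a b} ha hb => ⟨H.mul_mem ha.1 hb.1, fun f hf => by
    rw [Perm.mul_apply, hb.2 f hf, ha.2 f hf]⟩
  inv_mem' := fun {a} ha => ⟨H.inv_mem ha.1, fun f hf => by
    rw [Perm.inv_eq_iff_eq, ha.2 f hf]⟩

theorem mem_supp {S : Finset (Fin m)} {x : Perm (Pt m (k + 1))} :
    x ∈ supp H S ↔ x ∈ H ∧ ∀ f, f 0 ∉ S → x f = f := Iff.rfl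

theorem supp_mono {S S' : Finset (Fin m)} (h : S ⊆ S') : supp H S ≤ supp H S' :=
  fun _ hx => ⟨hx.1, fun f hf => hx.2 f fun e => hf (h e)⟩

theorem supp_apply_mem {S : Finset (Fin m)} {x : Perm (Pt m (k + 1))} (hx : x ∈ supp H S)
    {f : Pt m (k + 1)} (hf : f 0 ∈ S) : x f 0 ∈ S := by
  by_contra hn
  have := hx.2 _ hn
  rw [EmbeddingLike.apply_eq_iff_eq] at this
  rw [this] at hn
  exact hn hf

theorem supp_eq_one_of_empty {x : Perm (Pt m (k + 1))} (hx : x ∈ supp H ∅) : x = 1 :=
  Equiv.ext fun f => hx.2 f (by simp)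

theorem sliceMap_eq_one {p : Fin m → Perm (Pt m k)} : sliceMap p = 1 ↔ p = 1 := by
  refine ⟨fun h => funext fun v => Equiv.ext fun g => ?_, fun h => by rw [h, map_one]⟩
  have := congrArg (fun e : Perm (Pt m (k + 1)) => tl (e (pt v g))) h
  simpa using this

/-- An element supported in one slice is trivial. -/
theorem Setup.eq_one_of_single (h : Setup m k H) {v : Fin m} {x : Perm (Pt m (k + 1))}
    (hx : x ∈ supp H {v}) : x = 1 := by
  classical
  let j : Perm (Pt m k) →* Perm (Pt m (k + 1)) := sliceMap.comp (MonoidHom.mulSingle (fun _ : Fin m => Perm (Pt m k)) v)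
  have hj : ∀ ρ a g, j ρ (pt a g) = pt a (if a = v then ρ g else g) := by
    intro ρ a g
    show pt a ((Pi.mulSingle (M := fun _ : Fin m => Perm (Pt m k)) v ρ) a g) = _
    by_cases ha : a = v
    · subst ha; simp
    · simp [ha]
  let P : Subgroup (Perm (Pt m k)) := H.comap j
  have hfix : ∀ g, x (pt v g) 0 = v := fun g => Finset.mem_singleton.1
    (supp_apply_mem hx (f := pt v g) (Finset.mem_singleton.2 rfl))
  let ρ : Perm (Pt m k) := Equiv.ofBijective (fun g => tl (x (pt v g)))
    (Finite.injective_iff_bijective.1 fun g g' e => by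
      have : x (pt v g) = x (pt v g') := by
        rw [← pt_tl (x (pt v g)), ← pt_tl (x (pt v g')), hfix, hfix]
        rw [e]
      exact (pt_inj.1 (x.injective this)).2)
  have hρ : x = j ρ := ext_pt fun a g => by
    rw [hj]
    by_cases ha : a = v
    · subst ha
      rw [if_pos rfl, ← pt_tl (x (pt a g)), hfix]
      rfl
    · rw [if_neg ha]
      exact hx.2 _ (by simpa using ha)
  by_contra hne
  have hP : P ≠ ⊥ := fun e => by
    have : ρ ∈ P := show j ρ ∈ H from hρ ▸ hx.1
    rw [e, Subgroup.mem_bot] at this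
    exact hne (by rw [hρ, this, map_one])
  have hconj : ∀ u ρ, j (u * ρ * u⁻¹) = rect 1 u * j ρ * (rect 1 u)⁻¹ := by
    intro u ρ
    refine ext_pt fun a g => ?_
    simp only [Perm.mul_apply, rect_inv, rect_pt, hj]
    by_cases ha : a = v <;> simp [ha]
  have hN : Good (Subgroup.normalizer (P : Set (Perm (Pt m k)))) :=
    good_of_isLift h.hm fun u hu => by
      have hu' := h.lift_mem hu
      refine Subgroup.mem_normalizer_iff.2 fun p => ⟨fun hp => ?_, fun hp => ?_⟩
      · show j _ ∈ H
        rw [hconj]
        exact H.mul_mem (H.mul_mem hu' hp) (H.inv_mem hu')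
      · have : j (u * p * u⁻¹) ∈ H := hp
        rw [hconj] at this
        show j p ∈ H
        have := H.mul_mem (H.mul_mem (H.inv_mem hu') this) hu'
        simpa [mul_assoc] using this
  obtain ⟨i, hi⟩ := exists_coord_le h.hm h.IH hP hN
  let a : Fin m := ⟨0, by have := h.hm; omega⟩
  let b : Fin m := ⟨1, by have := h.hm; omega⟩
  let c : Fin m := ⟨2, by have := h.hm; omega⟩
  have hab : a ≠ b := by simp [a, b, Fin.ext_iff]
  have hac : a ≠ c := by simp [a, c, Fin.ext_iff]
  have hbc : b ≠ c := by simp [b, c, Fin.ext_iff]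
  set α := swap a c * swap a b with hαdef
  have hα : Perm.sign α = 1 := by simp [hαdef, sign_swap hac, sign_swap hab]
  have eab : α a = b := by
    rw [hαdef, Perm.mul_apply, swap_apply_left, swap_apply_of_ne_of_ne hab.symm hbc]
  have ebc : α b = c := by rw [hαdef, Perm.mul_apply, swap_apply_right, swap_apply_left]
  have eca : α c = a := by
    rw [hαdef, Perm.mul_apply, swap_apply_of_ne_of_ne hac.symm hbc.symm, swap_apply_right]
  have efix : ∀ u, u ≠ a → u ≠ b → u ≠ c → α u = u := fun u h1 h2 h3 => by
    rw [hαdef, Perm.mul_apply, swap_apply_of_ne_of_ne h1 h2, swap_apply_of_ne_of_ne h1 h3]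
  have key : ∀ f : Pt m (k + 1), j (coord i α) f =
      if f 0 = v then Function.update f i.succ (α (f i.succ)) else f := by
    intro f
    obtain ⟨s, g, rfl⟩ : ∃ s g, f = pt s g := ⟨f 0, tl f, (pt_tl f).symm⟩
    rw [hj]
    by_cases hs : s = v
    · subst hs
      rw [if_pos rfl, pt_zero, if_pos rfl, coord_apply, pt_succ]
      exact Fin.cons_update _ _ _ _
    · rw [if_neg hs, pt_zero, if_neg hs]
  have hagree : ∀ (f : Pt m (k + 1)) (d : Fin m),
      Agree {0, i.succ} f (pt v fun _ => d) ↔ f 0 = v ∧ f i.succ = d := by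
    intro f d; simp [Agree]
  have hpw : ∀ (f : Pt m (k + 1)) (d : Fin m), f 0 = v →
      ({0, i.succ} : Finset (Fin (k + 1))).piecewise (pt v fun _ => d) f = Function.update f i.succ d := by
    intro f d hf
    funext l
    refine Fin.cases ?_ (fun l => ?_) l
    · simp [hf, (Fin.succ_ne_zero i).symm]
    · by_cases hl : l = i
      · subst hl; simp
      · simp [hl, Fin.succ_ne_zero]
  have cyc : IsCyc (j (coord i α)) {0, i.succ} (pt v fun _ => a) (pt v fun _ => b) (pt v fun _ => c) := by
    refine ⟨fun f hf => ?_, fun f hf => ?_, fun f hf => ?_, fun f h1 h2 h3 => ?_⟩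
    · rw [hagree] at hf; rw [key, if_pos hf.1, hf.2, eab, hpw f b hf.1]
    · rw [hagree] at hf; rw [key, if_pos hf.1, hf.2, ebc, hpw f c hf.1]
    · rw [hagree] at hf; rw [key, if_pos hf.1, hf.2, eca, hpw f a hf.1]
    · rw [hagree] at h1 h2 h3
      rw [key]
      split_ifs with h0
      · rw [efix _ (fun e => h1 ⟨h0, e⟩) (fun e => h2 ⟨h0, e⟩) (fun e => h3 ⟨h0, e⟩),
          Function.update_eq_self]
      · rfl
  exact cyc.absurd h.hm h.good h.notA (hi α hα) (i := 0) (j := i.succ) (by simp) (by simp)
    (Fin.succ_ne_zero i).symm (by simpa using hab.symm) (by simpa using hac.symm)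

/-- An element supported in proper many slices and preserving each of them is trivial. -/
theorem Setup.eq_one_of_slices (h : Setup m k H) {S : Finset (Fin m)} (hS : S ≠ Finset.univ)
    {p : Fin m → Perm (Pt m k)} (hp : sliceMap p ∈ H) (hsupp : ∀ v ∉ S, p v = 1) : p = 1 := by
  classical
  induction hn : S.card using Nat.strong_induction_on generalizing S p with
  | _ N ih =>
    subst hn
    by_contra hne
    obtain ⟨b, hb⟩ := Function.ne_iff.1 hne
    simp only [Pi.one_apply] at hb
    have hbS : b ∈ S := by
      by_contra e; exact hb (hsupp b e)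
    by_cases h1 : S.card ≤ 1
    · have hSb : S = {b} := Finset.eq_singleton_iff_unique_mem.2
        ⟨hbS, fun x hx => Finset.card_le_one.1 h1 x hx b hbS⟩
      refine hne (sliceMap_eq_one.1 (h.eq_one_of_single (v := b) ⟨hp, fun f hf => ?_⟩))
      rw [← pt_tl f, sliceMap_pt, hsupp _ (by rw [hSb]; exact hf)]
      rfl
    · let G : Subgroup (Fin m → Perm (Pt m k)) :=
        { carrier := {q | sliceMap q ∈ H ∧ ∀ v ∉ S, q v = 1}
          one_mem' := ⟨by rw [map_one]; exact H.one_mem, fun _ _ => rfl⟩
          mul_mem' := fun {q q'} a a' =>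
            ⟨by rw [map_mul]; exact H.mul_mem a.1 a'.1, fun v hv => by simp [a.2 v hv, a'.2 v hv]⟩
          inv_mem' := fun {q} a =>
            ⟨by rw [map_inv]; exact H.inv_mem a.1, fun v hv => by simp [a.2 v hv]⟩ }
      let P : Subgroup (Perm (Pt m k)) := G.map (Pi.evalMonoidHom _ b)
      have hP : P ≠ ⊥ := fun e => hb (by
        have : p b ∈ P := Subgroup.mem_map_of_mem _ (show p ∈ G from ⟨hp, hsupp⟩)
        rwa [e, Subgroup.mem_bot] at this)
      have hN : Good (Subgroup.normalizer (P : Set (Perm (Pt m k)))) :=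
        good_of_isLift h.hm fun u hu => by
          have hu' := h.lift_mem hu
          have conj : ∀ (w : Perm (Pt m k)), sliceMap (fun _ : Fin m => w) ∈ H → ∀ q ∈ P,
              w * q * w⁻¹ ∈ P := by
            rintro w hw _ ⟨q, hq, rfl⟩
            refine ⟨(fun _ => w) * q * (fun _ => w)⁻¹, ⟨?_, fun v hv => ?_⟩, rfl⟩
            · rw [map_mul, map_mul, map_inv]
              exact H.mul_mem (H.mul_mem hw hq.1) (H.inv_mem hw)
            · simp [hq.2 v hv]
          rw [rect_one_mul_sliceMap] at hu'
          refine Subgroup.mem_normalizer_iff.2 fun q => ⟨conj u hu' q, fun hq => ?_⟩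
          have hinv : sliceMap (fun _ : Fin m => u⁻¹) ∈ H := by
            have := H.inv_mem hu'
            rwa [← map_inv] at this
          have := conj u⁻¹ hinv _ hq
          simpa [mul_assoc] using this
      obtain ⟨i, hi⟩ := exists_coord_le h.hm h.IH hP hN
      -- a permutation fixing `b` and moving `S`
      obtain ⟨a, ha, hab⟩ : ∃ a ∈ S, a ≠ b := Finset.exists_mem_ne (by omega) b
      obtain ⟨v1, hv1⟩ : ∃ v1, v1 ∉ S := by
        by_contra! e
        exact hS (Finset.eq_univ_iff_forall.2 e)
      obtain ⟨σ, hσ, hσb, hσa⟩ := exists_even_two h.hm (a := b) (b := b) (c := a) (d := v1) hab.symm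
        (fun e => hv1 (e ▸ hbS))
      have habel : ∀ q ∈ P, ∀ q' ∈ P, q * q' = q' * q := by
        rintro _ ⟨q, hq, rfl⟩ _ ⟨q', hq', rfl⟩
        let q'' : Fin m → Perm (Pt m k) := fun v => q' (σ⁻¹ v)
        have hq'' : sliceMap q'' ∈ H := by
          have e : sliceMap q'' = rect σ 1 * sliceMap q' * (rect σ 1)⁻¹ :=
            ext_pt fun v g => by simp [rect_inv, q'']
          rw [e]
          exact H.mul_mem (H.mul_mem (h.rect_even_mem hσ) hq'.1) (H.inv_mem (h.rect_even_mem hσ))
        have hb' : σ⁻¹ b = b := by rw [Perm.inv_eq_iff_eq, hσb]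
        have hlt : (S.filter fun v => σ⁻¹ v ∈ S).card < S.card := by
          refine Finset.card_lt_card (Finset.filter_ssubset.2 ?_)
          by_contra! hc
          have hinj : Set.InjOn (⇑σ⁻¹) (S : Set (Fin m)) := σ⁻¹.injective.injOn
          have himg : S.image (⇑σ⁻¹) = S := Finset.eq_of_subset_of_card_le
            (fun x hx => by
              obtain ⟨y, hy, rfl⟩ := Finset.mem_image.1 hx
              exact hc y hy) (by rw [Finset.card_image_of_injOn hinj])
          obtain ⟨y, hy, he⟩ := Finset.mem_image.1 (himg.symm ▸ ha : a ∈ S.image (⇑σ⁻¹))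
          rw [Perm.inv_eq_iff_eq] at he
          exact hv1 (hσa ▸ he ▸ hy)
        have := ih _ hlt (S := S.filter fun v => σ⁻¹ v ∈ S)
          (p := q * q'' * q⁻¹ * q''⁻¹) (fun e => hS (Finset.eq_univ_iff_forall.2 fun x =>
            (Finset.mem_filter.1 (e ▸ Finset.mem_univ x)).1))
          (by
            rw [map_mul, map_mul, map_mul, map_inv, map_inv]
            exact H.mul_mem (H.mul_mem (H.mul_mem hq.1 hq'') (H.inv_mem hq.1)) (H.inv_mem hq''))
          (fun v hv => by
            simp only [Finset.mem_filter, not_and] at hv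
            by_cases hvS : v ∈ S
            · simp only [Pi.mul_apply, Pi.inv_apply, q'']
              rw [hq'.2 _ (hv hvS)]
              group
            · simp [hq.2 _ hvS]) rfl
        have hb2 := congrFun this b
        simp only [Pi.mul_apply, Pi.inv_apply, Pi.one_apply, q'', hb'] at hb2
        rw [mul_inv_eq_one, mul_inv_eq_iff_eq_mul] at hb2
        exact hb2
      -- the alternating group on a coordinate is not abelian
      let α : Perm (Fin m) := swap ⟨0, by have := h.hm; omega⟩ ⟨1, by have := h.hm; omega⟩ *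
        swap ⟨0, by have := h.hm; omega⟩ ⟨2, by have := h.hm; omega⟩
      have hα : Perm.sign α = 1 := by simp [α, sign_swap, Fin.ext_iff]
      have hα1 : α ≠ 1 := fun e => by
        have := congrArg (fun e : Perm (Fin m) => e ⟨1, by have := h.hm; omega⟩) e
        simp [α, swap_apply_def, Fin.ext_iff] at this
      refine hα1 (eq_one_of_commute_even h.hm fun δ hδ => ?_)
      have := habel _ (hi δ hδ) _ (hi α hα)
      rw [← map_mul, ← map_mul] at this
      ext a : 1
      have := congrArg (fun e : Perm (Pt m k) => e (fun _ => a) i) this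
      simpa [coord_apply] using this

/-- An element preserving every line of the first coordinate changes only that coordinate, by a single
permutation. -/
theorem Setup.line_const (h : Setup m k H) {β : Pt m k → Perm (Fin m)} (hβ : lineMap β ∈ H) :
    ∃ α, β = fun _ => α := by
  classical
  have hm := h.hm
  haveI := alternatingGroup.isSimpleGroup (α := Fin m) (by simpa using hm)
  -- commutation with all conjugates of an even permutation
  have hsimple : ∀ {x y : Perm (Fin m)}, Perm.sign y = 1 → y ≠ 1 →
      (∀ δ : Perm (Fin m), Perm.sign δ = 1 → (δ * y * δ⁻¹) * x = x * (δ * y * δ⁻¹)) → x = 1 := by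
    intro x y hy hy1 hc
    refine eq_one_of_commute_even hm fun δ hδ => ?_
    let N := Subgroup.normalClosure {(⟨y, hy⟩ : alternatingGroup (Fin m))}
    have hle : N ≤ (Subgroup.centralizer {x}).comap (alternatingGroup (Fin m)).subtype := by
      refine (Subgroup.closure_le _).2 ?_
      intro z hz
      obtain ⟨w, hw, hwz⟩ := Group.mem_conjugatesOfSet_iff.1 hz
      rw [Set.mem_singleton_iff] at hw
      subst hw
      obtain ⟨d, rfl⟩ := isConj_iff.1 hwz
      simp only [SetLike.mem_coe, Subgroup.mem_comap, Subgroup.mem_centralizer_iff]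
      intro x' hx'
      rw [Set.mem_singleton_iff] at hx'
      subst hx'
      simpa using (hc d.1 d.2).symm
    rcases IsSimpleGroup.eq_bot_or_eq_top_of_normal N Subgroup.normalClosure_normal with hb | ht
    · exfalso
      have : (⟨y, hy⟩ : alternatingGroup (Fin m)) ∈ N :=
        Subgroup.subset_normalClosure (Set.mem_singleton _)
      rw [hb, Subgroup.mem_bot] at this
      exact hy1 (congrArg Subtype.val this)
    · have := hle (ht ▸ Subgroup.mem_top (⟨δ, hδ⟩ : alternatingGroup (Fin m)))
      rw [Subgroup.mem_comap, Subgroup.mem_centralizer_iff] at this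
      exact (this x rfl).symm
  -- the group of line families
  let G : Subgroup (Pt m k → Perm (Fin m)) := H.comap lineMap
  have hdiag : ∀ {δ : Perm (Fin m)}, Perm.sign δ = 1 → (fun _ => δ : Pt m k → Perm (Fin m)) ∈ G :=
    fun hδ => show lineMap _ ∈ H by rw [lineMap_const]; exact h.rect_even_mem hδ
  have hconjG : ∀ {u : Perm (Pt m k)}, IsLift u → ∀ {β}, β ∈ G → (fun g => β (u⁻¹ g)) ∈ G := by
    intro u hu β hβ
    show lineMap _ ∈ H
    rw [← lineMap_conj]
    exact H.mul_mem (H.mul_mem (h.lift_mem hu) hβ) (H.inv_mem (h.lift_mem hu))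
  let sp : (Pt m k → Perm (Fin m)) → Finset (Pt m k) := fun β => Finset.univ.filter fun g => β g ≠ 1
  -- no non-trivial member is trivial on a line
  have key : ∀ β ∈ G, ∀ g0, β g0 = 1 → β = 1 := by
    intro β hβ g0 hg0
    by_contra hne
    obtain ⟨γ, hγmem, hmin⟩ := Finset.exists_min_image
      (Finset.univ.filter fun γ => γ ∈ G ∧ γ ≠ 1) (fun γ => (sp γ).card)
      ⟨β, Finset.mem_filter.2 ⟨Finset.mem_univ _, hβ, hne⟩⟩
    obtain ⟨-, hγ, hγne⟩ := Finset.mem_filter.1 hγmem
    simp only [Finset.mem_filter, Finset.mem_univ, true_and, and_imp] at hmin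
    have hmin' : ∀ δ ∈ G, (sp δ).card < (sp γ).card → δ = 1 := fun δ hδ hlt => by
      by_contra e
      exact absurd (hmin δ hδ e) (by omega)
    have hsp : ∀ {δ : Pt m k → Perm (Fin m)} {g}, g ∈ sp δ ↔ δ g ≠ 1 := by simp [sp]
    -- replace by an even one
    obtain ⟨g1, hg1⟩ := Function.ne_iff.1 hγne
    obtain ⟨δ, hδ, hcomm⟩ : ∃ δ, Perm.sign δ = 1 ∧ δ * γ g1 ≠ γ g1 * δ := by
      by_contra! e
      exact hg1 (eq_one_of_commute_even hm e)
    set ε := γ * (fun _ => δ) * γ⁻¹ * (fun _ => δ)⁻¹ with hε
    have hεG : ε ∈ G := G.mul_mem (G.mul_mem (G.mul_mem hγ (hdiag hδ)) (G.inv_mem hγ)) (G.inv_mem (hdiag hδ))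
    have hε1 : ε g1 ≠ 1 := fun e => hcomm (by
      simp only [hε, Pi.mul_apply, Pi.inv_apply] at e
      rw [mul_inv_eq_one, mul_inv_eq_iff_eq_mul] at e
      exact e.symm)
    have hεeven : ∀ g, Perm.sign (ε g) = 1 := fun g => by simp [hε, hδ]
    have hεsub : sp ε ⊆ sp γ := fun g hg => by
      rw [hsp] at hg ⊢
      intro e; exact hg (by simp [hε, e])
    have hεsp : sp ε = sp γ := Finset.eq_of_subset_of_card_le hεsub
      (hmin ε hεG fun e => hε1 (congrFun e g1))
    -- the support is a block of the lifts
    let Lifts : Subgroup (Perm (Pt m k)) := Subgroup.closure {u | IsLift u}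
    have hGL : ∀ u ∈ Lifts, ∀ β ∈ G, (fun g => β (u⁻¹ g)) ∈ G := by
      intro u hu
      induction hu using Subgroup.closure_induction with
      | mem u hu => exact fun β hβ => hconjG hu hβ
      | one => intro β hβ; simpa using hβ
      | mul a b _ _ iha ihb =>
        intro β hβ
        have := iha _ (ihb β hβ)
        simpa [mul_inv_rev] using this
      | inv a _ iha =>
        intro β hβ
        -- the inverse is a power
        obtain ⟨n, hn⟩ : ∃ n : ℕ, a⁻¹ = a ^ n :=
          ⟨orderOf a - 1, inv_eq_of_mul_eq_one_right (by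
            rw [← pow_succ', Nat.sub_add_cancel (orderOf_pos a), pow_orderOf_eq_one])⟩
        rw [hn]
        clear hn
        induction n generalizing β with
        | zero => simpa using hβ
        | succ n ihn =>
          have := ihn _ (iha _ hβ)
          simpa [pow_succ, mul_inv_rev] using this
    have hgood : Good Lifts := good_of_isLift hm fun u hu => Subgroup.subset_closure hu
    haveI := hgood.isPreprimitive hm
    have hblock : IsBlock Lifts ((sp ε : Set (Pt m k))) := by
      rw [isBlock_iff_smul_eq_of_nonempty]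
      intro u hu
      obtain ⟨g2, hg2u, hg2⟩ := hu
      rw [Set.mem_smul_set_iff_inv_smul_mem] at hg2u
      let ε' : Pt m k → Perm (Fin m) := fun g => ε ((u : Perm (Pt m k))⁻¹ g)
      have hε'G : ε' ∈ G := hGL u u.2 ε hεG
      have hset : (u • (sp ε : Set (Pt m k))) = (sp ε' : Set (Pt m k)) := by
        ext g
        rw [Set.mem_smul_set_iff_inv_smul_mem]
        simp only [Finset.mem_coe, hsp]
        rfl
      have h2 : ε' g2 ≠ 1 := by
        simp only [Finset.mem_coe, hsp] at hg2u
        exact hg2u
      have h1 : ε g2 ≠ 1 := by simpa [hsp] using hg2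
      obtain ⟨d, hd, hdc⟩ : ∃ d, Perm.sign d = 1 ∧ (d * ε' g2 * d⁻¹) * ε g2 ≠ ε g2 * (d * ε' g2 * d⁻¹) := by
        by_contra! e
        exact h1 (hsimple (hεeven _) h2 e)
      set ζ := ((fun _ => d) * ε' * (fun _ => d)⁻¹) * ε * ((fun _ => d) * ε' * (fun _ => d)⁻¹)⁻¹ * ε⁻¹ with hζ
      have hζG : ζ ∈ G := by
        have := G.mul_mem (G.mul_mem (hdiag hd) hε'G) (G.inv_mem (hdiag hd))
        exact G.mul_mem (G.mul_mem (G.mul_mem this hεG) (G.inv_mem this)) (G.inv_mem hεG)
      have hζne : ζ g2 ≠ 1 := fun e => hdc (by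
        simp only [hζ, Pi.mul_apply, Pi.inv_apply] at e
        rw [mul_inv_eq_one, mul_inv_eq_iff_eq_mul] at e
        exact e)
      have hζsub : sp ζ ⊆ sp ε ∩ sp ε' := fun g hg => by
        rw [Finset.mem_inter, hsp, hsp]
        rw [hsp] at hg
        exact ⟨fun e => hg (by simp [hζ, e]), fun e => hg (by simp [hζ, e])⟩
      have hle : (sp γ).card ≤ (sp ζ).card := hmin ζ hζG fun e => hζne (congrFun e g2)
      have hce : (sp ε').card = (sp ε).card := by
        have e : sp ε' = (sp ε).map (u : Perm (Pt m k)).toEmbedding := by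
          ext g
          simp [hsp, ε', Finset.mem_map_equiv]
        rw [e, Finset.card_map]
      rw [hset]
      have e1 : sp ζ = sp ε := Finset.eq_of_subset_of_card_le
        (hζsub.trans Finset.inter_subset_left) (by rw [hεsp]; exact hle)
      have e2 : sp ζ = sp ε' := Finset.eq_of_subset_of_card_le
        (hζsub.trans Finset.inter_subset_right) (by rw [hce, hεsp]; exact hle)
      rw [← e2, e1]
    rcases IsPreprimitive.isTrivialBlock_of_isBlock hblock with hs | hu
    · -- one line only: the whole alternating group on it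
      have honly : ∀ g, g ≠ g1 → ε g = 1 := fun g hg => by
        by_contra e
        exact hg (hs (hsp.2 e) (hsp.2 hε1))
      let N : Subgroup (alternatingGroup (Fin m)) :=
        G.comap ((MonoidHom.mulSingle (fun _ : Pt m k => Perm (Fin m)) g1).comp
          (alternatingGroup (Fin m)).subtype)
      have hNn : N.Normal := ⟨fun z hz d => by
        show Pi.mulSingle g1 ((d * z * d⁻¹ : alternatingGroup (Fin m)) : Perm (Fin m)) ∈ G
        have e : Pi.mulSingle g1 ((d * z * d⁻¹ : alternatingGroup (Fin m)) : Perm (Fin m)) =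
            (fun _ : Pt m k => (d : Perm (Fin m))) * Pi.mulSingle g1 (z : Perm (Fin m)) *
              (fun _ => (d : Perm (Fin m)))⁻¹ := by
          funext g
          by_cases hg : g = g1
          · subst hg; simp
          · simp [hg]
        rw [e]
        exact G.mul_mem (G.mul_mem (hdiag d.2) hz) (G.inv_mem (hdiag d.2))⟩
      have hεeq : ε = Pi.mulSingle g1 (ε g1) := by
        funext g
        by_cases hg : g = g1
        · subst hg; simp
        · simp [hg, honly g hg]
      have ht : N = ⊤ := (IsSimpleGroup.eq_bot_or_eq_top_of_normal N hNn).resolve_left fun e => by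
        have : (⟨ε g1, hεeven g1⟩ : alternatingGroup (Fin m)) ∈ N := show Pi.mulSingle g1 (ε g1) ∈ G from hεeq ▸ hεG
        rw [e, Subgroup.mem_bot] at this
        exact hε1 (congrArg Subtype.val this)
      let a : Fin m := ⟨0, by omega⟩
      let b : Fin m := ⟨1, by omega⟩
      let c : Fin m := ⟨2, by omega⟩
      have hab : a ≠ b := by simp [a, b, Fin.ext_iff]
      have hac : a ≠ c := by simp [a, c, Fin.ext_iff]
      have hbc : b ≠ c := by simp [b, c, Fin.ext_iff]
      have hmem : (⟨swap a b * swap a c, by simp [mem_alternatingGroup, sign_swap hab, sign_swap hac]⟩ :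
          alternatingGroup (Fin m)) ∈ N := ht ▸ Subgroup.mem_top _
      have e : lineMap (Pi.mulSingle g1 (swap a b * swap a c)) =
          swap (pt a g1) (pt b g1) * swap (pt a g1) (pt c g1) := by
        refine ext_pt fun v g => ?_
        rw [lineMap_pt, Perm.mul_apply]
        by_cases hg : g = g1
        · subst hg
          have hpt : Function.Injective fun x : Fin m => pt x g := fun x y e => (pt_inj.1 e).1
          rw [Pi.mulSingle_eq_same, Perm.mul_apply]
          rw [show swap (pt a g) (pt c g) (pt v g) = pt (swap a c v) g from hpt.swap_apply a c v,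
            show swap (pt a g) (pt b g) (pt (swap a c v) g) = pt (swap a b (swap a c v)) g from
              hpt.swap_apply a b _]
        · have hne' : ∀ x, pt v g ≠ pt x g1 := fun x e => hg (pt_inj.1 e).2
          rw [swap_apply_of_ne_of_ne (hne' a) (hne' c), swap_apply_of_ne_of_ne (hne' a) (hne' b),
            Pi.mulSingle_eq_of_ne hg]
          rfl
      have hH : swap (pt a g1) (pt b g1) * swap (pt a g1) (pt c g1) ∈ H := e ▸ hmem
      exact threeCycle_absurd hm h.good h.notA hH (isThreeCycle_swap_mul_swap_same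
        (fun e => hab (pt_inj.1 e).1) (fun e => hac (pt_inj.1 e).1) (fun e => hbc (pt_inj.1 e).1))
    · -- all lines: contradicting the trivial line of `β`
      have hall : sp γ = Finset.univ := by
        rw [← hεsp]
        exact Finset.coe_injective (by rw [hu, Finset.coe_univ])
      have hlt : (sp β).card < (sp γ).card := by
        rw [hall]
        exact Finset.card_lt_univ_of_notMem (x := g0) (by simp [hsp, hg0])
      exact hne (hmin' β hβ hlt)
  obtain ⟨g0⟩ : Nonempty (Pt m k) := ⟨fun _ => ⟨0, by omega⟩⟩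
  refine ⟨β g0, funext fun g => ?_⟩
  have hc : ∀ δ : Perm (Fin m), Perm.sign δ = 1 → δ * ((β g0)⁻¹ * β g) = ((β g0)⁻¹ * β g) * δ := by
    intro δ hδ
    have hd' : Perm.sign (β g0 * δ * (β g0)⁻¹) = 1 := by simp [hδ]
    have hmem : β * (fun _ => δ) * β⁻¹ * (fun _ => β g0 * δ * (β g0)⁻¹)⁻¹ ∈ G :=
      G.mul_mem (G.mul_mem (G.mul_mem hβ (hdiag hδ)) (G.inv_mem hβ)) (G.inv_mem (hdiag hd'))
    have := congrFun (key _ hmem g0 (by simp)) g
    simp only [Pi.mul_apply, Pi.inv_apply, Pi.one_apply] at this
    rw [mul_inv_eq_one, mul_inv_eq_iff_eq_mul] at this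
    calc δ * ((β g0)⁻¹ * β g) = (β g0)⁻¹ * (β g0 * δ * (β g0)⁻¹ * β g) := by group
      _ = (β g0)⁻¹ * (β g * δ) := by rw [this]
      _ = _ := by group
  have := eq_one_of_commute_even hm hc
  rw [inv_mul_eq_one] at this
  exact this.symm

/-- An element of the group preserving the lines of the first coordinate is constant on them. -/
theorem Setup.eq_rect_of_tl (h : Setup m k H) {x : Perm (Pt m (k + 1))} (hx : x ∈ H)
    (ht : ∀ f, tl (x f) = tl f) : ∃ α, x = rect α 1 := by
  classical
  let β : Pt m k → Perm (Fin m) := fun g => Equiv.ofBijective (fun v => x (pt v g) 0)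
    (Finite.injective_iff_bijective.1 fun v v' e => by
      have : x (pt v g) = x (pt v' g) := by
        rw [← pt_tl (x (pt v g)), ← pt_tl (x (pt v' g)), ht, ht]
        rw [e]; simp
      exact (pt_inj.1 (x.injective this)).1)
  have e : x = lineMap β := ext_pt fun v g => by
    rw [lineMap_pt, ← pt_tl (x (pt v g)), ht, tl_pt]
    rfl
  obtain ⟨α, hα⟩ := h.line_const (β := β) (e ▸ hx)
  exact ⟨α, by rw [e, hα, lineMap_const]⟩

end CfsgLib.ProductMax
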