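import Cfsg.Agent.Lib.ProductMax.Sylow

/-!
# The stabiliser of the union of one or two slices consists of product permutations
-/

set_option autoImplicit false

namespace CfsgLib.ProductMax

open Equiv Equiv.Perm MulAction

variable {m k : ℕ} {H : Subgroup (Perm (Pt m (k + 1)))}

/-- The stabiliser in the group of the union of the slices over `T`. -/
def stab (H : Subgroup (Perm (Pt m (k + 1)))) (T : Finset (Fin m)) :
    Subgroup (Perm (Pt m (k + 1))) where
  carrier := {s | s ∈ H ∧ ∀ f, s f 0 ∈ T ↔ f 0 ∈ T}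
  one_mem' := ⟨H.one_mem, fun _ => Iff.rfl⟩
  mul_mem' := fun {a b} ha hb => ⟨H.mul_mem ha.1 hb.1, fun f => (ha.2 (b f)).trans (hb.2 f)⟩
  inv_mem' := fun {a} ha => ⟨H.inv_mem ha.1, fun f => by rw [← ha.2 (a⁻¹ f), app_inv]⟩

/-- On the slices outside `T` the permutation is `pt v g ↦ pt (β (π g) v) (π g)`. -/
def Rep (T : Finset (Fin m)) (s : Perm (Pt m (k + 1))) (π : Perm (Pt m k))
    (β : Pt m k → Perm (Fin m)) : Prop :=
  (∀ g, β g ∈ within Tᶜ) ∧ ∀ v ∉ T, ∀ g, s (pt v g) = pt (β (π g) v) (π g)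

variable {T : Finset (Fin m)}

theorem within_compl_notMem {α : Perm (Fin m)} (h : α ∈ within Tᶜ) {v : Fin m} (hv : v ∉ T) :
    α v ∉ T :=
  Finset.mem_compl.1 (within_mem h (Finset.mem_compl.2 hv))

theorem Rep.mul {s s' : Perm (Pt m (k + 1))} {π π' : Perm (Pt m k)}
    {β β' : Pt m k → Perm (Fin m)} (h : Rep T s π β) (h' : Rep T s' π' β') :
    Rep T (s * s') (π * π') (fun g => β g * β' (π⁻¹ g)) := by
  refine ⟨fun g => mul_mem (h.1 g) (h'.1 _), fun v hv g => ?_⟩
  rw [Perm.mul_apply, h'.2 v hv, h.2 _ (within_compl_notMem (h'.1 _) hv)]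
  simp [Perm.mul_apply]

theorem Rep.inv {s : Perm (Pt m (k + 1))} {π : Perm (Pt m k)} {β : Pt m k → Perm (Fin m)}
    (h : Rep T s π β) : Rep T s⁻¹ π⁻¹ (fun g => (β (π g))⁻¹) := by
  refine ⟨fun g => inv_mem (h.1 _), fun v hv g => ?_⟩
  rw [Perm.inv_eq_iff_eq, h.2 _ (within_compl_notMem (inv_mem (h.1 _)) hv)]
  simp

theorem rep_one : Rep T (1 : Perm (Pt m (k + 1))) 1 1 :=
  ⟨fun _ => one_mem _, fun _ _ _ => rfl⟩

theorem Rep.beta_unique {s : Perm (Pt m (k + 1))} {π : Perm (Pt m k)}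
    {β β' : Pt m k → Perm (Fin m)} (h : Rep T s π β) (h' : Rep T s π β') : β = β' := by
  funext g
  ext v : 1
  by_cases hv : v ∈ T
  · rw [h.1 g v (by simpa using hv), h'.1 g v (by simpa using hv)]
  · have := (h.2 v hv (π⁻¹ g)).symm.trans (h'.2 v hv (π⁻¹ g))
    rw [app_inv, pt_inj] at this
    exact this.1

theorem rep_rect {α α' : Perm (Fin m)} (hα : α' ∈ within Tᶜ) (h : ∀ v ∉ T, α v = α' v)
    (π : Perm (Pt m k)) : Rep T (rect α π) π (fun _ => α') :=
  ⟨fun _ => hα, fun v hv g => by rw [rect_pt, h v hv]⟩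

theorem rect_mem_stab {α : Perm (Fin m)} {π : Perm (Pt m k)} (hH : rect α π ∈ H)
    (hα : ∀ v, α v ∈ T ↔ v ∈ T) : rect α π ∈ stab H T :=
  ⟨hH, fun f => by rw [← pt_tl f, rect_pt]; simpa using hα (f 0)⟩

theorem apply_mem_iff_of_within {α : Perm (Fin m)} (h : α ∈ within Tᶜ) (v : Fin m) :
    α v ∈ T ↔ v ∈ T := by
  by_cases hv : v ∈ T
  · rw [h v (by simpa using hv)]
  · exact iff_of_false (within_compl_notMem h hv) hv

/-- Permutations of at most two values are involutions and commute. -/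
theorem within_two (hT : T.card ≤ 2) {a b : Perm (Fin m)} (ha : a ∈ within T) (hb : b ∈ within T) :
    a * a = 1 ∧ a * b = b * a := by
  have key : ∀ {c : Perm (Fin m)}, c ∈ within T → ∀ v, c (c v) = v := by
    intro c hc v
    by_cases hv : v ∈ T
    · by_contra hne
      have h1 : c v ≠ v := fun e => hne (by rw [e, e])
      have h2 : c (c v) ≠ c v := fun e => h1 (c.injective e)
      have : ({v, c v, c (c v)} : Finset (Fin m)).card ≤ T.card := Finset.card_le_card (by
        simp [Finset.insert_subset_iff, hv, within_mem hc hv, within_mem hc (within_mem hc hv)])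
      rw [Finset.card_eq_three.2 ⟨v, c v, c (c v), Ne.symm h1, Ne.symm hne, Ne.symm h2, rfl⟩] at this
      omega
    · rw [hc v hv, hc v hv]
  have hsq : ∀ {c : Perm (Fin m)}, c ∈ within T → c * c = 1 := fun hc => Equiv.ext (key hc)
  have hab := hsq (mul_mem ha hb)
  refine ⟨hsq ha, ?_⟩
  calc a * b = (a * b)⁻¹ := (inv_eq_of_mul_eq_one_right hab).symm
    _ = b⁻¹ * a⁻¹ := mul_inv_rev _ _
    _ = _ := by rw [inv_eq_of_mul_eq_one_right (hsq ha), inv_eq_of_mul_eq_one_right (hsq hb)]

section Main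

variable (h : Setup m k H) (hT : T.card ≤ 2) (hT0 : T.Nonempty)
include h hT

theorem three_le_compl : 3 ≤ Tᶜ.card := by
  rw [Finset.card_compl, Fintype.card_fin]
  have := h.hm
  omega

include hT0

theorem compl_ne_univ : (Tᶜ : Finset (Fin m)) ≠ Finset.univ := fun e => by
  obtain ⟨v, hv⟩ := hT0
  have := e ▸ Finset.mem_univ v
  simp at this
  exact this hv

theorem exists_rep {s : Perm (Pt m (k + 1))} (hs : s ∈ stab H T) :
    ∃ π β, Rep T s π β ∧ ∀ g g', β g * (β g')⁻¹ ∈ cen Tᶜ := by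
  classical
  set U : Finset (Fin m) := Tᶜ with hU
  have hU3 : 3 ≤ U.card := three_le_compl h hT
  have hmemU : ∀ {v}, v ∈ U ↔ v ∉ T := fun {v} => Finset.mem_compl
  have hsU : ∀ {v}, v ∈ U → ∀ g, s (pt v g) 0 ∈ U := fun {v} hv g => by
    rw [hmemU] at hv ⊢
    exact fun e => hv ((hs.2 (pt v g)).1 e)
  have hnorm : ∀ σ ∈ within U, Perm.sign σ = 1 → ∃ α, s * rect σ 1 * s⁻¹ = rect α 1 := by
    intro σ hσ hσs
    refine h.supp_const (S := U) (compl_ne_univ h hT hT0)
      ⟨H.mul_mem (H.mul_mem hs.1 (h.rect_even_mem hσs)) (H.inv_mem hs.1), fun f hf => ?_⟩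
    have h0 : s⁻¹ f 0 ∉ U := by
      rw [hmemU, not_not] at hf ⊢
      rw [← hs.2, app_inv]
      exact hf
    rw [Perm.mul_apply, Perm.mul_apply]
    conv_lhs => rw [← pt_tl (s⁻¹ f), rect_pt, hσ _ h0, Perm.one_apply, pt_tl, app_inv]
  have htail : ∀ {v v'}, v ∈ U → v' ∈ U → ∀ g, tl (s (pt v g)) = tl (s (pt v' g)) := by
    intro v v' hv hv' g
    obtain ⟨σ, hσ, hσs, hσv⟩ := exists_within_even hU3 hv hv'
    obtain ⟨α, hα⟩ := hnorm σ hσ hσs
    rw [mul_inv_eq_iff_eq_mul] at hα
    have := congrArg (fun e : Perm (Pt m (k + 1)) => e (pt v g)) hα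
    simp only [Perm.mul_apply, rect_pt, hσv, Perm.one_apply] at this
    rw [this, ← pt_tl (s (pt v g)), rect_pt]
    simp
  obtain ⟨v0, hv0⟩ := Finset.card_pos.1 (show 0 < U.card by omega)
  have hinj : ∀ g, Function.Injective fun v : U => (⟨s (pt v g) 0, hsU v.2 g⟩ : U) := by
    intro g v v' e
    have e' := congrArg Subtype.val e
    have : s (pt v g) = s (pt v' g) := by
      rw [← pt_tl (s (pt (v : Fin m) g)), ← pt_tl (s (pt (v' : Fin m) g)), htail v.2 v'.2 g]
      exact congrArg (fun a => pt a _) e'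
    exact Subtype.ext (pt_inj.1 (s.injective this)).1
  let π : Perm (Pt m k) := Equiv.ofBijective (fun g => tl (s (pt v0 g)))
    (Finite.injective_iff_bijective.1 fun g g' e => by
      obtain ⟨⟨v, hv⟩, hve⟩ := Finite.injective_iff_surjective.1 (hinj g) ⟨_, hsU hv0 g'⟩
      have hve' := congrArg Subtype.val hve
      have : s (pt v g) = s (pt v0 g') := by
        rw [← pt_tl (s (pt v g)), ← pt_tl (s (pt v0 g')), htail hv hv0 g, e]
        exact congrArg (fun a => pt a _) hve'
      exact (pt_inj.1 (s.injective this)).2)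
  let β : Pt m k → Perm (Fin m) := fun g => Equiv.ofBijective
    (fun v => if v ∈ U then s (pt v (π⁻¹ g)) 0 else v)
    (Finite.injective_iff_bijective.1 fun v v' e => by
      by_cases hv : v ∈ U <;> by_cases hv' : v' ∈ U
      · simp only [if_pos hv, if_pos hv'] at e
        exact congrArg Subtype.val (hinj (π⁻¹ g) (a₁ := ⟨v, hv⟩) (a₂ := ⟨v', hv'⟩) (Subtype.ext e))
      · simp only [if_pos hv, if_neg hv'] at e
        exact absurd (e ▸ hsU hv _) hv'
      · simp only [if_neg hv, if_pos hv'] at e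
        exact absurd (e.symm ▸ hsU hv' _) hv
      · simpa only [if_neg hv, if_neg hv'] using e)
  have hβ : ∀ g, β g ∈ within U := fun g v hv => by
    show (if v ∈ U then s (pt v (π⁻¹ g)) 0 else v) = v
    rw [if_neg hv]
  have hrep : Rep T s π β := ⟨hβ, fun v hv g => by
    have hv' : v ∈ U := hmemU.2 hv
    rw [← pt_tl (s (pt v g)), htail hv' hv0 g]
    have : β (π g) v = s (pt v g) 0 := by
      show (if v ∈ U then s (pt v (π⁻¹ (π g))) 0 else v) = _
      rw [if_pos hv', inv_app]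
    rw [this]
    rfl⟩
  refine ⟨π, β, hrep, fun g g' => mem_cen.2 ⟨mul_mem (hβ _) (inv_mem (hβ _)), fun σ hσ hσs => ?_⟩⟩
  have hσ' : (β g')⁻¹ * σ * β g' ∈ within U := mul_mem (mul_mem (inv_mem (hβ _)) hσ) (hβ _)
  obtain ⟨α, hα⟩ := hnorm _ hσ' (by simp [hσs])
  have key : ∀ h' v, v ∈ U → α (β h' v) = β h' (((β g')⁻¹ * σ * β g') v) := by
    intro h' v hv
    rw [mul_inv_eq_iff_eq_mul] at hα
    have := congrArg (fun e : Perm (Pt m (k + 1)) => e (pt v (π⁻¹ h'))) hα
    rw [Perm.mul_apply, Perm.mul_apply, rect_pt, Perm.one_apply] at this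
    rw [hrep.2 _ (hmemU.1 (within_mem hσ' hv)), hrep.2 _ (hmemU.1 hv), rect_pt, app_inv, pt_inj] at this
    exact this.1.symm
  ext v : 1
  by_cases hv : v ∈ U
  · have h1 : α (β g ((β g')⁻¹ v)) = β g ((β g')⁻¹ (σ v)) := by
      have := key g _ (within_mem (inv_mem (hβ g')) hv)
      rwa [Perm.mul_apply, Perm.mul_apply, app_inv] at this
    have hw : β g ((β g')⁻¹ v) ∈ U := within_mem (hβ _) (within_mem (inv_mem (hβ _)) hv)
    have h2 : α (β g ((β g')⁻¹ v)) = σ (β g ((β g')⁻¹ v)) := by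
      have := key g' _ (within_mem (inv_mem (hβ g')) hw)
      rwa [Perm.mul_apply, Perm.mul_apply, app_inv, app_inv] at this
    simp only [Perm.mul_apply]
    rw [← h2, h1]
  · have h1 : ∀ {x : Perm (Fin m)}, x ∈ within U → x v = v := fun hx => hx v hv
    simp only [Perm.mul_apply]
    rw [h1 hσ, h1 (inv_mem (hβ g')), h1 (hβ g), h1 hσ]

/-- An element of the stabiliser fixing every slice outside `T` pointwise. -/
theorem rect_of_rep_one {s : Perm (Pt m (k + 1))} (hs : s ∈ stab H T) (hrep : Rep T s 1 1) :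
    ∃ α ∈ within T, s = rect α 1 := by
  classical
  have hfix : ∀ v ∉ T, ∀ g, s (pt v g) = pt v g := fun v hv g => by
    rw [hrep.2 v hv]; rfl
  have hne : T ≠ Finset.univ := fun e => by
    have := h.hm
    rw [e, Finset.card_univ, Fintype.card_fin] at hT
    omega
  obtain ⟨α, rfl⟩ := h.supp_const (S := T) hne ⟨hs.1, fun f hf => by rw [← pt_tl f]; exact hfix _ hf _⟩
  obtain ⟨g0⟩ : Nonempty (Pt m k) := ⟨fun _ => ⟨0, by have := h.hm; omega⟩⟩
  exact ⟨α, fun v hv => by
    have := hfix v hv g0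
    rw [rect_pt, pt_inj] at this
    exact this.1, rfl⟩

/-- A correcting even element exchanging the values of `T` and of two others. -/
theorem exists_flip {v v' : Fin m} (hv : v ∈ T) (hv' : v' ∈ T) (hne : v ≠ v') :
    ∃ c ∈ Tᶜ, ∃ d ∈ Tᶜ, c ≠ d ∧ rect (swap v v' * swap c d) (1 : Perm (Pt m k)) ∈ stab H T ∧
      Rep T (rect (swap v v' * swap c d) (1 : Perm (Pt m k))) 1 (fun _ => swap c d) := by
  classical
  obtain ⟨c, hc, d, hd, hcd⟩ := Finset.one_lt_card.1 (show 1 < Tᶜ.card by
    have := three_le_compl h hT; omega)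
  have hsw : swap c d ∈ within Tᶜ := swap_mem_within hc hd
  have hagree : ∀ u ∉ T, (swap v v' * swap c d) u = swap c d u := fun u hu => by
    have hu' := within_compl_notMem hsw hu
    rw [Perm.mul_apply]
    exact swap_mem_within hv hv' _ hu'
  refine ⟨c, hc, d, hd, hcd, rect_mem_stab (h.rect_even_mem (by simp [sign_swap hne, sign_swap hcd]))
    (fun u => ?_), rep_rect hsw hagree 1⟩
  by_cases hu : u ∈ T
  · rw [Perm.mul_apply, hsw u (by simpa using hu)]
    exact iff_of_true (within_mem (swap_mem_within hv hv') hu) hu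
  · rw [hagree u hu]; exact apply_mem_iff_of_within hsw u

/-- Trivial permutation of the lines and components commuting with the alternating group. -/
theorem rect_of_rep_cen {s : Perm (Pt m (k + 1))} (hs : s ∈ stab H T) {β : Pt m k → Perm (Fin m)}
    (hrep : Rep T s 1 β) (hβ : ∀ g, β g ∈ cen Tᶜ) : ∃ α, s = rect α 1 := by
  classical
  rcases Nat.lt_or_ge Tᶜ.card 4 with hlt | h4
  swap
  · obtain rfl : β = 1 := funext fun g => cen_eq_one h4 (hβ g)
    obtain ⟨α, -, hα⟩ := rect_of_rep_one h hT hT0 hs hrep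
    exact ⟨α, hα⟩
  have hU3 := three_le_compl h hT
  have hm5 : m = 5 ∧ T.card = 2 := by
    rw [Finset.card_compl, Fintype.card_fin] at hlt hU3
    have := h.hm
    omega
  obtain ⟨rfl, hT2⟩ := hm5
  let G : Subgroup (Perm (Pt 5 (k + 1))) :=
    { carrier := {s | s ∈ stab H T ∧ ∃ β, Rep T s 1 β ∧ ∀ g, β g ∈ cen Tᶜ}
      one_mem' := ⟨one_mem _, 1, rep_one, fun _ => one_mem _⟩
      mul_mem' := fun {a b} => by
        rintro ⟨ha, β, hr, hc⟩ ⟨hb, β', hr', hc'⟩
        refine ⟨mul_mem ha hb, _, by simpa using hr.mul hr', fun g => ?_⟩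
        exact mul_mem (hc g) (hc' _)
      inv_mem' := fun {a} => by
        rintro ⟨ha, β, hr, hc⟩
        refine ⟨inv_mem ha, _, by simpa using hr.inv, fun g => ?_⟩
        exact inv_mem (hc _) }
  have hsix : ∀ r ∈ G, r ^ 6 = 1 := by
    rintro r ⟨hr, γ, hrep', hγ⟩
    have h3 : Rep T (r * r * r) 1 1 := by
      have := (hrep'.mul hrep').mul hrep'
      simp only [mul_one, inv_one, Perm.one_apply] at this
      convert this using 1
      funext g
      have e := (cen_prop hU3 (hγ g)).2.1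
      rw [pow_succ, pow_two] at e
      exact e.symm
    obtain ⟨α, hα, e⟩ := rect_of_rep_one h hT hT0 (mul_mem (mul_mem hr hr) hr) h3
    have hr6 : r ^ 6 = (r * r * r) * (r * r * r) := by
      rw [show (6 : ℕ) = 3 + 3 from rfl, pow_add, pow_succ, pow_two]
    rw [hr6, e, rect_mul, (within_two (by omega) hα hα).1, mul_one, rect_one_one]
  let D : Finset (Pt 5 (k + 1)) := Finset.univ.filter fun f => f 0 ∈ T
  have hD : ∀ {f : Pt 5 (k + 1)}, f ∈ D ↔ f 0 ∈ T := by simp [D]
  let O : Pt 5 (k + 1) → Finset (Pt 5 (k + 1)) := fun f => Finset.univ.filter fun x => ∃ r ∈ G, r f = x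
  have hO : ∀ {f x}, x ∈ O f ↔ ∃ r ∈ G, r f = x := by simp [O]
  have hOsub : ∀ {f}, f ∈ D → ∀ {x}, x ∈ O f → x ∈ D := fun {f} hf {x} hx => by
    obtain ⟨r, hr, rfl⟩ := hO.1 hx
    rw [hD, hr.1.2]
    exact hD.1 hf
  have hOself : ∀ f, f ∈ O f := fun f => hO.2 ⟨1, one_mem _, rfl⟩
  -- elements normalising `G` move orbits to orbits
  have hOmap : ∀ {y}, (∀ r ∈ G, y * r * y⁻¹ ∈ G) → ∀ f, O (y f) = (O f).image y := by
    intro y hy f
    have hfin : ∀ r ∈ G, y⁻¹ * r * y ∈ G := fun r hr => by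
      have hinj : Function.Injective fun q : G => (⟨y * q * y⁻¹, hy q q.2⟩ : G) := fun q q' e => by
        ext1; simpa using congrArg Subtype.val e
      obtain ⟨q, hq⟩ := Finite.injective_iff_surjective.1 hinj ⟨r, hr⟩
      have : r = y * q * y⁻¹ := (congrArg Subtype.val hq).symm
      rw [this]
      simpa [mul_assoc] using q.2
    ext x
    rw [Finset.mem_image]
    constructor
    · intro hx
      obtain ⟨r, hr, rfl⟩ := hO.1 hx
      exact ⟨_, hO.2 ⟨_, hfin r hr, rfl⟩, by simp⟩
    · rintro ⟨_, hx, rfl⟩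
      obtain ⟨r, hr, rfl⟩ := hO.1 hx
      exact hO.2 ⟨_, hy r hr, by simp⟩
  have hlift : ∀ {u : Perm (Pt 5 k)}, IsLift u → ∀ r ∈ G, rect 1 u * r * (rect 1 u)⁻¹ ∈ G := by
    intro u hu r hr
    obtain ⟨hr, γ, hr', hγ⟩ := hr
    have hu' : rect 1 u ∈ stab H T := rect_mem_stab (h.lift_mem hu) fun v => Iff.rfl
    have hur : Rep T (rect 1 u) u 1 := rep_rect (one_mem _) (fun _ _ => rfl) u
    refine ⟨mul_mem (mul_mem hu' hr) (inv_mem hu'), fun g => γ (u⁻¹ g), ?_, fun g => hγ _⟩
    convert (hur.mul hr').mul hur.inv using 1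
    · group
    · funext g
      simp
  obtain ⟨v, v', hvv, hTv⟩ := Finset.card_eq_two.1 hT2
  obtain ⟨c, hc, d, hd, hcd, hwS, hwR⟩ := exists_flip h hT hT0 (v := v) (v' := v')
    (by simp [hTv]) (by simp [hTv]) hvv
  set w := rect (swap v v' * swap c d) (1 : Perm (Pt 5 k)) with hw
  have hwG : ∀ r ∈ G, w * r * w⁻¹ ∈ G := by
    rintro r ⟨hr, γ, hr', hγ⟩
    refine ⟨mul_mem (mul_mem hwS hr) (inv_mem hwS), fun g => (γ g)⁻¹, ?_, fun g => inv_mem (hγ g)⟩
    convert (hwR.mul hr').mul hwR.inv using 1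
    · group
    · funext g
      have := (cen_prop hU3 (hγ g)).2.2 c hc d hd hcd
      simpa [mul_assoc] using this.symm
  -- all orbits in the union of the slices have the same size
  have hbase : ∀ (a : Fin 5) (g g' : Pt 5 k), ((O (pt a g)).card = (O (pt a g')).card) := by
    intro a g g'
    choose τ hτs hτ using fun i => exists_even_one h.hm (g i) (g' i)
    have hu : IsLift (prodPerm (1 : Perm (Fin k)) τ) := by
      refine isLift_of_even (prodPerm_mem _ _) ?_
      exact (base_mem (G := alternatingGroup (Pt 5 k)) τ fun i => sign_coord_even i (hτs i) :)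
    have e : rect 1 (prodPerm (1 : Perm (Fin k)) τ) (pt a g) = pt a g' := by
      rw [rect_pt, show prodPerm (1 : Perm (Fin k)) τ g = g' from funext hτ]; rfl
    rw [← e, hOmap (hlift hu), Finset.card_image_of_injective _ (Equiv.injective _)]
  obtain ⟨g0⟩ : Nonempty (Pt 5 k) := ⟨fun _ => 0⟩
  set n := (O (pt v g0)).card with hn
  have hcardO : ∀ f ∈ D, (O f).card = n := by
    intro f hf
    rw [hD, hTv, Finset.mem_insert, Finset.mem_singleton] at hf
    rw [← pt_tl f]
    rcases hf with e | e <;> rw [e]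
    · exact hbase _ _ _
    · have e2 : pt v' g0 = w (pt v g0) := by
        rw [hw, rect_pt, Perm.mul_apply, (swap_mem_within hc hd) v (by simp [hTv]), swap_apply_left]
        rfl
      rw [hbase v' (tl f) g0, e2, hOmap hwG, Finset.card_image_of_injective _ (Equiv.injective _)]
  have hfiber : ∀ y ∈ D.image O, (D.filter fun f => O f = y).card = n := by
    intro y hy
    obtain ⟨f, hf, rfl⟩ := Finset.mem_image.1 hy
    rw [← hcardO f hf]
    congr 1
    ext x
    rw [Finset.mem_filter]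
    constructor
    · rintro ⟨-, e⟩
      rw [← e]; exact hOself x
    · intro hx
      refine ⟨hOsub hf hx, ?_⟩
      obtain ⟨r, hr, rfl⟩ := hO.1 hx
      ext y
      rw [hO, hO]
      constructor
      · rintro ⟨q, hq, rfl⟩; exact ⟨q * r, mul_mem hq hr, rfl⟩
      · rintro ⟨q, hq, rfl⟩; exact ⟨q * r⁻¹, mul_mem hq (inv_mem hr), by simp⟩
  have hdvdD : n ∣ D.card := by
    rw [Finset.card_eq_sum_card_image O D, Finset.sum_congr rfl hfiber, Finset.sum_const, smul_eq_mul]
    exact dvd_mul_left _ _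
  have hDcard : D.card = 2 * 5 ^ k := by
    have e : D = (T ×ˢ (Finset.univ : Finset (Pt 5 k))).map
        ⟨fun x => pt x.1 x.2, fun x y e => Prod.ext (pt_inj.1 e).1 (pt_inj.1 e).2⟩ := by
      ext f
      simp only [hD, Finset.mem_map, Finset.mem_product, Finset.mem_univ, and_true, Function.Embedding.coeFn_mk]
      constructor
      · exact fun hf => ⟨(f 0, tl f), hf, pt_tl f⟩
      · rintro ⟨x, hx, rfl⟩; exact hx
    rw [e, Finset.card_map, Finset.card_product, hT2, Finset.card_univ, Fintype.card_fun, Fintype.card_fin,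
      Fintype.card_fin]
  have hdvdG : n ∣ Nat.card G := by
    have horb : (orbit G (pt v g0)) = (O (pt v g0) : Set (Pt 5 (k + 1))) := by
      ext x
      rw [Finset.mem_coe, hO]
      exact ⟨fun ⟨r, e⟩ => ⟨r, r.2, e⟩, fun ⟨r, hr, e⟩ => ⟨⟨r, hr⟩, e⟩⟩
    have := (MulAction.index_stabilizer G (pt v g0)) ▸ (stabilizer G (pt v g0)).index_dvd_card
    rwa [horb, Set.ncard_coe_finset] at this
  have hn2 : n ∣ 2 := by
    refine (Nat.Coprime.pow_right k ?_).dvd_of_dvd_mul_right (hDcard ▸ hdvdD)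
    rw [Nat.coprime_comm, (by norm_num : Nat.Prime 5).coprime_iff_not_dvd]
    intro h5
    haveI : Fact (Nat.Prime 5) := ⟨by norm_num⟩
    obtain ⟨r, hr⟩ := exists_prime_orderOf_dvd_card' 5 (h5.trans hdvdG)
    have : orderOf r ∣ 6 := orderOf_dvd_of_pow_eq_one (Subtype.ext (by simpa using hsix r r.2))
    rw [hr] at this
    omega
  refine h.eq_rect_of_tl hs.1 fun f => ?_
  obtain ⟨a, g, rfl⟩ : ∃ a g, f = pt a g := ⟨f 0, tl f, (pt_tl f).symm⟩
  by_cases ha : a ∈ T
  swap
  · rw [hrep.2 a ha, tl_pt, tl_pt]; rfl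
  rw [tl_pt]
  by_contra hne
  obtain ⟨i, α, hα, hfix, hmove⟩ := exists_lift_fix_move h.hm (Ne.symm hne : g ≠ tl (s (pt a g)))
  have hO1 : s (pt a g) ∈ O (pt a g) := hO.2 ⟨s, ⟨hs, β, hrep, hβ⟩, rfl⟩
  have hfu : rect 1 (coord i α) (pt a g) = pt a g := by rw [rect_pt, hfix]; rfl
  have hO2 : rect 1 (coord i α) (s (pt a g)) ∈ O (pt a g) := by
    have := hOmap (hlift (isLift_coord i hα)) (pt a g)
    rw [hfu] at this
    rw [this]
    exact Finset.mem_image_of_mem _ hO1
  have h1 : s (pt a g) ≠ pt a g := fun e => hne (by rw [e, tl_pt])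
  have h2 : rect 1 (coord i α) (s (pt a g)) ≠ s (pt a g) := fun e => hmove (by
    have e' := congrArg tl e
    rw [← pt_tl (s (pt a g)), rect_pt, tl_pt, tl_pt] at e'
    exact e')
  have h3 : rect 1 (coord i α) (s (pt a g)) ≠ pt a g := fun e => h1 ((Equiv.injective _) (e.trans hfu.symm))
  have h3' : ({pt a g, s (pt a g), rect 1 (coord i α) (s (pt a g))} : Finset _).card ≤ (O (pt a g)).card :=
    Finset.card_le_card (by simp [Finset.insert_subset_iff, hOself, hO1, hO2])
  rw [Finset.card_eq_three.2 ⟨_, _, _, h1.symm, h3.symm, h2.symm, rfl⟩, hcardO _ (hD.2 (by simpa using ha))] at h3'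
  have := Nat.le_of_dvd (by norm_num) hn2
  omega

/-- Trivial permutation of the lines. -/
theorem rect_of_rep_line {s : Perm (Pt m (k + 1))} (hs : s ∈ stab H T) {β : Pt m k → Perm (Fin m)}
    (hrep : Rep T s 1 β) (hβ : ∀ g g', β g * (β g')⁻¹ ∈ cen Tᶜ) : ∃ α, s = rect α 1 := by
  classical
  have hm := h.hm
  have hU3 := three_le_compl h hT
  obtain ⟨g0⟩ : Nonempty (Pt m k) := ⟨fun _ => ⟨0, by omega⟩⟩
  -- commutators with lifts
  have hc : ∀ {u}, IsLift u → ∃ c ∈ cen Tᶜ, ∃ t ∈ within T,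
      s * rect 1 u * s⁻¹ = rect (c * t) u := by
    intro u hu
    have hu' : rect 1 u ∈ stab H T := rect_mem_stab (h.lift_mem hu) fun v => Iff.rfl
    have hur : Rep T (rect 1 u) u 1 := rep_rect (one_mem _) (fun _ _ => rfl) u
    have hr : Rep T (s * rect 1 u * s⁻¹ * (rect 1 u)⁻¹) 1 (fun g => β g * (β (u⁻¹ g))⁻¹) := by
      convert ((hrep.mul hur).mul hrep.inv).mul hur.inv using 1
      · group
      · funext g; simp
    have hmem : s * rect 1 u * s⁻¹ * (rect 1 u)⁻¹ ∈ stab H T :=
      mul_mem (mul_mem (mul_mem hs hu') (inv_mem hs)) (inv_mem hu')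
    obtain ⟨α, hα⟩ := rect_of_rep_cen h hT hT0 hmem hr (fun g => hβ g _)
    rw [hα] at hr hmem
    set c := β g0 * (β (u⁻¹ g0))⁻¹
    have hcc : c ∈ cen Tᶜ := hβ _ _
    have hag : ∀ v ∉ T, α v = c v := fun v hv => by
      have := hr.2 v hv g0
      rw [rect_pt, pt_inj] at this
      exact this.1
    refine ⟨c, hcc, c⁻¹ * α, fun v hv => ?_, ?_⟩
    · rw [Perm.mul_apply, hag v hv, inv_app]
    · rw [mul_inv_cancel_left, mul_inv_eq_iff_eq_mul.1 hα, rect_mul, mul_one, one_mul]
  have hcomm : ∀ {u1 u2}, IsLift u1 → IsLift u2 →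
      Commute s (rect 1 (u1 * u2 * u1⁻¹ * u2⁻¹)) := by
    intro u1 u2 h1 h2
    obtain ⟨c1, hc1, t1, ht1, e1⟩ := hc h1
    obtain ⟨c2, hc2, t2, ht2, e2⟩ := hc h2
    have hd : ∀ {c t : Perm (Fin m)}, c ∈ cen Tᶜ → t ∈ within T → c * t = t * c := by
      intro c t hc ht
      refine (Disjoint.commute fun v => ?_).eq
      by_cases hv : v ∈ T
      · exact Or.inl (hc.1 v (by simpa using hv))
      · exact Or.inr (ht v hv)
    have hab : (c1 * t1) * (c2 * t2) * (c1 * t1)⁻¹ * (c2 * t2)⁻¹ = 1 := by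
      have : (c1 * t1) * (c2 * t2) = (c2 * t2) * (c1 * t1) := by
        calc (c1 * t1) * (c2 * t2) = c1 * (t1 * c2) * t2 := by group
          _ = c1 * (c2 * t1) * t2 := by rw [hd hc2 ht1]
          _ = (c1 * c2) * (t1 * t2) := by group
          _ = (c2 * c1) * (t2 * t1) := by rw [cen_comm hU3 hc1 hc2, (within_two hT ht1 ht2).2]
          _ = c2 * (c1 * t2) * t1 := by group
          _ = c2 * (t2 * c1) * t1 := by rw [hd hc1 ht2]
          _ = _ := by group
      rw [this]; group
    have key : s * rect 1 (u1 * u2 * u1⁻¹ * u2⁻¹) * s⁻¹ = rect 1 (u1 * u2 * u1⁻¹ * u2⁻¹) := by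
      calc s * rect 1 (u1 * u2 * u1⁻¹ * u2⁻¹) * s⁻¹
          = (s * rect 1 u1 * s⁻¹) * (s * rect 1 u2 * s⁻¹) * (s * rect 1 u1 * s⁻¹)⁻¹ *
              (s * rect 1 u2 * s⁻¹)⁻¹ := by
            have : rect (k := k) (1 : Perm (Fin m)) (u1 * u2 * u1⁻¹ * u2⁻¹) =
                rect 1 u1 * rect 1 u2 * (rect 1 u1)⁻¹ * (rect 1 u2)⁻¹ := by
              simp [rect_inv, rect_mul]
            rw [this]; group
        _ = _ := by rw [e1, e2, rect_inv, rect_inv, rect_mul, rect_mul, rect_mul, hab]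
    exact mul_inv_eq_iff_eq_mul.1 key
  have hall : ∀ (i : Fin k) (δ : Perm (Fin m)), Perm.sign δ = 1 → Commute s (rect 1 (coord i δ)) := by
    intro i δ hδ
    let φ : Perm (Fin m) →* Perm (Pt m (k + 1)) :=
      { toFun := fun δ => rect 1 (coord i δ)
        map_one' := by rw [map_one, rect_one_one]
        map_mul' := fun a b => by rw [map_mul, rect_mul, one_mul] }
    let N : Subgroup (alternatingGroup (Fin m)) :=
      (Subgroup.centralizer {s}).comap (φ.comp (alternatingGroup (Fin m)).subtype)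
    have hN : ∀ {a : alternatingGroup (Fin m)}, a ∈ N ↔ Commute s (rect 1 (coord i (a : Perm (Fin m)))) := by
      intro a
      simp [N, Subgroup.mem_centralizer_iff, φ, commute_iff_eq]
    have hcom' : ∀ a b : alternatingGroup (Fin m), a * b * a⁻¹ * b⁻¹ ∈ N := fun a b => by
      rw [hN]
      have := hcomm (isLift_coord i a.2) (isLift_coord i b.2)
      simpa [map_mul, map_inv] using this
    have hnorm : N.Normal := ⟨fun a ha d => by
      have := N.mul_mem (hcom' d a) ha
      simpa [mul_assoc] using this⟩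
    haveI := alternatingGroup.isSimpleGroup (α := Fin m) (by simpa using hm)
    rcases IsSimpleGroup.eq_bot_or_eq_top_of_normal N hnorm with hb | ht
    · exfalso
      obtain ⟨a, b, ha, hb', hne⟩ := exists_coord_noncomm hm i
      have := hcom' ⟨a, ha⟩ ⟨b, hb'⟩
      rw [hb, Subgroup.mem_bot] at this
      have := congrArg Subtype.val this
      simp only [Subgroup.coe_mul, InvMemClass.coe_inv, OneMemClass.coe_one] at this
      rw [mul_inv_eq_one, mul_inv_eq_iff_eq_mul] at this
      exact hne (by rw [← map_mul, ← map_mul, this])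
    · have hmem : (⟨δ, hδ⟩ : alternatingGroup (Fin m)) ∈ N := by rw [ht]; exact Subgroup.mem_top _
      have h2 := (hN (a := (⟨δ, hδ⟩ : alternatingGroup (Fin m)))).1 hmem
      exact h2
  refine h.eq_rect_of_tl hs.1 fun f => ?_
  obtain ⟨a, g, rfl⟩ : ∃ a g, f = pt a g := ⟨f 0, tl f, (pt_tl f).symm⟩
  rw [tl_pt]
  by_contra hne
  obtain ⟨i, α, hα, hfix, hmove⟩ := exists_lift_fix_move hm (Ne.symm hne : g ≠ tl (s (pt a g)))
  have := congrArg (fun e : Perm (Pt m (k + 1)) => tl (e (pt a g))) (hall i α hα).eq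
  simp only [Perm.mul_apply, rect_pt, hfix, Perm.one_apply] at this
  rw [← pt_tl (s (pt a g)), rect_pt, tl_pt, tl_pt] at this
  exact hmove this.symm

/-- The stabiliser of the union of one or two slices consists of product permutations. -/
theorem stab_le_W : stab H T ≤ W m (k + 1) := by
  classical
  have hm := h.hm
  have hU3 := three_le_compl h hT
  obtain ⟨g0⟩ : Nonempty (Pt m k) := ⟨fun _ => ⟨0, by omega⟩⟩
  obtain ⟨c, hcU, d, hdU, hcd⟩ := Finset.one_lt_card.1 (show 1 < Tᶜ.card by omega)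
  let G : Subgroup (Perm (Pt m k)) :=
    { carrier := {π | ∃ s ∈ stab H T, ∃ β, Rep T s π β ∧ ∀ g, β g ∈ cen Tᶜ}
      one_mem' := ⟨1, one_mem _, 1, rep_one, fun _ => one_mem _⟩
      mul_mem' := by
        rintro π π' ⟨s, hs, β, hr, hb⟩ ⟨s', hs', β', hr', hb'⟩
        exact ⟨_, mul_mem hs hs', _, hr.mul hr', fun g => mul_mem (hb g) (hb' _)⟩
      inv_mem' := by
        rintro π ⟨s, hs, β, hr, hb⟩
        exact ⟨_, inv_mem hs, _, hr.inv, fun g => inv_mem (hb _)⟩ }
  have hG : Good G := good_of_isLift hm fun u hu =>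
    ⟨rect 1 u, rect_mem_stab (h.lift_mem hu) fun v => Iff.rfl, 1,
      rep_rect (one_mem _) (fun _ _ => rfl) u, fun _ => one_mem _⟩
  have hW : G ≤ W m k := by
    rcases Nat.lt_or_ge k 2 with hk | hk
    · exact fun σ _ => W_mem_of_le_one (by omega) σ
    refine (h.IH G hG).resolve_right fun hA => ?_
    let j : Fin k := ⟨0, by omega⟩
    let i : Fin k := ⟨1, by omega⟩
    have hij : i.succ ≠ j.succ := by simp [i, j, Fin.ext_iff]
    let a : Pt m k := fun _ => ⟨0, by omega⟩
    let val : Fin 5 → Pt m k := fun t => Function.update a j ⟨t, by omega⟩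
    have hval : Function.Injective val := fun s t e => by
      have := congrFun e j
      simpa [val, Fin.ext_iff] using this
    have dis : ∀ {x y z w : Fin 5}, x ≠ z → x ≠ w → y ≠ z → y ≠ w →
        Disjoint (swap (val x) (val y)) (swap (val z) (val w)) := by
      intro x y z w h1 h2 h3 h4 u
      by_cases hu : u = val x ∨ u = val y
      · right
        rcases hu with rfl | rfl
        · exact swap_apply_of_ne_of_ne (hval.ne h1) (hval.ne h2)
        · exact swap_apply_of_ne_of_ne (hval.ne h3) (hval.ne h4)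
      · left
        push Not at hu
        exact swap_apply_of_ne_of_ne hu.1 hu.2
    -- even involutions with a fixed point have lifts with trivial components
    have hinvol : ∀ {π : Perm (Pt m k)}, Perm.sign π = 1 → π * π = 1 → (∃ g, π g = g) →
        ∃ s ∈ stab H T, Rep T s π 1 := by
      intro π hs2 hπ2 ⟨g1, hg1⟩
      obtain ⟨s, hs, β, hr, hb⟩ := hA hs2
      rcases Nat.lt_or_ge Tᶜ.card 4 with hlt | h4
      swap
      · obtain rfl : β = 1 := funext fun g => cen_eq_one h4 (hb g)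
        exact ⟨s, hs, hr⟩
      have hT2 : T.card = 2 := by
        rw [Finset.card_compl, Fintype.card_fin] at hlt hU3
        omega
      obtain ⟨v, v', hvv, hTv⟩ := Finset.card_eq_two.1 hT2
      obtain ⟨c, hc, d, hd, hcd, hwS, hwR⟩ := exists_flip h hT hT0 (v := v) (v' := v')
        (by simp [hTv]) (by simp [hTv]) hvv
      have hπi : π⁻¹ = π := inv_eq_of_mul_eq_one_right hπ2
      have hππ : ∀ g, π (π g) = g := fun g => by rw [← Perm.mul_apply, hπ2]; rfl
      set w := rect (swap v v' * swap c d) (1 : Perm (Pt m k))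
      have hr2 : Rep T (s * (w * s * w⁻¹)) 1 (fun g => β g * (β (π g))⁻¹) := by
        convert hr.mul ((hwR.mul hr).mul hwR.inv) using 1
        · simp [hπ2]
        · funext g
          have := (cen_prop hU3 (hb (π g))).2.2 c hc d hd hcd
          simp [hπi, this, mul_assoc]
      obtain ⟨α, hα⟩ := rect_of_rep_cen h hT hT0
        (mul_mem hs (mul_mem (mul_mem hwS hs) (inv_mem hwS))) hr2
        (fun g => mul_mem (hb g) (inv_mem (hb _)))
      rw [hα] at hr2
      have hα1 : ∀ v ∉ T, α v = v := fun v hv => by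
        have := hr2.2 v hv g1
        rw [rect_pt, pt_inj] at this
        simpa [hg1] using this.1
      have hone : Rep T (rect α 1 : Perm (Pt m (k + 1))) 1 (fun _ => 1) :=
        rep_rect (one_mem _) (fun v hv => by rw [hα1 v hv]; rfl) 1
      have hinv : ∀ g, β (π g) = β g := fun g => by
        have := congrFun (hr2.beta_unique hone) g
        rw [mul_inv_eq_one] at this
        exact this.symm
      refine ⟨s * s * s, mul_mem (mul_mem hs hs) hs, ?_⟩
      convert (hr.mul hr).mul hr using 1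
      · rw [hπ2, one_mul]
      · funext g
        have := (cen_prop hU3 (hb g)).2.1
        rw [pow_succ, pow_two] at this
        simp [hπi, hπ2, hinv, this]
    set π3 := swap (val 0) (val 1) * swap (val 0) (val 2) with hπ3
    have h01 := hval.ne (show (0 : Fin 5) ≠ 1 by decide)
    have h02 := hval.ne (show (0 : Fin 5) ≠ 2 by decide)
    have h12 := hval.ne (show (1 : Fin 5) ≠ 2 by decide)
    have h34 := hval.ne (show (3 : Fin 5) ≠ 4 by decide)
    have hd1 := dis (x := 0) (y := 1) (z := 3) (w := 4) (by decide) (by decide) (by decide) (by decide)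
    have hd2 := dis (x := 0) (y := 2) (z := 3) (w := 4) (by decide) (by decide) (by decide) (by decide)
    obtain ⟨s1, hs1, hr1⟩ := hinvol (π := swap (val 0) (val 1) * swap (val 3) (val 4))
      (by simp [sign_swap h01, sign_swap h34])
      (by rw [hd1.commute.symm.mul_mul_mul_comm, swap_mul_self, swap_mul_self, one_mul])
      ⟨val 2, by rw [Perm.mul_apply, swap_apply_of_ne_of_ne (hval.ne (by decide)) (hval.ne (by decide)),
        swap_apply_of_ne_of_ne (hval.ne (by decide)) (hval.ne (by decide))]⟩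
    obtain ⟨s2, hs2, hr2⟩ := hinvol (π := swap (val 0) (val 2) * swap (val 3) (val 4))
      (by simp [sign_swap h02, sign_swap h34])
      (by rw [hd2.commute.symm.mul_mul_mul_comm, swap_mul_self, swap_mul_self, one_mul])
      ⟨val 1, by rw [Perm.mul_apply, swap_apply_of_ne_of_ne (hval.ne (by decide)) (hval.ne (by decide)),
        swap_apply_of_ne_of_ne (hval.ne (by decide)) (hval.ne (by decide))]⟩
    have hs := mul_mem hs1 hs2
    have hr : Rep T (s1 * s2) π3 1 := by
      convert hr1.mul hr2 using 1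
      · rw [hπ3, hd2.commute.symm.mul_mul_mul_comm, swap_mul_self, mul_one]
      · funext g; simp
    set s := s1 * s2
    -- move `T` off itself
    obtain ⟨σ, hσ, e, heT, hdis, heσ⟩ : ∃ σ : Perm (Fin m), Perm.sign σ = 1 ∧ ∃ e, e ∉ T ∧
        (∀ v ∈ T, σ⁻¹ v ∉ T) ∧ σ⁻¹ e ∉ T := by
      obtain ⟨T', hT'sub, hT'card⟩ := Finset.exists_subset_card_eq (s := Tᶜ) (n := T.card) (by omega)
      obtain ⟨e, he, heT'⟩ : ∃ e ∈ Tᶜ, e ∉ T' := by
        by_contra! hcon
        have := Finset.card_le_card (s := Tᶜ) (t := T') hcon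
        omega
      let x : Fin T.card → Fin m := fun t => (T.equivFin.symm t : Fin m)
      let y : Fin T.card → Fin m := fun t => (T'.equivFinOfCardEq hT'card |>.symm t : Fin m)
      have hx : Function.Injective x := fun s t e => T.equivFin.symm.injective (Subtype.ext e)
      have hy : Function.Injective y := fun s t e =>
        (T'.equivFinOfCardEq hT'card).symm.injective (Subtype.ext e)
      have hxm : ∀ t, x t ∈ T := fun t => (T.equivFin.symm t).2
      have hym : ∀ t, y t ∈ T' := fun t => (T'.equivFinOfCardEq hT'card |>.symm t).2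
      obtain ⟨σ, h1, h2⟩ := exists_even (m := m) (n := T.card + 1) (by omega)
        ⟨Fin.cons e x, Fin.cons_injective_iff.2 ⟨by
          rintro ⟨t, ht⟩; exact Finset.mem_compl.1 he (ht ▸ hxm t), hx⟩⟩
        ⟨Fin.cons e y, Fin.cons_injective_iff.2 ⟨by
          rintro ⟨t, ht⟩; exact heT' (ht ▸ hym t), hy⟩⟩
      refine ⟨σ⁻¹, by simp [h1], e, Finset.mem_compl.1 he, fun v hv => ?_, ?_⟩
      · have := h2 (T.equivFin ⟨v, hv⟩).succ
        simp [x] at this
        rw [inv_inv, this]
        exact Finset.mem_compl.1 (hT'sub (hym _))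
      · have := h2 0
        simp at this
        rw [inv_inv, this]
        exact Finset.mem_compl.1 he
    set s' := rect σ 1 * s * (rect σ 1)⁻¹ with hs'
    have hs'pt : ∀ v, σ⁻¹ v ∉ T → ∀ g, s' (pt v g) = pt v (π3 g) := by
      intro v hv g
      simp only [hs', Perm.mul_apply, rect_inv, inv_one, rect_pt, Perm.one_apply]
      rw [hr.2 _ hv, rect_pt]
      simp
    have hfix : ∀ g, (s * s'⁻¹) (pt e g) = pt e g := by
      intro g
      have hinv : s'⁻¹ (pt e g) = pt e (π3⁻¹ g) := by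
        rw [Perm.inv_eq_iff_eq, hs'pt e heσ, app_inv]
      rw [Perm.mul_apply, hinv, hr.2 e heT]
      simp
    have hs'H : s' ∈ H := H.mul_mem (H.mul_mem (h.rect_even_mem hσ) hs.1) (H.inv_mem (h.rect_even_mem hσ))
    obtain ⟨α, hα⟩ := h.supp_const (S := Finset.univ.erase e) (fun e' => by
        have := e' ▸ Finset.mem_univ e
        simp at this) (x := s * s'⁻¹) ⟨H.mul_mem hs.1 (H.inv_mem hs'H), fun f hf => by
        simp only [Finset.mem_erase, Finset.mem_univ, and_true, not_not] at hf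
        rw [← pt_tl f, hf]
        exact hfix _⟩
    rw [mul_inv_eq_iff_eq_mul] at hα
    have hsT : ∀ v ∈ T, ∀ g, s (pt v g) = pt (α v) (π3 g) := fun v hv g => by
      rw [hα, Perm.mul_apply, hs'pt v (hdis v hv), rect_pt]; rfl
    have hαT : ∀ v ∈ T, α v ∈ T := fun v hv => by
      have := (hs.2 (pt v g0)).2 (by simpa using hv)
      rwa [hsT v hv, pt_zero] at this
    have hα2 : ∀ v ∈ T, α (α v) = v := by
      intro v hv
      by_contra hne
      have h1 : α v ≠ v := fun e => hne (by rw [e, e])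
      have h2 : α (α v) ≠ α v := fun e => h1 (α.injective e)
      have : ({v, α v, α (α v)} : Finset (Fin m)).card ≤ T.card := Finset.card_le_card (by
        simp [Finset.insert_subset_iff, hv, hαT v hv, hαT _ (hαT v hv)])
      rw [Finset.card_eq_three.2 ⟨v, α v, α (α v), Ne.symm h1, Ne.symm hne, Ne.symm h2, rfl⟩] at this
      omega
    have hsq : s * s = rect 1 (swap (val 0) (val 2) * swap (val 0) (val 1)) := by
      have e : π3 * π3 = swap (val 0) (val 2) * swap (val 0) (val 1) := by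
        have h3 : π3.IsThreeCycle := isThreeCycle_swap_mul_swap_same h01 h02 h12
        have : π3 * π3 = π3⁻¹ := by
          have h4 := pow_orderOf_eq_one π3
          rw [h3.orderOf, pow_succ, pow_two] at h4
          rw [eq_inv_iff_mul_eq_one]
          exact h4
        rw [this, hπ3, mul_inv_rev, swap_inv, swap_inv]
      rw [← e]
      refine ext_pt fun v g => ?_
      show s (s (pt v g)) = pt v (π3 (π3 g))
      by_cases hv : v ∈ T
      · rw [hsT v hv, hsT _ (hαT v hv), hα2 v hv]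
      · rw [hr.2 v hv]
        show s (pt v (π3 g)) = _
        rw [hr.2 v hv]
        rfl

    -- a three-cycle of tails
    have hcyc : IsCyc (s * s) (Finset.univ.erase 0) (pt e (val 0)) (pt e (val 1)) (pt e (val 2)) := by
      have hag : ∀ (f : Pt m (k + 1)) (p : Pt m k),
          Agree (Finset.univ.erase 0) f (pt e p) ↔ tl f = p := by
        intro f p
        constructor
        · intro hh; funext l; exact hh l.succ (by simp [Fin.succ_ne_zero])
        · intro hh l hl
          obtain ⟨l, rfl⟩ := Fin.exists_succ_eq.2 (Finset.mem_erase.1 hl).1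
          simp [← hh, tl]
      have hpw : ∀ (f : Pt m (k + 1)) (p : Pt m k),
          (Finset.univ.erase (0 : Fin (k + 1))).piecewise (pt e p) f = pt (f 0) p := by
        intro f p
        funext l
        refine Fin.cases ?_ (fun l => ?_) l
        · simp
        · simp [Fin.succ_ne_zero]
      rw [hsq]
      have hmap : ∀ f : Pt m (k + 1), rect (1 : Perm (Fin m))
          (swap (val 0) (val 2) * swap (val 0) (val 1)) f =
          pt (f 0) (swap (val 0) (val 2) (swap (val 0) (val 1) (tl f))) := fun f => rfl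
      refine ⟨fun f hf => ?_, fun f hf => ?_, fun f hf => ?_, fun f f1 f2 f3 => ?_⟩
      · rw [hmap, (hag f _).1 hf, swap_apply_left, swap_apply_of_ne_of_ne h01.symm h12, hpw]
      · rw [hmap, (hag f _).1 hf, swap_apply_right, swap_apply_left, hpw]
      · rw [hmap, (hag f _).1 hf, swap_apply_of_ne_of_ne h02.symm h12.symm, swap_apply_right, hpw]
      · rw [hag] at f1 f2 f3
        rw [hmap, swap_apply_of_ne_of_ne f1 f2, swap_apply_of_ne_of_ne f1 f3, pt_tl]
    exact hcyc.absurd hm h.good h.notA (H.mul_mem hs.1 hs.1) (i := i.succ) (j := j.succ)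
      (by simp [Fin.succ_ne_zero]) (by simp [Fin.succ_ne_zero]) hij
      (by simp [val, a, Fin.ext_iff]) (by simp [val, a, Fin.ext_iff])
  rcases Nat.eq_zero_or_pos k with rfl | hk1
  · exact fun σ _ => W_mem_of_le_one le_rfl σ
  intro s hs
  obtain ⟨π, β, hr, hcos⟩ := exists_rep h hT hT0 hs
  -- the permutation of the lines is a product permutation
  have hπ : π ∈ W m k := by
    obtain ⟨δ, hδW, hδ⟩ : ∃ δ ∈ W m k, Perm.sign (rect (β g0) δ) = 1 := by
      rcases Int.units_eq_one_or (Perm.sign (β g0)) with e | e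
      · exact ⟨1, one_mem _, by rw [sign_rect, e, map_one, one_pow, one_pow, one_mul]⟩
      rcases Nat.even_or_odd m with he | ho
      · exact ⟨1, one_mem _, by
          rw [sign_rect, e, map_one, one_pow, mul_one, (he.pow_of_ne_zero hk1.ne').neg_one_pow]⟩
      · refine ⟨coord (⟨0, hk1⟩ : Fin k) (swap c d), coord_mem _ _, ?_⟩
        rw [sign_rect, e, sign_coord_swap ho _ hcd, (ho.pow).neg_one_pow, ho.neg_one_pow]
        rfl
    have hx : rect (β g0) δ ∈ stab H T :=
      rect_mem_stab (h.good.even_mem _ (rect_mem_W _ hδW) hδ) (apply_mem_iff_of_within (hr.1 g0))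
    have hxr : Rep T (rect (β g0) δ) δ (fun _ => β g0) := rep_rect (hr.1 g0) (fun _ _ => rfl) δ
    have : δ⁻¹ * π ∈ G := by
      refine ⟨_, mul_mem (inv_mem hx) hs, _, hxr.inv.mul hr, fun g => ?_⟩
      -- the coset condition on the other side
      have hmem := hcos (δ⁻¹⁻¹ g) g0
      rw [mem_cen] at hmem ⊢
      refine ⟨mul_mem (inv_mem (hr.1 g0)) (hr.1 _), fun σ hσ hσs => ?_⟩
      have := hmem.2 (β g0 * σ * (β g0)⁻¹) (mul_mem (mul_mem (hr.1 g0) hσ) (inv_mem (hr.1 g0)))
        (by simp [hσs])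
      calc σ * ((β g0)⁻¹ * β (δ⁻¹⁻¹ g))
          = (β g0)⁻¹ * ((β g0 * σ * (β g0)⁻¹) * (β (δ⁻¹⁻¹ g) * (β g0)⁻¹)) * β g0 := by group
        _ = _ := by rw [this]; group
    simpa using (W m k).mul_mem hδW (hW this)
  obtain ⟨τ, hτ, hτs⟩ : ∃ τ ∈ within (Tᶜ : Finset (Fin m)), Perm.sign (rect τ π) = 1 := by
    rcases Nat.even_or_odd m with he | ho
    · exact ⟨1, one_mem _, by
        rw [sign_rect, map_one, one_pow, one_mul]
        rcases Int.units_eq_one_or (Perm.sign π) with e | e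
        · rw [e, one_pow]
        · rw [e, he.neg_one_pow]⟩
    · rcases Int.units_eq_one_or (Perm.sign π) with e | e
      · exact ⟨1, one_mem _, by rw [sign_rect, e, map_one, one_pow, one_pow, one_mul]⟩
      · exact ⟨swap c d, swap_mem_within hcU hdU, by
          rw [sign_rect, e, sign_swap hcd, (ho.pow).neg_one_pow, ho.neg_one_pow]; rfl⟩
  have hx : rect τ π ∈ stab H T :=
    rect_mem_stab (h.good.even_mem _ (rect_mem_W _ hπ) hτs) (apply_mem_iff_of_within hτ)
  have hxr : Rep T (rect τ π) π (fun _ => τ) := rep_rect hτ (fun _ _ => rfl) π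
  have hmem := mul_mem (inv_mem hx) hs
  have hrep := hxr.inv.mul hr
  rw [inv_mul_cancel] at hrep
  obtain ⟨α, hα⟩ := rect_of_rep_line h hT hT0 hmem hrep (fun g g' => by
    have := hcos (π⁻¹⁻¹ g) (π⁻¹⁻¹ g')
    rw [mem_cen] at this ⊢
    refine ⟨mul_mem (mul_mem (inv_mem hτ) (hr.1 _)) (inv_mem (mul_mem (inv_mem hτ) (hr.1 _))),
      fun σ hσ hσs => ?_⟩
    have := this.2 (τ * σ * τ⁻¹) (mul_mem (mul_mem hτ hσ) (inv_mem hτ)) (by simp [hσs])
    calc σ * (τ⁻¹ * β (π⁻¹⁻¹ g) * (τ⁻¹ * β (π⁻¹⁻¹ g'))⁻¹)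
        = τ⁻¹ * ((τ * σ * τ⁻¹) * (β (π⁻¹⁻¹ g) * (β (π⁻¹⁻¹ g'))⁻¹)) * τ := by group
      _ = _ := by rw [this]; group)
  rw [inv_mul_eq_iff_eq_mul] at hα
  rw [hα, rect_mul, mul_one]
  exact rect_mem_W _ hπ

end Main

end CfsgLib.ProductMax
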