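import Cfsg.Agent.Lib.ProductMax.Fixed

/-!
# A Sylow argument: elements supported on proper many slices change only the first coordinate
-/

set_option autoImplicit false

namespace CfsgLib.ProductMax

open Equiv Equiv.Perm MulAction

variable {m k : ℕ} {H : Subgroup (Perm (Pt m (k + 1)))}

/-- A Sylow-type criterion: if `Q` is a maximal `p`-subgroup of `L`, lies in the stabilisers of
`a` and of `l a`, and everything in `L` normalising it fixes `a`, then `l` fixes `a`. -/
theorem fixes_of_sylow {α : Type*} [Finite α] {p : ℕ} [Fact p.Prime] {L Q : Subgroup (Perm α)}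
    (hQL : Q ≤ L) (hQ : IsPGroup p Q)
    (hmax : ∀ y ∈ L, (∀ q, q ∈ Q ↔ y * q * y⁻¹ ∈ Q) → (∃ n : ℕ, y ^ p ^ n = 1) → y ∈ Q)
    {a : α} (hfix : ∀ y ∈ L, (∀ q, q ∈ Q ↔ y * q * y⁻¹ ∈ Q) → y a = a)
    {l : Perm α} (hl : l ∈ L) (hQa : ∀ q ∈ Q, q a = a) (hQb : ∀ q ∈ Q, q (l a) = l a) : l a = a := by
  classical
  -- `Q` is maximal among the `p`-subgroups of `L`
  have hmax' : ∀ {Q1 : Subgroup (Perm α)}, IsPGroup p Q1 → Q ≤ Q1 → Q1 ≤ L → Q1 = Q := by
    intro Q1 hQ1 hle hL
    by_contra hne
    haveI := hQ1.isNilpotent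
    have hlt : Q.subgroupOf Q1 < ⊤ := lt_top_iff_ne_top.2 fun e =>
      hne (le_antisymm (Subgroup.subgroupOf_eq_top.1 e) hle)
    obtain ⟨y, hy, hyn⟩ := SetLike.exists_of_lt (Group.normalizerCondition_of_isNilpotent _ hlt)
    refine hyn (Subgroup.mem_subgroupOf.2 (hmax _ (hL y.2) (fun q => ?_) ?_))
    · by_cases hq : q ∈ Q1
      · have := Subgroup.mem_normalizer_iff.1 hy ⟨q, hq⟩
        simpa [Subgroup.mem_subgroupOf] using this
      · refine ⟨fun e => absurd (hle e) hq, fun e => absurd ?_ hq⟩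
        have := Q1.mul_mem (Q1.mul_mem (Q1.inv_mem y.2) (hle e)) y.2
        simpa [mul_assoc] using this
    · obtain ⟨n, hn⟩ := hQ1 y
      exact ⟨n, by simpa using congrArg Subtype.val hn⟩
  -- the stabiliser of the image point
  let Lb : Subgroup (Perm α) := L ⊓ stabilizer (Perm α) (l a)
  let Q2 : Subgroup (Perm α) := Q.map (MulAut.conj l).toMonoidHom
  have mem2 : ∀ {x}, x ∈ Q2 ↔ l⁻¹ * x * l ∈ Q := by
    intro x
    constructor
    · rintro ⟨q, hq, rfl⟩
      simpa [mul_assoc] using hq
    · intro hx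
      exact ⟨_, hx, by simp [mul_assoc]⟩
  have hQ2b : Q2 ≤ Lb := by
    rintro x ⟨q, hq, rfl⟩
    refine ⟨L.mul_mem (L.mul_mem hl (hQL hq)) (L.inv_mem hl), ?_⟩
    show (l * q * l⁻¹) (l a) = l a
    rw [Perm.mul_apply, Perm.mul_apply, inv_app, hQa q hq]
  have hQb' : Q ≤ Lb := fun q hq => ⟨hQL hq, hQb q hq⟩
  let S1 : Sylow p Lb :=
    { toSubgroup := Q.subgroupOf Lb
      isPGroup' := hQ.comap_subtype
      is_maximal' := by
        intro K hK hle
        refine le_antisymm (fun x hx => ?_) hle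
        have hK' : IsPGroup p (K.map Lb.subtype) := hK.map _
        have : K.map Lb.subtype = Q := hmax' hK' (fun q hq => ⟨⟨q, hQb' hq⟩, hle hq, rfl⟩)
          (fun z ⟨w, _, hw⟩ => hw ▸ w.2.1)
        exact this ▸ (Subgroup.mem_map_of_mem Lb.subtype hx) }
  let S2 : Sylow p Lb :=
    { toSubgroup := Q2.subgroupOf Lb
      isPGroup' := (hQ.map _).comap_subtype
      is_maximal' := by
        intro K hK hle
        refine le_antisymm (fun x hx => ?_) hle
        let K' : Subgroup (Perm α) := (K.map Lb.subtype).map (MulAut.conj l⁻¹).toMonoidHom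
        have hK' : IsPGroup p K' := (hK.map _).map _
        have e : K' = Q := hmax' hK' (fun q hq => by
            refine ⟨l * q * l⁻¹, ⟨⟨_, hQ2b ⟨q, hq, rfl⟩⟩, hle ?_, rfl⟩, by simp [mul_assoc]⟩
            exact Subgroup.mem_subgroupOf.2 ⟨q, hq, rfl⟩) (by
            rintro z ⟨y, ⟨w, _, rfl⟩, rfl⟩
            exact L.mul_mem (L.mul_mem (L.inv_mem hl) w.2.1) (by simpa using hl))
        show (x : Perm α) ∈ Q2
        rw [mem2, ← e]
        exact ⟨x, ⟨x, hx, rfl⟩, by simp⟩ }
  obtain ⟨y, hy⟩ := MulAction.exists_smul_eq Lb S2 S1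
  have hy' : ∀ x : Lb, x ∈ S2.toSubgroup ↔ y * x * y⁻¹ ∈ S1.toSubgroup := by
    intro x
    rw [← hy, Sylow.coe_subgroup_smul]
    simp [Subgroup.mem_pointwise_smul_iff_inv_smul_mem, mul_assoc]
  have key := hfix ((y : Perm α) * l) (L.mul_mem y.2.1 hl) (fun q => ?_)
  · rw [Perm.mul_apply] at key
    have h2 : (y : Perm α) (l a) = l a := y.2.2
    rw [h2] at key
    exact key
  · have hconj : (y : Perm α) * l * q * ((y : Perm α) * l)⁻¹ = (y : Perm α) * (l * q * l⁻¹) * (y : Perm α)⁻¹ := by
      group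
    rw [hconj]
    constructor
    · intro hq
      have hm2 : l * q * l⁻¹ ∈ Q2 := ⟨q, hq, rfl⟩
      exact (hy' ⟨_, hQ2b hm2⟩).1 hm2
    · intro hq
      have hmem : l * q * l⁻¹ ∈ Lb := by
        have := Lb.mul_mem (Lb.mul_mem (Lb.inv_mem y.2) (hQb' hq)) y.2
        simpa [mul_assoc] using this
      have : l * q * l⁻¹ ∈ Q2 := (hy' ⟨_, hmem⟩).2 hq
      rw [mem2] at this
      simpa [mul_assoc] using this

/-- An element of the group supported on the slices over a proper subset of values changes only the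
first coordinate. -/
theorem Setup.supp_const (h : Setup m k H) {S : Finset (Fin m)} (hS : S ≠ Finset.univ)
    {x : Perm (Pt m (k + 1))} (hx : x ∈ supp H S) : ∃ α, x = rect α 1 := by
  classical
  suffices key : ∀ {S : Finset (Fin m)}, 4 ≤ S.card → S ≠ Finset.univ →
      ∀ {x : Perm (Pt m (k + 1))}, x ∈ supp H S → ∃ α, x = rect α 1 by
    rcases Nat.lt_or_ge S.card 4 with hlt | hge
    · obtain ⟨S', hsub, hcard⟩ := Finset.exists_superset_card_eq (s := S) (n := 4) hlt.le
        (by have := h.hm; rw [Fintype.card_fin]; omega)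
      refine key (S := S') hcard.ge (fun e => ?_) (supp_mono hsub hx)
      have := h.hm
      rw [e, Finset.card_univ, Fintype.card_fin] at hcard
      omega
    · exact key hge hS hx
  clear hS hx x S
  intro S
  induction hn : S.card using Nat.strong_induction_on generalizing S with
  | _ N ih =>
  subst hn
  intro h4 hS x hx
  -- no element moves a point inside its slice to another line
  have same : ∀ b ∈ S, ∀ (g g' : Pt m k), ∀ l ∈ supp H S, l (pt b g) = pt b g' → g = g' := by
    intro b hbS g g' l hl hlg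
    set T := S.erase b with hT
    have hbT : b ∉ T := Finset.notMem_erase b S
    have hT3 : 3 ≤ T.card := by rw [hT, Finset.card_erase_of_mem hbS]; omega
    have hTS : T ⊆ S := Finset.erase_subset b S
    have hTne : T ≠ Finset.univ := fun e => hbT (e ▸ Finset.mem_univ b)
    let A0 : Subgroup (Perm (Fin m)) := within T ⊓ H.comap (coord (m := m) (0 : Fin (k + 1)))
    have hA0 : ∀ {σ}, σ ∈ within T → Perm.sign σ = 1 → σ ∈ A0 := fun hσ hs =>
      ⟨hσ, h.good.coord_mem_of_even 0 hs⟩
    obtain ⟨p, hp⟩ : ∃ p, p = T.card.minFac := ⟨_, rfl⟩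
    haveI : Fact p.Prime := ⟨hp ▸ Nat.minFac_prime (by omega)⟩
    let N : Subgroup A0 := (within T ⊓ alternatingGroup (Fin m)).subgroupOf A0
    obtain ⟨Q, hQN⟩ : ∃ Q : Sylow p A0, T.card = 3 → N ≤ Q := by
      by_cases h3 : T.card = 3
      · have hN : IsPGroup p N := fun y => ⟨1, by
          rw [hp, h3, show (3 : ℕ).minFac = 3 by norm_num, pow_one]
          ext1; ext1
          exact pow_three_of_within h3.le y.2.1 y.2.2⟩
        obtain ⟨Q, hQ⟩ := hN.exists_le_sylow
        exact ⟨Q, fun _ => hQ⟩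
      · exact ⟨default, fun e => absurd e h3⟩
    -- the Sylow subgroup fixes no value in `T`
    have hmove : ∀ v ∈ T, ∃ q ∈ Q, (q : Perm (Fin m)) v ≠ v := by
      intro v hv
      by_contra! hall
      have hle : (Q : Subgroup A0) ≤ stabilizer A0 v := fun q hq => hall q hq
      have horb : orbit A0 v = (T : Set (Fin m)) := by
        ext u
        constructor
        · rintro ⟨q, rfl⟩
          exact within_mem q.2.1 hv
        · intro hu
          obtain ⟨σ, hσ, hs, rfl⟩ := exists_within_even hT3 hv hu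
          exact ⟨⟨σ, hA0 hσ hs⟩, rfl⟩
      have h1 := Subgroup.index_dvd_of_le hle
      rw [MulAction.index_stabilizer, horb, Set.ncard_coe_finset] at h1
      exact Q.not_dvd_index ((hp ▸ Nat.minFac_dvd T.card : p ∣ T.card).trans h1)
    let Q0 : Subgroup (Perm (Pt m (k + 1))) :=
      ((Q : Subgroup A0).map A0.subtype).map (coord (0 : Fin (k + 1)))
    have mem0 : ∀ {y}, y ∈ Q0 ↔ ∃ q : A0, q ∈ Q ∧ y = rect (q : Perm (Fin m)) 1 := by
      intro y
      constructor
      · rintro ⟨_, ⟨q, hq, rfl⟩, rfl⟩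
        exact ⟨q, hq, coord_zero_eq _⟩
      · rintro ⟨q, hq, rfl⟩
        exact ⟨q, ⟨q, hq, rfl⟩, coord_zero_eq _⟩
    have hQ0S : Q0 ≤ supp H S := by
      intro y hy
      obtain ⟨q, hq, rfl⟩ := mem0.1 hy
      refine ⟨by rw [← coord_zero_eq]; exact q.2.2, fun f hf => ?_⟩
      rw [← pt_tl f, rect_pt, q.2.1 _ fun e => hf (hTS e)]
      rfl
    have hQb : ∀ g'' : Pt m k, ∀ y ∈ Q0, y (pt b g'') = pt b g'' := by
      intro g'' y hy
      obtain ⟨q, hq, rfl⟩ := mem0.1 hy
      rw [rect_pt, q.2.1 b hbT]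
      rfl
    -- everything normalising it changes the first coordinate only
    have hnorm : ∀ z ∈ supp H S, (∀ q, q ∈ Q0 ↔ z * q * z⁻¹ ∈ Q0) →
        ∃ α ∈ A0, z = rect α 1 := by
      intro z hz hzQ
      have hzb : ∀ g'', z (pt b g'') 0 = b := by
        intro g''
        by_contra hne
        have hS' : z (pt b g'') 0 ∈ S := supp_apply_mem hz (by simpa using hbS)
        obtain ⟨q, hq, hqv⟩ := hmove _ (Finset.mem_erase.2 ⟨hne, hS'⟩)
        have hy : rect (q : Perm (Fin m)) 1 ∈ Q0 := mem0.2 ⟨q, hq, rfl⟩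
        have h2 : z⁻¹ * rect (q : Perm (Fin m)) 1 * z ∈ Q0 := by
          rw [hzQ]; simpa [mul_assoc] using hy
        have := hQb g'' _ h2
        rw [Perm.mul_apply, Perm.mul_apply, Perm.inv_eq_iff_eq] at this
        rw [← pt_tl (z (pt b g'')), rect_pt] at this
        exact hqv (pt_inj.1 this).1
      have hzib : ∀ g'', z⁻¹ (pt b g'') 0 = b := by
        intro g''
        have hinj : Function.Injective fun g : Pt m k => tl (z (pt b g)) := fun u u' e => by
          have : z (pt b u) = z (pt b u') := by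
            rw [← pt_tl (z (pt b u)), ← pt_tl (z (pt b u')), hzb, hzb]
            exact congrArg (pt b) e
          exact (pt_inj.1 (z.injective this)).2
        obtain ⟨g3, hg3⟩ := (Finite.injective_iff_surjective.1 hinj) g''
        have e : z (pt b g3) = pt b g'' := by
          rw [← pt_tl (z (pt b g3)), hzb]; exact congrArg (pt b) hg3
        rw [← e, inv_app, pt_zero]
      obtain ⟨α, rfl⟩ := piece_const h hS hbS h4 hz hzb fun σ hσ hs => by
        rcases Nat.lt_or_ge T.card 4 with hlt | hge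
        · have hmem : rect σ 1 ∈ Q0 := mem0.2 ⟨⟨σ, hA0 hσ hs⟩, hQN (by omega)
            (Subgroup.mem_subgroupOf.2 ⟨hσ, hs⟩), rfl⟩
          obtain ⟨q, -, hq⟩ := mem0.1 ((hzQ _).1 hmem)
          exact ⟨_, hq⟩
        · refine ih T.card (Finset.card_erase_lt_of_mem hbS) rfl hge hTne ⟨?_, fun f hf => ?_⟩
          · exact H.mul_mem (H.mul_mem hz.1 (h.rect_even_mem hs)) (H.inv_mem hz.1)
          · have h0 : z⁻¹ f 0 ∉ T := by
              rw [← pt_tl f]
              by_cases hfb : f 0 = b
              · rw [hfb, hzib]; exact hbT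
              · have : f 0 ∉ S := fun e => hf (Finset.mem_erase.2 ⟨hfb, e⟩)
                have e : z⁻¹ (pt (f 0) (tl f)) = pt (f 0) (tl f) := by
                  rw [pt_tl]; exact ((supp H S).inv_mem hz).2 f this
                rw [e, pt_zero]
                exact hf
            rw [Perm.mul_apply, Perm.mul_apply]
            conv_lhs => rw [← pt_tl (z⁻¹ f), rect_pt, hσ _ h0, Perm.one_apply, pt_tl, app_inv]
      refine ⟨α, ⟨fun v hv => ?_, ?_⟩, rfl⟩
      · obtain ⟨g0⟩ : Nonempty (Pt m k) := ⟨fun _ => b⟩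
        by_cases hvb : v = b
        · subst hvb; simpa using hzb g0
        · have := hz.2 (pt v g0) fun e => hv (Finset.mem_erase.2 ⟨hvb, e⟩)
          rw [rect_pt, pt_inj] at this
          exact this.1
      · show coord 0 α ∈ H
        rw [coord_zero_eq]; exact hz.1
    have hfixed := fixes_of_sylow (p := p) (L := supp H S) (Q := Q0) hQ0S ((Q.isPGroup'.map _).map _)
      (fun y hy hyn hpow => by
        obtain ⟨α, hα, rfl⟩ := hnorm y hy hyn
        set a : A0 := ⟨α, hα⟩
        have ha : a ∈ Subgroup.normalizer ((Q : Subgroup A0) : Set A0) := by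
          refine Subgroup.mem_normalizer_iff.2 fun q => ?_
          have := hyn (rect (q : Perm (Fin m)) 1)
          rw [rect_inv, rect_mul, rect_mul, mem0, mem0] at this
          have inj : ∀ {s t : Perm (Fin m)}, rect (k := k) s 1 = rect t 1 → s = t := by
            intro s t e
            ext v : 1
            have := congrArg (fun e : Perm (Pt m (k + 1)) => e (pt v g) 0) e
            simpa using this
          constructor
          · intro hq
            obtain ⟨q', hq', e⟩ := this.1 ⟨q, hq, rfl⟩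
            simp only [mul_one, inv_one] at e
            have e' : a * q * a⁻¹ = q' := Subtype.ext (inj e)
            rwa [e']
          · intro hq
            obtain ⟨q', hq', e⟩ := this.2 ⟨a * q * a⁻¹, hq, by simp [a]⟩
            have e' : q = q' := Subtype.ext (inj e)
            rwa [e']
        have hap : IsPGroup p (Subgroup.zpowers a) := by
          obtain ⟨n, hn⟩ := hpow
          have : a ^ p ^ n = 1 := by
            rw [rect_pow] at hn
            ext v : 2
            have := congrArg (fun e : Perm (Pt m (k + 1)) => e (pt v g) 0) hn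
            simpa [a] using this
          rintro ⟨z, j, rfl⟩
          refine ⟨n, Subtype.ext ?_⟩
          show (a ^ j) ^ p ^ n = 1
          rw [← zpow_natCast, ← zpow_mul, mul_comm, zpow_mul, zpow_natCast, this, one_zpow]
        have hle : Subgroup.zpowers a ⊓ Subgroup.normalizer ((Q : Subgroup A0) : Set A0) =
            Subgroup.zpowers a ⊓ Q := hap.inf_normalizer_sylow Q
        have : a ∈ Subgroup.zpowers a ⊓ Q := hle ▸ ⟨Subgroup.mem_zpowers a, ha⟩
        exact mem0.2 ⟨a, this.2, rfl⟩)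
      (a := pt b g)
      (fun y hy hyn => by
        obtain ⟨α, hα, rfl⟩ := hnorm y hy hyn
        rw [rect_pt, hα.1 b hbT]; rfl)
      hl (fun q hq => hQb g q hq) (fun q hq => by rw [hlg]; exact hQb g' q hq)
    rw [hlg] at hfixed
    exact (pt_inj.1 hfixed).2.symm
  refine h.eq_rect_of_tl hx.1 fun f => ?_
  obtain ⟨v, g, rfl⟩ : ∃ v g, f = pt v g := ⟨f 0, tl f, (pt_tl f).symm⟩
  rw [tl_pt]
  by_cases hv : v ∈ S
  swap
  · rw [hx.2 _ hv, tl_pt]
  by_contra hne
  have hc : x (pt v g) 0 ∈ S := supp_apply_mem hx hv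
  obtain ⟨i, α, hα, hfix, hmove⟩ := exists_lift_fix_move h.hm (Ne.symm hne : g ≠ tl (x (pt v g)))
  set u : Perm (Pt m k) := coord i α
  have hu := h.lift_mem (isLift_coord i hα)
  have hx' : rect 1 u * x * (rect 1 u)⁻¹ ∈ supp H S := ⟨H.mul_mem (H.mul_mem hu hx.1) (H.inv_mem hu),
    fun f hf => by
      rw [Perm.mul_apply, Perm.mul_apply, rect_inv, ← pt_tl f, rect_pt, inv_one, Perm.one_apply,
        hx.2 _ (by simpa using hf), rect_pt, Perm.one_apply, app_inv]⟩
  have e : (rect 1 u * x * (rect 1 u)⁻¹ * x⁻¹) (x (pt v g)) = pt (x (pt v g) 0) (u (tl (x (pt v g)))) := by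
    have hinv : u⁻¹ g = g := by rw [Perm.inv_eq_iff_eq, hfix]
    simp only [Perm.mul_apply, inv_app, rect_inv, inv_one, rect_pt, Perm.one_apply, hinv]
    conv_lhs => rw [← pt_tl (x (pt v g)), rect_pt, Perm.one_apply]
  have := same _ hc (tl (x (pt v g))) (u (tl (x (pt v g)))) _
    ((supp H S).mul_mem hx' ((supp H S).inv_mem hx)) (by rw [pt_tl]; exact e)
  exact hmove this.symm

end CfsgLib.ProductMax
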